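import Cfsg.Agent.H12.SmallPrimeDegree
import Mathlib.GroupTheory.Transfer

set_option autoImplicit false
set_option linter.unusedSectionVars false

/-! Non-solvable transitive groups of degree 7 (S0678) and preliminaries for degree 11. -/

namespace Cfsg.Agent.H12

open MulAction

section

variable {α : Type*} [Fintype α] [DecidableEq α] {p : ℕ} [hp : Fact p.Prime]

/-- a reflection `a ↦ c - a` of `ZMod p` is odd for `p ≡ 3 mod 4` -/
theorem sign_reflection (hα : Fintype.card α = p) (hp4 : p % 4 = 3) (t : Equiv.Perm α)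
    (e : α ≃ ZMod p) (c : ZMod p) (hc : ∀ a, e (t a) = c - e a) : Equiv.Perm.sign t = -1 := by
  have hp2' : (2 : ZMod p) ≠ 0 := by
    intro h
    have h2'' : ((2 : ℕ) : ZMod p) = 0 := by exact_mod_cast h
    rw [ZMod.natCast_eq_zero_iff] at h2''
    have := Nat.le_of_dvd (by norm_num) h2''
    omega
  have ht2 : t ^ 2 = 1 := by
    rw [pow_two]
    apply Equiv.Perm.ext
    intro a
    apply e.injective
    rw [Equiv.Perm.mul_apply, hc, hc, Equiv.Perm.one_apply]
    ring
  have hfix : Fintype.card (Function.fixedPoints t) = 1 := by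
    rw [Fintype.card_eq_one_iff]
    have hmem : ∀ a, t a = a ↔ e a = c / 2 := by
      intro a
      rw [← e.injective.eq_iff, hc, eq_div_iff hp2', sub_eq_iff_eq_add]
      constructor
      · intro h; rw [h]; ring
      · intro h; rw [← h]; ring
    refine ⟨⟨e.symm (c / 2), (hmem _).2 (by rw [Equiv.apply_symm_apply])⟩, ?_⟩
    rintro ⟨a, ha⟩
    apply Subtype.ext
    apply e.injective
    rw [(hmem a).1 ha, Equiv.apply_symm_apply]
  rw [Equiv.Perm.sign_of_pow_two_eq_one ht2, hfix, hα]
  have : Odd ((p - 1) / 2) := by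
    rw [Nat.odd_iff]; omega
  exact this.neg_one_pow

theorem normalizer_not_even (hα : Fintype.card α = p) (hp4 : p % 4 = 3)
    (G : Subgroup (Equiv.Perm α)) [IsPretransitive G α] (hA : G ≤ alternatingGroup α)
    (P : Sylow p G) :
    ¬ 2 ∣ Nat.card (Subgroup.normalizer ((P : Subgroup G) : Set G)) := by
  intro hev
  obtain ⟨hPcard, x, hx, hPx⟩ := sylow_eq_zpowers hα G P
  have hx' : orderOf (x : Equiv.Perm α) = p := by rw [Subgroup.orderOf_coe, hx]
  obtain ⟨e, he⟩ := exists_coords hα x hx'
  have hfact : Fact (Nat.Prime 2) := ⟨Nat.prime_two⟩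
  obtain ⟨t, ht⟩ := exists_prime_orderOf_dvd_card'
    (G := Subgroup.normalizer ((P : Subgroup G) : Set G)) 2 hev
  have ht2 : ((t : G) : Equiv.Perm α) * ((t : G) : Equiv.Perm α) = 1 := by
    have := pow_orderOf_eq_one t
    rw [ht, pow_two] at this
    exact congrArg (fun z : Subgroup.normalizer ((P : Subgroup G) : Set G) =>
      ((z : G) : Equiv.Perm α)) this
  have ht1 : ((t : G) : Equiv.Perm α) ≠ 1 := by
    intro h1
    have : t = 1 := Subtype.ext (Subtype.ext h1)
    rw [this, orderOf_one] at ht
    omega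
  have hn : ((t : G) : Equiv.Perm α) * x * ((t : G) : Equiv.Perm α)⁻¹ ∈
      Subgroup.zpowers (x : Equiv.Perm α) := by
    have h1 : (t : G) * x * (t : G)⁻¹ ∈ (P : Subgroup G) := by
      have h2 := (Subgroup.mem_normalizer_iff.1 t.2 x).1
        ((SetLike.ext_iff.1 hPx x).2 (Subgroup.mem_zpowers x))
      exact h2
    obtain ⟨k, hk⟩ := Subgroup.mem_zpowers_iff.1 ((SetLike.ext_iff.1 hPx _).1 h1)
    rw [Subgroup.mem_zpowers_iff]
    exact ⟨k, by
      have := congrArg (fun z : G => (z : Equiv.Perm α)) hk
      simpa using this⟩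
  obtain ⟨c, hc⟩ := exists_reflection (by omega) (x : Equiv.Perm α) (t : G) e he ht1 ht2 hn
  have h1 := sign_reflection hα hp4 _ e c hc
  have h2 : Equiv.Perm.sign ((t : G) : Equiv.Perm α) = 1 := hA (t : G).2
  rw [h1] at h2
  exact absurd h2 (by decide)

/-- Burnside transfer: in a non-solvable group of prime degree the Sylow normalizer is larger than
the Sylow subgroup. -/
theorem normalizer_ne_sylow (hα : Fintype.card α = p) (G : Subgroup (Equiv.Perm α))
    [IsPretransitive G α] (hG : ¬ Group.IsSolvable G) (P : Sylow p G) :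
    Nat.card (Subgroup.normalizer ((P : Subgroup G) : Set G)) ≠ p := by
  intro hN
  have hPc := (sylow_eq_zpowers hα G P).1
  have hNP : (P : Subgroup G) = Subgroup.normalizer ((P : Subgroup G) : Set G) :=
    Subgroup.eq_of_le_of_card_ge Subgroup.le_normalizer (by rw [hN, hPc])
  have hle : Subgroup.normalizer ((P : Subgroup G) : Set G) ≤
      Subgroup.centralizer ((P : Subgroup G) : Set G) := by
    rw [centralizer_sylow_prime_degree hα G P, ← hNP]
  have hprim : IsPreprimitive G α := IsPreprimitive.of_prime_card (by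
    rw [Nat.card_eq_fintype_card, hα]; exact hp.out)
  have hcomp := MonoidHom.ker_transferSylow_isComplement' P hle
  have hnd := MonoidHom.not_dvd_card_ker_transferSylow P hle
  by_cases hK : (MonoidHom.transferSylow P hle).ker = ⊥
  · apply hG
    have h1 := hcomp.card_mul_card
    rw [hK, Subgroup.card_bot, one_mul, hPc] at h1
    have hcyc : IsCyclic G := isCyclic_of_prime_card h1.symm
    refine Group.isSolvable_of_comm fun a b => ?_
    obtain ⟨g, hg⟩ := hcyc.exists_generator
    obtain ⟨i, rfl⟩ := Subgroup.mem_zpowers_iff.1 (hg a)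
    obtain ⟨j, rfl⟩ := Subgroup.mem_zpowers_iff.1 (hg b)
    rw [← zpow_add, ← zpow_add, add_comm]
  · have htr := normal_isPretransitive _ hK
    apply hnd
    obtain ⟨a⟩ : Nonempty α := by rw [← Fintype.card_pos_iff, hα]; exact hp.out.pos
    have h1 := index_stabilizer_of_transitive (MonoidHom.transferSylow P hle).ker a
    rw [Nat.card_eq_fintype_card, hα] at h1
    conv_lhs => rw [← h1]
    exact Subgroup.index_dvd_card _

theorem isPretransitive_of_orderOf (hα : Fintype.card α = p) (H : Subgroup (Equiv.Perm α))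
    (x : Equiv.Perm α) (hxH : x ∈ H) (hx : orderOf x = p) : IsPretransitive H α := by
  obtain ⟨e, he⟩ := exists_coords hα x hx
  have h4 : ∀ (n : ℕ) (a : α), e ((x ^ n) a) = e a + n := by
    intro n
    induction n with
    | zero => intro a; simp
    | succ n ih =>
      intro a
      rw [pow_succ', Equiv.Perm.mul_apply, he, ih]
      push_cast
      ring
  refine ⟨fun a b => ⟨⟨x ^ (e b - e a).val, H.pow_mem hxH _⟩, ?_⟩⟩
  change (x ^ (e b - e a).val) a = b
  apply e.injective
  rw [h4, ZMod.natCast_val, ZMod.cast_id]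
  ring

/-- the even part of a non-solvable transitive group of odd prime degree -/
theorem even_part (hα : Fintype.card α = p) (hp2 : p ≠ 2) (G : Subgroup (Equiv.Perm α))
    [IsPretransitive G α] (hG : ¬ Group.IsSolvable G) :
    IsPretransitive (G ⊓ alternatingGroup α : Subgroup (Equiv.Perm α)) α ∧
      ¬ Group.IsSolvable (G ⊓ alternatingGroup α : Subgroup (Equiv.Perm α)) ∧
      (G ≤ alternatingGroup α ∨
        Nat.card G = 2 * Nat.card (G ⊓ alternatingGroup α : Subgroup (Equiv.Perm α))) := by
  refine ⟨?_, ?_, ?_⟩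
  · obtain ⟨x, hxG, hx⟩ := exists_orderOf_prime_degree hα G
    refine isPretransitive_of_orderOf hα _ x ⟨hxG, ?_⟩ hx
    change Equiv.Perm.sign x = 1
    have h1 : Equiv.Perm.sign x ^ p = 1 := by
      rw [← map_pow, ← hx, pow_orderOf_eq_one, map_one]
    rcases Int.units_eq_one_or (Equiv.Perm.sign x) with h | h
    · exact h
    · rw [h, Odd.neg_one_pow (hp.out.odd_of_ne_two hp2)] at h1
      exact absurd h1 (by decide)
  · intro hsol
    apply hG
    let f : (G ⊓ alternatingGroup α : Subgroup (Equiv.Perm α)) →* G :=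
      Subgroup.inclusion inf_le_left
    let s : G →* ℤˣ := (Equiv.Perm.sign).comp G.subtype
    refine Group.isSolvable_of_ker_le_range f s ?_
    intro g hg
    exact ⟨⟨g, g.2, hg⟩, rfl⟩
  · by_cases hA : G ≤ alternatingGroup α
    · exact Or.inl hA
    · right
      let s : G →* ℤˣ := (Equiv.Perm.sign).comp G.subtype
      have hs : Function.Surjective s := by
        obtain ⟨g, hg, hgA⟩ := Set.not_subset.1 hA
        intro u
        rcases Int.units_eq_one_or u with rfl | rfl
        · exact ⟨1, map_one s⟩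
        · refine ⟨⟨g, hg⟩, ?_⟩
          rcases Int.units_eq_one_or (Equiv.Perm.sign g) with h | h
          · exact absurd h hgA
          · exact h
      have h1 := Subgroup.card_mul_index s.ker
      rw [Subgroup.index_ker, MonoidHom.range_eq_top.2 hs, Subgroup.card_top] at h1
      have h2 : Nat.card ℤˣ = 2 := by
        rw [Nat.card_eq_fintype_card]; rfl
      have h3 : Nat.card s.ker = Nat.card (G ⊓ alternatingGroup α : Subgroup (Equiv.Perm α)) := by
        refine Nat.card_congr (Equiv.ofBijective (fun g => (⟨(g : G), (g : G).2, g.2⟩ :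
          (G ⊓ alternatingGroup α : Subgroup (Equiv.Perm α)))) ⟨?_, ?_⟩)
        · intro a b hab
          apply Subtype.ext
          apply Subtype.ext
          exact congrArg (fun z : (G ⊓ alternatingGroup α : Subgroup (Equiv.Perm α)) =>
            (z : Equiv.Perm α)) hab
        · rintro ⟨g, hg, hgA⟩
          exact ⟨⟨⟨g, hg⟩, hgA⟩, rfl⟩
      rw [h2, h3] at h1
      omega

theorem dvd_card_of_multiplyPretransitive_two {G : Subgroup (Equiv.Perm α)}
    (h2 : IsMultiplyPretransitive G α 2) (hc : 2 ≤ Fintype.card α) :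
    Fintype.card α * (Fintype.card α - 1) ∣ Nat.card G := by
  obtain ⟨s, -, hs⟩ := Finset.exists_subset_card_eq
    (s := (Finset.univ : Finset α)) (n := 2) (by rw [Finset.card_univ]; exact hc)
  have h1 := h2.index_of_fixingSubgroup_mul (s := (s : Set α)) (by
    rw [Set.ncard_coe_finset, hs])
  rw [Nat.card_eq_fintype_card] at h1
  obtain ⟨n, hn⟩ : ∃ n, Fintype.card α = n + 2 := ⟨Fintype.card α - 2, by omega⟩
  rw [hn] at h1 ⊢
  rw [show n + 2 - 2 = n by omega, Nat.factorial_succ, Nat.factorial_succ, ← mul_assoc] at h1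
  have h3 := Nat.eq_of_mul_eq_mul_right (Nat.factorial_pos n) h1
  have : n + 2 - 1 = n + 1 := by omega
  rw [this, ← h3]
  exact Subgroup.index_dvd_card _

theorem dvd_card_of_multiplyPretransitive_three {G : Subgroup (Equiv.Perm α)}
    (h2 : IsMultiplyPretransitive G α 3) (hc : 3 ≤ Fintype.card α) :
    Fintype.card α * (Fintype.card α - 1) * (Fintype.card α - 2) ∣ Nat.card G := by
  obtain ⟨s, -, hs⟩ := Finset.exists_subset_card_eq
    (s := (Finset.univ : Finset α)) (n := 3) (by rw [Finset.card_univ]; exact hc)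
  have h1 := h2.index_of_fixingSubgroup_mul (s := (s : Set α)) (by
    rw [Set.ncard_coe_finset, hs])
  rw [Nat.card_eq_fintype_card] at h1
  obtain ⟨n, hn⟩ : ∃ n, Fintype.card α = n + 3 := ⟨Fintype.card α - 3, by omega⟩
  rw [hn] at h1 ⊢
  rw [show n + 3 - 3 = n by omega, Nat.factorial_succ, Nat.factorial_succ, Nat.factorial_succ,
    ← mul_assoc, ← mul_assoc] at h1
  have h3 := Nat.eq_of_mul_eq_mul_right (Nat.factorial_pos n) h1
  have e1 : n + 3 - 1 = n + 1 + 1 := by omega
  have e2 : n + 3 - 2 = n + 1 := by omega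
  rw [e1, e2, ← h3]
  exact Subgroup.index_dvd_card _


/-- the order of a non-solvable transitive group of degree 7 -/
theorem card_degree_seven {α : Type*} [Fintype α] [DecidableEq α] (hα : Fintype.card α = 7)
    (G : Subgroup (Equiv.Perm α)) [IsPretransitive G α] (hG : ¬ Group.IsSolvable G)
    (hA : ¬ alternatingGroup α ≤ G) : Nat.card G = 168 := by
  have : Fact (Nat.Prime 7) := ⟨by norm_num⟩
  obtain ⟨htr, hns, hcase⟩ := even_part hα (by norm_num) G hG
  obtain ⟨H, hH⟩ : ∃ H : Subgroup (Equiv.Perm α), H = G ⊓ alternatingGroup α := ⟨_, rfl⟩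
  rw [← hH] at htr hns hcase
  have hHA : H ≤ alternatingGroup α := hH ▸ inf_le_right
  have hHG : H ≤ G := hH ▸ inf_le_left
  have hcardA : Nat.card (alternatingGroup α) = 2520 := by
    have hnt : Nontrivial α := Fintype.one_lt_card_iff_nontrivial.1 (by omega)
    have := two_mul_nat_card_alternatingGroup (α := α)
    rw [Nat.card_perm, Nat.card_eq_fintype_card (α := α), hα] at this
    have h7 : Nat.factorial 7 = 5040 := rfl
    omega
  have hHcard : Nat.card H = 168 := by
    obtain ⟨P⟩ : Nonempty (Sylow 7 H) := inferInstance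
    obtain ⟨d, n, hd, hN, hHn, hn, -⟩ := card_prime_degree hα H P
    have h2 := normalizer_not_even hα (by norm_num) H hHA P
    have h3 := normalizer_ne_sylow hα H hns P
    have h4 := dvd_card_of_multiplyPretransitive_two (burnside_prime_degree hα H hns) (by omega)
    rw [hα] at h4
    have h5 : Nat.card H ∣ 2520 := hcardA ▸ Subgroup.card_dvd_of_le hHA
    rw [hN] at h2 h3
    have hd6 : d ≤ 6 := Nat.le_of_dvd (by norm_num) hd
    have hd0 : d ≠ 0 := by
      rintro rfl
      norm_num at hd
    have hd3 : d = 3 := by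
      interval_cases d <;> omega
    subst hd3
    have hn7 : n % 7 = 1 := hn
    rw [hHn] at h4 h5
    have h6 : n ∣ 120 := by
      have : 7 * 3 * n ∣ 7 * 3 * 120 := h5
      exact Nat.dvd_of_mul_dvd_mul_left (by norm_num) this
    have h7 : 2 ∣ n := by
      have : 7 * 3 * 2 ∣ 7 * 3 * n := h4
      exact Nat.dvd_of_mul_dvd_mul_left (by norm_num) this
    have h8 : n ≤ 120 := Nat.le_of_dvd (by norm_num) h6
    have h9 : n = 8 ∨ n = 120 := by
      interval_cases n <;> omega
    rcases h9 with rfl | rfl
    · rw [hHn]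
    · exfalso
      apply hA
      have : H = alternatingGroup α := Subgroup.eq_of_le_of_card_ge hHA (by
        rw [hcardA, hHn])
      rw [← this]
      exact hHG
  rcases hcase with hc | hc
  · have : H = G := by rw [hH]; exact inf_eq_left.2 hc
    rw [← this]; exact hHcard
  · exfalso
    rw [hHcard] at hc
    obtain ⟨P⟩ : Nonempty (Sylow 7 G) := inferInstance
    obtain ⟨d, n, hd, hN, hGn, hn, -⟩ := card_prime_degree hα G P
    have hn7 : n % 7 = 1 := hn
    rw [hc] at hGn
    have h1 : d * n = 48 := by
      have : 7 * (d * n) = 7 * 48 := by rw [← mul_assoc, ← hGn]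
      exact Nat.eq_of_mul_eq_mul_left (by norm_num) this
    have hd6 : d ≤ 6 := Nat.le_of_dvd (by norm_num) hd
    have hd6' : d = 6 := by
      interval_cases d <;> omega
    have h3 := three_transitive_prime_degree hα G hG P (by rw [hN, hd6']; decide)
    have h4 := dvd_card_of_multiplyPretransitive_three h3 (by omega)
    rw [hα, hc] at h4
    norm_num at h4

theorem simple_degree_seven {α : Type*} [Fintype α] [DecidableEq α] (hα : Fintype.card α = 7)
    (G : Subgroup (Equiv.Perm α)) [IsPretransitive G α] (hG : ¬ Group.IsSolvable G)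
    (hA : ¬ alternatingGroup α ≤ G) : Nat.card G = 168 ∧ IsSimpleGroup G := by
  have : Fact (Nat.Prime 7) := ⟨by norm_num⟩
  have hcard := card_degree_seven hα G hG hA
  have hprim : IsPreprimitive G α := IsPreprimitive.of_prime_card (by
    rw [Nat.card_eq_fintype_card, hα]; norm_num)
  have hnt : Nontrivial G := by
    rw [← Finite.one_lt_card_iff_nontrivial, hcard]; norm_num
  refine ⟨hcard, ⟨fun K hK => ?_⟩⟩
  by_cases hKb : K = ⊥
  · exact Or.inl hKb
  right
  have htr := normal_isPretransitive K hKb
  obtain ⟨K', hK'⟩ : ∃ K' : Subgroup (Equiv.Perm α), K' = K.map G.subtype := ⟨_, rfl⟩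
  have e : K ≃* K' := by
    rw [hK']
    exact K.equivMapOfInjective _ G.subtype_injective
  have htr' : IsPretransitive K' α := by
    refine ⟨fun a b => ?_⟩
    obtain ⟨k, hk⟩ := htr.exists_smul_eq a b
    refine ⟨⟨((k : G) : Equiv.Perm α), ?_⟩, hk⟩
    rw [hK']
    exact ⟨k, k.2, rfl⟩
  have hK'G : K' ≤ G := by
    rw [hK']
    exact Subgroup.map_subtype_le K
  have hcK : Nat.card K' = Nat.card K := (Nat.card_congr e.toEquiv).symm
  by_cases hsol : Group.IsSolvable K'
  · -- the Sylow 7-subgroup is normal
    exfalso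
    obtain ⟨P₁⟩ : Nonempty (Sylow 7 K) := inferInstance
    have hes : Function.Surjective e.toMonoidHom := e.surjective
    have hPn := sylow_normal_of_solvable hα K' hsol (P₁.mapSurjective hes)
    have hP₁ : (P₁ : Subgroup K).Normal := by
      have h1 : (P₁ : Subgroup K) = ((P₁ : Subgroup K).map e.toMonoidHom).comap e.toMonoidHom :=
        (Subgroup.comap_map_eq_self_of_injective e.injective _).symm
      rw [h1]
      exact hPn.comap _
    have hchar := P₁.characteristic_of_normal hP₁
    have hQ : ((P₁ : Subgroup K).map K.subtype).Normal := inferInstance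
    have hQp : IsPGroup 7 ((P₁ : Subgroup K).map K.subtype) := P₁.2.map _
    obtain ⟨P, hP⟩ := hQp.exists_le_sylow
    obtain ⟨d, n, hd, hN, hGn, hn, hn'⟩ := card_prime_degree hα G P
    have hQ1 : (P₁ : Subgroup K).map K.subtype ≠ ⊥ := by
      intro h
      rw [Subgroup.map_eq_bot_iff_of_injective _ K.subtype_injective] at h
      have h1 : 7 ∣ Nat.card (P₁ : Subgroup K) := by
        apply P₁.dvd_card_of_dvd_card
        have := htr
        obtain ⟨a⟩ : Nonempty α := Fintype.card_pos_iff.1 (by omega)
        have h2 := index_stabilizer_of_transitive K a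
        rw [Nat.card_eq_fintype_card, hα] at h2
        rw [← h2]
        exact Subgroup.index_dvd_card _
      rw [h, Subgroup.card_bot] at h1
      norm_num at h1
    have hQP : (P₁ : Subgroup K).map K.subtype = (P : Subgroup G) := by
      apply Subgroup.eq_of_le_of_card_ge hP
      have h1 : Nat.card (P : Subgroup G) = 7 := (sylow_eq_zpowers hα G P).1
      rw [h1]
      have h2 : Nat.card ((P₁ : Subgroup K).map K.subtype) ∣ Nat.card (P : Subgroup G) :=
        Subgroup.card_dvd_of_le hP
      rw [h1] at h2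
      rcases (Nat.dvd_prime (by norm_num)).1 h2 with h3 | h3
      · exact absurd (Subgroup.card_eq_one.1 h3) hQ1
      · exact h3.ge
    rw [← hQP, Subgroup.normalizer_eq_top, Subgroup.card_top, hcard] at hN
    have : d = 24 := by omega
    subst this
    norm_num at hd
  · have h1 := card_degree_seven hα K' hsol (fun h => hA (h.trans hK'G))
    rw [hcK] at h1
    apply Subgroup.eq_top_of_card_eq
    rw [h1, hcard]

end

end Cfsg.Agent.H12
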