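import Cfsg.Agent.H12.Subdegree

set_option autoImplicit false
set_option linter.unusedSectionVars false

/-! Transitive groups all of whose non-principal constituents have the same degree, rank at most 5
(S0716). -/

namespace Cfsg.Agent.H12

open MulAction
open scoped ComplexConjugate
open Cfsg Cfsg.Agent.CharBase

universe u v

section

variable {G : Type u} [Group G] [Fintype G] {Ω : Type v} [Fintype Ω] [MulAction G Ω]

theorem permChar_norm [Fintype (IrrCharacter G)] {m : IrrCharacter G → ℕ}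
    (hm : ∀ ψ : IrrCharacter G, classInner (permChar G Ω) (ψ : G → ℂ) = m ψ)
    (hsum : permChar G Ω = ∑ ψ : IrrCharacter G, m ψ • (ψ : G → ℂ)) :
    Nat.card (orbitRel.Quotient G (Ω × Ω)) = ∑ ψ, m ψ ^ 2 := by
  have h := classInner_permChar G Ω Ω
  conv_lhs at h => rw [hsum]
  rw [classInner_sum_left] at h
  have h2 : ∀ ψ : IrrCharacter G, classInner (m ψ • (ψ : G → ℂ)) (permChar G Ω) = (m ψ : ℂ) ^ 2 := by
    intro ψ
    rw [← Nat.cast_smul_eq_nsmul ℂ, classInner_smul_left,
      classInner_comm_of_isCharacter (irr_isCharacter ψ) (isCharacter_permChar G Ω), hm, sq]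
  rw [← hsum, Finset.sum_congr rfl fun ψ _ => h2 ψ] at h
  exact_mod_cast h.symm

theorem card_eq_sum_suborbits {H : Type u} [Group H] {Ω : Type v} [Fintype Ω] [MulAction H Ω]
    [Fintype (orbitRel.Quotient H Ω)] :
    Fintype.card Ω = ∑ q : orbitRel.Quotient H Ω, Nat.card q.orbit := by
  rw [← Nat.card_eq_fintype_card, Nat.card_congr (selfEquivSigmaOrbits' H Ω), Nat.card_sigma]

theorem equal_degrees [IsPretransitive G Ω] (a : Ω) (f : ℕ)
    (hf : ∀ χ : G → ℂ, IsIrrCharacter G χ → χ ≠ (fun _ => 1) →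
      classInner (permChar G Ω) χ ≠ 0 → χ 1 = f) :
    (∀ χ : G → ℂ, IsIrrCharacter G χ → classInner (permChar G Ω) χ = 0 ∨
      classInner (permChar G Ω) χ = 1) ∧
    ∀ b : Ω, b ≠ a → Nat.card (orbit (stabilizer G a) b) = f := by
  classical
  have hne : Nonempty Ω := ⟨a⟩
  have hfin : Fintype (IrrCharacter G) := Fintype.ofFinite _
  obtain ⟨m, hm, hsum⟩ := exists_mult_of_isCharacter (isCharacter_permChar G Ω)
  have hnorm := permChar_norm hm hsum
  rw [card_orbits_prod_eq a] at hnorm
  have hm1 : m (oneIrr G) = 1 := by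
    have h1 := hm (oneIrr G)
    have h2 := classInner_permChar_one (G := G) (Ω := Ω)
    have h3 : classInner (permChar G Ω) ((oneIrr G : IrrCharacter G) : G → ℂ) = 1 := h2
    rw [h3] at h1
    exact_mod_cast h1.symm
  set M := ∑ ψ ∈ Finset.univ.erase (oneIrr G), m ψ with hM
  set Q := ∑ ψ ∈ Finset.univ.erase (oneIrr G), m ψ ^ 2 with hQ
  have hr : Nat.card (orbitRel.Quotient (stabilizer G a) Ω) = 1 + Q := by
    rw [hnorm, ← Finset.add_sum_erase _ _ (Finset.mem_univ (oneIrr G)), hm1, one_pow]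
  have hn : Fintype.card Ω = 1 + f * M := by
    have h1 := permChar_one G Ω
    rw [hsum, Finset.sum_apply, ← Finset.add_sum_erase _ _ (Finset.mem_univ (oneIrr G))] at h1
    have h2 : (m (oneIrr G) • ((oneIrr G : IrrCharacter G) : G → ℂ)) 1 = 1 := by
      rw [hm1, one_smul]; rfl
    have h3 : ∀ ψ ∈ Finset.univ.erase (oneIrr G), (m ψ • (ψ : G → ℂ)) 1 = (f : ℂ) * m ψ := by
      intro ψ hψ
      rw [Pi.smul_apply, nsmul_eq_mul]
      by_cases h0 : m ψ = 0
      · rw [h0]; simp
      · rw [hf ψ ψ.2 (fun h => Finset.ne_of_mem_erase hψ (Subtype.ext h)) (by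
          rw [hm]; exact_mod_cast h0), mul_comm]
    rw [h2, Finset.sum_congr rfl h3, ← Finset.mul_sum] at h1
    have h4 : ((1 + f * M : ℕ) : ℂ) = (Fintype.card Ω : ℂ) := by
      rw [← h1, hM]
      push_cast
      rfl
    exact_mod_cast h4.symm
  -- suborbits
  have hfinq : Fintype (orbitRel.Quotient (stabilizer G a) Ω) := Fintype.ofFinite _
  have hcard := card_eq_sum_suborbits (H := stabilizer G a) (Ω := Ω)
  set q0 : orbitRel.Quotient (stabilizer G a) Ω := Quotient.mk _ a with hq0
  have hd0 : Nat.card q0.orbit = 1 := by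
    have : q0.orbit = {a} := by
      rw [hq0]
      ext x
      rw [Set.mem_singleton_iff]
      constructor
      · intro hx
        obtain ⟨g, rfl⟩ : x ∈ orbit (stabilizer G a) a := by
          simpa using hx
        exact g.2
      · rintro rfl
        simp
    rw [this]
    simp
  have hdq : ∀ q : orbitRel.Quotient (stabilizer G a) Ω, q ≠ q0 →
      ∃ b, b ≠ a ∧ q.orbit = orbit (stabilizer G a) b := by
    intro q hq
    induction q using Quotient.inductionOn with | _ b =>
    refine ⟨b, ?_, ?_⟩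
    · rintro rfl
      exact hq rfl
    · rfl
  have hdvd : ∀ q : orbitRel.Quotient (stabilizer G a) Ω, q ≠ q0 → f ≤ Nat.card q.orbit := by
    intro q hq
    obtain ⟨b, hb, hqb⟩ := hdq q hq
    rw [hqb]
    apply Nat.le_of_dvd
    · have : Nonempty (orbit (stabilizer G a) b) := ⟨⟨b, mem_orbit_self b⟩⟩
      exact Nat.card_pos
    · apply dvd_subdegree f _ a b hb
      intro χ hχ h1 h2
      exact ⟨1, by rw [hf χ hχ h1 h2]; simp⟩
  rw [← Finset.add_sum_erase _ _ (Finset.mem_univ q0), hd0, hn] at hcard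
  have hcard' : f * M = ∑ q ∈ Finset.univ.erase q0, Nat.card q.orbit := by omega
  have hcardq : (Finset.univ.erase q0).card = Q := by
    rw [Finset.card_erase_of_mem (Finset.mem_univ _), Finset.card_univ,
      ← Nat.card_eq_fintype_card, hr]
    omega
  have hMQ : M ≤ Q := Finset.sum_le_sum fun ψ _ => Nat.le_self_pow (by norm_num) _
  have hle : f * Q ≤ f * M := by
    rw [hcard', mul_comm, ← hcardq, ← smul_eq_mul, ← Finset.sum_const]
    exact Finset.sum_le_sum fun q hq => hdvd q (Finset.ne_of_mem_erase hq)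
  rcases Nat.eq_zero_or_pos f with hf0 | hf0
  · subst hf0
    have hm0 : ∀ ψ, ψ ≠ oneIrr G → m ψ = 0 := by
      intro ψ hψ
      by_contra h0
      have := hf ψ ψ.2 (fun h => hψ (Subtype.ext h)) (by rw [hm]; exact_mod_cast h0)
      exact irr_one_ne_zero ψ.2 (by rw [this]; simp)
    constructor
    · intro χ hχ
      have h1 := hm ⟨χ, hχ⟩
      by_cases h : (⟨χ, hχ⟩ : IrrCharacter G) = oneIrr G
      · right
        rw [h, hm1] at h1
        have h2 : ((oneIrr G : IrrCharacter G) : G → ℂ) = χ := by rw [← h]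
        rw [← h2, h1]; simp
      · left
        rw [hm0 _ h] at h1
        simpa using h1
    · intro b hb
      exfalso
      rw [zero_mul, add_zero] at hn
      exact hb ((Fintype.card_le_one_iff.1 hn.le) b a)
  · have hQM : Q ≤ M := Nat.le_of_mul_le_mul_left hle hf0
    have hEq : M = Q := le_antisymm hMQ hQM
    constructor
    · intro χ hχ
      have h1 := hm ⟨χ, hχ⟩
      change classInner (permChar G Ω) χ = _ at h1
      rw [h1]
      by_cases h : (⟨χ, hχ⟩ : IrrCharacter G) = oneIrr G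
      · right
        rw [h, hm1]; simp
      · have h2 := (Finset.sum_eq_sum_iff_of_le (s := Finset.univ.erase (oneIrr G))
          (f := fun ψ => m ψ) (g := fun ψ => m ψ ^ 2)
          (fun ψ _ => Nat.le_self_pow (by norm_num) _)).1 hEq ⟨χ, hχ⟩
          (Finset.mem_erase.2 ⟨h, Finset.mem_univ _⟩)
        have h3 : m ⟨χ, hχ⟩ = 0 ∨ m ⟨χ, hχ⟩ = 1 := by
          rcases Nat.eq_zero_or_pos (m ⟨χ, hχ⟩) with h4 | h4
          · exact Or.inl h4
          · right
            have h5 : m ⟨χ, hχ⟩ = m ⟨χ, hχ⟩ ^ 2 := h2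
            nlinarith
        rcases h3 with h4 | h4 <;> rw [h4] <;> simp
    · intro b hb
      have h2 : ∑ q ∈ Finset.univ.erase q0, f = ∑ q ∈ Finset.univ.erase q0, Nat.card q.orbit := by
        rw [Finset.sum_const, hcardq, ← hcard', hEq, smul_eq_mul, mul_comm]
      rw [Finset.sum_eq_sum_iff_of_le
        (fun q hq => hdvd q (Finset.ne_of_mem_erase hq))] at h2
      have h3 := h2 (Quotient.mk _ b) (Finset.mem_erase.2 ⟨by
        intro h
        obtain ⟨g, hg⟩ := Quotient.exact h
        apply hb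
        rw [← hg]
        exact g.2, Finset.mem_univ _⟩)
      exact h3.symm

theorem rank_le_five [IsPretransitive G Ω] (a : Ω)
    (hr : Nat.card (orbitRel.Quotient (stabilizer G a) Ω) ≤ 5) :
    ∀ χ : G → ℂ, IsIrrCharacter G χ → classInner (permChar G Ω) χ = 0 ∨
      classInner (permChar G Ω) χ = 1 := by
  classical
  have hne : Nonempty Ω := ⟨a⟩
  have hfin : Fintype (IrrCharacter G) := Fintype.ofFinite _
  obtain ⟨m, hm, hsum⟩ := exists_mult_of_isCharacter (isCharacter_permChar G Ω)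
  have hnorm := permChar_norm hm hsum
  rw [card_orbits_prod_eq a] at hnorm
  have hm1 : m (oneIrr G) = 1 := by
    have h1 := hm (oneIrr G)
    have h2 := classInner_permChar_one (G := G) (Ω := Ω)
    have h3 : classInner (permChar G Ω) ((oneIrr G : IrrCharacter G) : G → ℂ) = 1 := h2
    rw [h3] at h1
    exact_mod_cast h1.symm
  intro χ hχ
  by_contra hcon
  push Not at hcon
  obtain ⟨hc0, hc1⟩ := hcon
  set χ' : IrrCharacter G := ⟨χ, hχ⟩ with hχ'
  have h1 : classInner (permChar G Ω) χ = m χ' := hm χ'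
  rw [h1] at hc0 hc1
  have h2 : 2 ≤ m χ' := by
    have h3 : m χ' ≠ 0 := by exact_mod_cast hc0
    have h4 : m χ' ≠ 1 := by exact_mod_cast hc1
    omega
  have hχ1 : χ' ≠ oneIrr G := by
    intro h
    rw [h, hm1] at h2
    omega
  rw [hnorm, ← Finset.add_sum_erase _ _ (Finset.mem_univ (oneIrr G)), hm1, one_pow,
    ← Finset.add_sum_erase _ _ (Finset.mem_erase.2 ⟨hχ1, Finset.mem_univ χ'⟩)] at hr
  have h5 : 2 ^ 2 ≤ m χ' ^ 2 := Nat.pow_le_pow_left h2 2
  have h6 : ∑ ψ ∈ (Finset.univ.erase (oneIrr G)).erase χ', m ψ ^ 2 = 0 := by omega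
  obtain ⟨d, hd⟩ := exists_nat_degree (irr_isCharacter χ')
  have h7 := (equal_degrees a d (by
    intro ψ hψ hψ1 hψ2
    have h8 : (⟨ψ, hψ⟩ : IrrCharacter G) = χ' := by
      by_contra hne'
      have h9 : (⟨ψ, hψ⟩ : IrrCharacter G) ∈ (Finset.univ.erase (oneIrr G)).erase χ' :=
        Finset.mem_erase.2 ⟨hne', Finset.mem_erase.2 ⟨fun h => hψ1 (congrArg Subtype.val h),
          Finset.mem_univ _⟩⟩
      have h10 := (Finset.sum_eq_zero_iff.1 h6) _ h9
      have h11 : m ⟨ψ, hψ⟩ = 0 := by simpa using h10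
      apply hψ2
      have := hm ⟨ψ, hψ⟩
      rw [h11] at this
      simpa using this
    have h12 : ψ = χ := congrArg Subtype.val h8
    rw [h12]
    exact hd)).1 χ hχ
  rw [h1] at h7
  rcases h7 with h | h
  · exact hc0 h
  · exact hc1 h

end

end Cfsg.Agent.H12
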