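import Cfsg.Agent.CharBase.Ortho
import Cfsg.Agent.H12.PermChar

set_option autoImplicit false
set_option linter.unusedSectionVars false

/-! Multiplicity free representations and commutativity of the intertwiners (S0718). -/

namespace Cfsg.Agent.H12

open scoped ComplexConjugate
open Cfsg Cfsg.Agent.CharBase Representation

universe u v w

section

variable {G : Type u} [Group G] [Fintype G]

theorem rep_char_inv {V : Type v} [AddCommGroup V] [Module ℂ V] [FiniteDimensional ℂ V]
    (ρ : Representation ℂ G V) (g : G) : ρ.character g⁻¹ = conj (ρ.character g) :=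
  isCharacter_inv (isCharacter_of_rep ρ) g

/-- dimension of the space of intertwining maps -/
theorem finrank_intertwining {V : Type v} {W : Type w} [AddCommGroup V] [Module ℂ V]
    [FiniteDimensional ℂ V] [AddCommGroup W] [Module ℂ W] [FiniteDimensional ℂ W]
    (ρ : Representation ℂ G V) (σ : Representation ℂ G W) :
    (Module.finrank ℂ (IntertwiningMap ρ σ) : ℂ) = classInner σ.character ρ.character := by
  have hne : (Nat.card G : ℂ) ≠ 0 := by exact_mod_cast Nat.card_pos.ne'
  have : Invertible (Nat.card G : ℂ) := invertibleOfNonzero hne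
  rw [← card_inv_mul_sum_char_mul_char_eq_finrank]
  unfold classInner
  congr 1
  refine Finset.sum_congr rfl fun g _ => ?_
  rw [rep_char_inv]

theorem exists_intertwining_ne_zero {V : Type v} {W : Type w} [AddCommGroup V] [Module ℂ V]
    [FiniteDimensional ℂ V] [AddCommGroup W] [Module ℂ W] [FiniteDimensional ℂ W]
    (ρ : Representation ℂ G V) (σ : Representation ℂ G W)
    (h : classInner σ.character ρ.character ≠ 0) : ∃ φ : IntertwiningMap ρ σ, φ ≠ 0 := by
  by_contra hcon
  push Not at hcon
  apply h
  rw [← finrank_intertwining]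
  have : Subsingleton (IntertwiningMap ρ σ) := ⟨fun a b => by rw [hcon a, hcon b]⟩
  rw [Module.finrank_zero_of_subsingleton]
  simp

theorem intertwining_eq_zero {V : Type v} {W : Type w} [AddCommGroup V] [Module ℂ V]
    [FiniteDimensional ℂ V] [AddCommGroup W] [Module ℂ W] [FiniteDimensional ℂ W]
    (ρ : Representation ℂ G V) (σ : Representation ℂ G W)
    (h : classInner σ.character ρ.character = 0) (φ : IntertwiningMap ρ σ) : φ = 0 := by
  have h1 := finrank_intertwining ρ σ
  rw [h] at h1
  have h2 : Module.finrank ℂ (IntertwiningMap ρ σ) = 0 := by exact_mod_cast h1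
  have h3 : Subsingleton (IntertwiningMap ρ σ) := Module.finrank_zero_iff.1 h2
  exact Subsingleton.elim _ _

section Compl

variable {V : Type v} [AddCommGroup V] [Module ℂ V] {ρ : Representation ℂ G V}

theorem isCompl_toSubmodule {U W : Subrepresentation ρ} (h : IsCompl U W) :
    IsCompl U.toSubmodule W.toSubmodule := by
  constructor
  · rw [disjoint_iff]
    exact congrArg Subrepresentation.toSubmodule (disjoint_iff.mp h.disjoint)
  · rw [codisjoint_iff]
    exact congrArg Subrepresentation.toSubmodule (codisjoint_iff.mp h.codisjoint)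

/-- equivariance of the projection onto a summand -/
theorem projectionOnto_equivariant {U W : Subrepresentation ρ} (h : IsCompl U W) (g : G) (v : V) :
    Submodule.projectionOnto U.toSubmodule W.toSubmodule (isCompl_toSubmodule h) (ρ g v) =
      U.toRepresentation g
        (Submodule.projectionOnto U.toSubmodule W.toSubmodule (isCompl_toSubmodule h) v) := by
  obtain ⟨⟨u, w⟩, huw⟩ := (Submodule.prodEquivOfIsCompl _ _ (isCompl_toSubmodule h)).surjective v
  have hv : v = u + w := by rw [← huw]; rfl
  have hgw : ρ g w ∈ W.toSubmodule := W.apply_mem_toSubmodule g w.2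
  have hgu : ρ g u ∈ U.toSubmodule := U.apply_mem_toSubmodule g u.2
  rw [hv, map_add, map_add, map_add, Submodule.projectionOnto_apply_left,
    Submodule.projectionOnto_apply_right, Submodule.projectionOnto_apply_of_mem_left _ hgu,
    Submodule.projectionOnto_apply_of_mem_right _ hgw, add_zero, add_zero]
  rfl

/-- an equivariant endomorphism maps `U` into `U` when there is no intertwining map `U → W` -/
theorem mapsTo_of_inner_zero [FiniteDimensional ℂ V] {U W : Subrepresentation ρ} (h : IsCompl U W)
    (h0 : classInner W.toRepresentation.character U.toRepresentation.character = 0)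
    (T : V →ₗ[ℂ] V) (hT : ∀ (g : G) (v : V), T (ρ g v) = ρ g (T v)) :
    ∀ u ∈ U.toSubmodule, T u ∈ U.toSubmodule := by
  intro u hu
  let φ : IntertwiningMap U.toRepresentation W.toRepresentation :=
    LinearMap.intertwiningMap_of_isIntertwiningMap _ _
      ((Submodule.projectionOnto W.toSubmodule U.toSubmodule (isCompl_toSubmodule h.symm)) ∘ₗ T ∘ₗ
        U.toSubmodule.subtype) (fun g u => by
          change Submodule.projectionOnto _ _ _ (T (ρ g u)) = _
          rw [hT, projectionOnto_equivariant h.symm]
          rfl)
  have hφ : φ = 0 := intertwining_eq_zero _ _ h0 φ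
  have h1 : φ ⟨u, hu⟩ = 0 := by rw [hφ]; rfl
  have h2 : Submodule.projectionOnto W.toSubmodule U.toSubmodule (isCompl_toSubmodule h.symm)
    (T u) = 0 := h1
  rwa [Submodule.projectionOnto_apply_eq_zero_iff] at h2

end Compl

/-- Schur: an equivariant endomorphism preserving an irreducible subrepresentation is a scalar
there. -/
theorem scalar_of_irreducible {V : Type v} [AddCommGroup V] [Module ℂ V] [FiniteDimensional ℂ V]
    {ρ : Representation ℂ G V} (U : Subrepresentation ρ)
    (hU : U.toRepresentation.IsIrreducible) (T : V →ₗ[ℂ] V)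
    (hT : ∀ (g : G) (v : V), T (ρ g v) = ρ g (T v))
    (hTU : ∀ u ∈ U.toSubmodule, T u ∈ U.toSubmodule) :
    ∃ c : ℂ, ∀ u ∈ U.toSubmodule, T u = c • u := by
  let φ : IntertwiningMap U.toRepresentation U.toRepresentation :=
    LinearMap.intertwiningMap_of_isIntertwiningMap _ _ (T.restrict hTU) (fun g u => by
      apply Subtype.ext
      exact hT g u)
  obtain ⟨c, hc⟩ := (IsIrreducible.algebraMap_intertwiningMap_bijective_of_isAlgClosed
    (ρ := U.toRepresentation) (k := ℂ)).surjective φ
  refine ⟨c, fun u hu => ?_⟩
  have h1 := congrArg (fun ψ : IntertwiningMap U.toRepresentation U.toRepresentation =>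
    ((ψ.toLinearMap ⟨u, hu⟩ : U.toSubmodule) : V)) hc
  rw [IntertwiningMap.algebraMap_apply] at h1
  exact h1.symm

/-- multiplicity-free representations have commuting intertwiners -/
theorem commute_of_multFree : ∀ (n : ℕ) {V : Type v} [AddCommGroup V] [Module ℂ V]
    [FiniteDimensional ℂ V] (ρ : Representation ℂ G V), Module.finrank ℂ V = n →
    (∀ χ : IrrCharacter G, classInner ρ.character (χ : G → ℂ) = 0 ∨
      classInner ρ.character (χ : G → ℂ) = 1) →
    ∀ S T : V →ₗ[ℂ] V, (∀ (g : G) (v : V), S (ρ g v) = ρ g (S v)) →
      (∀ (g : G) (v : V), T (ρ g v) = ρ g (T v)) → ∀ v, S (T v) = T (S v) := by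
  intro n
  induction n using Nat.strong_induction_on with
  | _ n ih =>
    intro V _ _ _ ρ hn hρ S T hS hT
    by_cases hV : Subsingleton V
    · intro v
      exact Subsingleton.elim _ _
    have hnt : Nontrivial V := not_subsingleton_iff_nontrivial.1 hV
    have htop : (⊤ : Subrepresentation ρ) ≠ ⊥ := by
      intro h
      have h1 : (⊤ : Submodule ℂ V) = ⊥ := congrArg Subrepresentation.toSubmodule h
      exact top_ne_bot h1
    obtain ⟨U, hU, -⟩ := exists_isAtom_le ρ ⊤ htop
    have hUirr := toRepresentation_isIrreducible_of_isAtom U hU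
    obtain ⟨W, hW⟩ := exists_isCompl_rep ρ U
    have hadd := character_eq_add_of_isCompl ρ hW
    let χU : IrrCharacter G := ⟨U.toRepresentation.character, isIrrCharacter_of_rep _ hUirr⟩
    have hUU : classInner U.toRepresentation.character U.toRepresentation.character = 1 :=
      classInner_irr_self χU
    have hWU : classInner W.toRepresentation.character U.toRepresentation.character = 0 := by
      obtain ⟨m, hm⟩ := classInner_natCast (isCharacter_of_rep W.toRepresentation)
        (isCharacter_of_rep U.toRepresentation)
      have h1 := hρ χU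
      change classInner ρ.character U.toRepresentation.character = 0 ∨
        classInner ρ.character U.toRepresentation.character = 1 at h1
      rw [hadd, classInner_add_left, hUU, hm] at h1
      rw [hm]
      rcases h1 with h1 | h1
      · have : 1 + m = 0 := by exact_mod_cast h1
        omega
      · have : 1 + m = 1 := by exact_mod_cast h1
        have : m = 0 := by omega
        rw [this]; simp
    have hUW : classInner U.toRepresentation.character W.toRepresentation.character = 0 := by
      rw [classInner_comm_of_isCharacter (isCharacter_of_rep _) (isCharacter_of_rep _), hWU]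
    have hSU := mapsTo_of_inner_zero hW hWU S hS
    have hTU := mapsTo_of_inner_zero hW hWU T hT
    have hSW := mapsTo_of_inner_zero hW.symm hUW S hS
    have hTW := mapsTo_of_inner_zero hW.symm hUW T hT
    obtain ⟨c, hc⟩ := scalar_of_irreducible U hUirr S hS hSU
    obtain ⟨d, hd⟩ := scalar_of_irreducible U hUirr T hT hTU
    -- the complement
    have hlt : Module.finrank ℂ W.toSubmodule < n := by
      rw [← hn]
      apply Submodule.finrank_lt
      intro h
      have h1 := (isCompl_toSubmodule hW).disjoint
      rw [h, disjoint_top] at h1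
      exact hU.1 (Subrepresentation.toSubmodule_injective h1)
    have hWmf : ∀ χ : IrrCharacter G, classInner W.toRepresentation.character (χ : G → ℂ) = 0 ∨
        classInner W.toRepresentation.character (χ : G → ℂ) = 1 := by
      intro χ
      obtain ⟨m, hm⟩ := classInner_natCast (isCharacter_of_rep W.toRepresentation)
        (irr_isCharacter χ)
      obtain ⟨k, hk⟩ := classInner_natCast (isCharacter_of_rep U.toRepresentation)
        (irr_isCharacter χ)
      have h1 := hρ χ
      rw [hadd, classInner_add_left, hk, hm] at h1
      rw [hm]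
      rcases h1 with h1 | h1
      · left
        have : k + m = 0 := by exact_mod_cast h1
        have : m = 0 := by omega
        rw [this]; simp
      · have h2 : k + m = 1 := by exact_mod_cast h1
        have : m = 0 ∨ m = 1 := by omega
        rcases this with h3 | h3 <;> rw [h3] <;> simp
    have hWcomm : ∀ w ∈ W.toSubmodule, S (T w) = T (S w) := by
      intro w hw
      have h1 := ih _ hlt W.toRepresentation rfl hWmf (S.restrict hSW) (T.restrict hTW)
        (fun g v => Subtype.ext (hS g v)) (fun g v => Subtype.ext (hT g v)) ⟨w, hw⟩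
      exact congrArg Subtype.val h1
    intro v
    obtain ⟨⟨u, w⟩, huw⟩ := (Submodule.prodEquivOfIsCompl _ _ (isCompl_toSubmodule hW)).surjective v
    have hv : v = u + w := by rw [← huw]; rfl
    rw [hv, map_add, map_add, map_add, map_add, hWcomm w w.2, hc u u.2, hd u u.2, map_smul, map_smul,
      hc u u.2, hd u u.2, smul_comm]

/-- commuting intertwiners force multiplicity-freeness -/
theorem multFree_of_commute {V : Type v} [AddCommGroup V] [Module ℂ V]
    [FiniteDimensional ℂ V] (ρ : Representation ℂ G V)
    (h : ∀ S T : V →ₗ[ℂ] V, (∀ (g : G) (v : V), S (ρ g v) = ρ g (S v)) →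
      (∀ (g : G) (v : V), T (ρ g v) = ρ g (T v)) → ∀ v, S (T v) = T (S v)) (χ : IrrCharacter G) :
    classInner ρ.character (χ : G → ℂ) = 0 ∨ classInner ρ.character (χ : G → ℂ) = 1 := by
  by_contra hcon
  push Not at hcon
  obtain ⟨h0, h1⟩ := hcon
  obtain ⟨m, σ, hσirr, hσ⟩ := χ.2
  have hχσ : (χ : G → ℂ) = σ.character := hσ.symm
  rw [hχσ] at h0 h1
  obtain ⟨φ, hφ⟩ := exists_intertwining_ne_zero σ ρ h0
  have hφinj : Function.Injective φ := (IsIrreducible.injective_or_eq_zero φ).resolve_right hφ
  let U : Subrepresentation ρ := φ.range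
  obtain ⟨W, hW⟩ := exists_isCompl_rep ρ U
  have hadd := character_eq_add_of_isCompl ρ hW
  -- U ≅ σ
  have hUσ : U.toRepresentation.character = σ.character := by
    let e : (Fin m → ℂ) ≃ₗ[ℂ] U.toSubmodule := LinearEquiv.ofInjective φ.toLinearMap hφinj
    have he : ∀ g v, e (σ g v) = U.toRepresentation g (e v) := by
      intro g v
      apply Subtype.ext
      exact IntertwiningMap.isIntertwining _ _ φ g v
    funext g
    change LinearMap.trace ℂ _ (U.toRepresentation g) = LinearMap.trace ℂ _ (σ g)
    rw [← LinearMap.trace_conj' (σ g) e]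
    congr 1
    apply LinearMap.ext
    intro u
    rw [LinearEquiv.conj_apply_apply, he, LinearEquiv.apply_symm_apply]
  have hσσ : classInner σ.character σ.character = 1 := by
    rw [← hχσ]; exact classInner_irr_self χ
  rw [hadd, classInner_add_left, hUσ, hσσ] at h1
  have h2 : classInner W.toRepresentation.character U.toRepresentation.character ≠ 0 := by
    rw [hUσ]
    intro h3
    rw [h3, add_zero] at h1
    exact h1 rfl
  obtain ⟨θ, hθ⟩ := exists_intertwining_ne_zero U.toRepresentation W.toRepresentation h2
  let πU := Submodule.projectionOnto U.toSubmodule W.toSubmodule (isCompl_toSubmodule hW)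
  let S : V →ₗ[ℂ] V := W.toSubmodule.subtype ∘ₗ θ.toLinearMap ∘ₗ πU
  let T : V →ₗ[ℂ] V := U.toSubmodule.subtype ∘ₗ πU
  have hS : ∀ (g : G) (v : V), S (ρ g v) = ρ g (S v) := by
    intro g v
    change ((θ (πU (ρ g v)) : W.toSubmodule) : V) = ρ g (θ (πU v))
    have h3 : πU (ρ g v) = U.toRepresentation g (πU v) := projectionOnto_equivariant hW g v
    rw [h3, IntertwiningMap.isIntertwining]
    rfl
  have hT : ∀ (g : G) (v : V), T (ρ g v) = ρ g (T v) := by
    intro g v
    change ((πU (ρ g v) : U.toSubmodule) : V) = ρ g (πU v)
    have h3 : πU (ρ g v) = U.toRepresentation g (πU v) := projectionOnto_equivariant hW g v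
    rw [h3]
    rfl
  apply hθ
  apply IntertwiningMap.ext
  apply LinearMap.ext
  intro u
  have h4 := h S T hS hT u
  have hπu : πU (u : V) = u := Submodule.projectionOnto_apply_left _ u
  have e1 : S (T (u : V)) = (θ u : W.toSubmodule) := by
    change ((θ (πU (πU (u : V) : V)) : W.toSubmodule) : V) = _
    rw [hπu, hπu]
  have e2 : T (S (u : V)) = 0 := by
    change ((πU ((θ (πU (u : V)) : W.toSubmodule) : V) : U.toSubmodule) : V) = 0
    have : πU ((θ (πU (u : V)) : W.toSubmodule) : V) = 0 :=
      Submodule.projectionOnto_apply_right _ _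
    rw [this]; rfl
  rw [e1, e2] at h4
  apply Subtype.ext
  exact h4

/-- S0718 -/
theorem permChar_multFree_iff {Ω : Type v} [Fintype Ω] [MulAction G Ω] :
    (∀ χ : G → ℂ, IsIrrCharacter G χ → classInner (permChar G Ω) χ = 0 ∨
      classInner (permChar G Ω) χ = 1) ↔
    ∀ S T : (Ω → ℂ) →ₗ[ℂ] (Ω → ℂ), S ∈ ((permRep ℂ G Ω).linHom (permRep ℂ G Ω)).invariants →
      T ∈ ((permRep ℂ G Ω).linHom (permRep ℂ G Ω)).invariants → S ∘ₗ T = T ∘ₗ S := by
  constructor
  · intro h S T hS hT
    rw [mem_linHom_invariants] at hS hT
    apply LinearMap.ext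
    intro v
    refine commute_of_multFree _ (permRep ℂ G Ω) rfl ?_ S T hS hT v
    intro χ
    rw [permRep_character]
    exact h χ χ.2
  · intro h χ hχ
    have := multFree_of_commute (permRep ℂ G Ω) (by
      intro S T hS hT v
      exact LinearMap.congr_fun (h S T ((mem_linHom_invariants _).2 hS)
        ((mem_linHom_invariants _).2 hT)) v) ⟨χ, hχ⟩
    rw [permRep_character] at this
    exact this

end

end Cfsg.Agent.H12
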