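import Cfsg.Agent.H12.PermChar
import Mathlib.LinearAlgebra.Eigenspace.Charpoly
import Mathlib.LinearAlgebra.Eigenspace.Zero
import Mathlib.LinearAlgebra.Eigenspace.Triangularizable

set_option autoImplicit false
set_option linter.unusedSectionVars false

/-! Common divisors of the degrees of constituents divide the subdegrees (S0715). -/

namespace Cfsg.Agent.H12

open MulAction
open scoped ComplexConjugate
open Cfsg Cfsg.Agent.CharBase

universe u v

section

variable {G : Type u} [Group G] {Ω : Type v} [Fintype Ω] [MulAction G Ω]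

open Classical in
/-- the orbital operator with kernel the indicator of the orbit `q` -/
noncomputable def orbOp (K : Type*) [CommRing K]
    (q : orbitRel.Quotient G (Ω × Ω)) : (Ω → K) →ₗ[K] (Ω → K) :=
  ((homEquivOrbits K G Ω Ω).symm (Pi.single q 1)).1

open Classical in
theorem orbOp_single {K : Type*} [CommRing K] (q : orbitRel.Quotient G (Ω × Ω)) (x y : Ω) :
    orbOp K q (Pi.single x 1) y = if (Quotient.mk _ (x, y) : orbitRel.Quotient G (Ω × Ω)) = q
      then 1 else 0 := by
  have h : homEquivOrbits K G Ω Ω ((homEquivOrbits K G Ω Ω).symm (Pi.single q 1))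
      (Quotient.mk _ (x, y)) = (Pi.single q (1 : K) : orbitRel.Quotient G (Ω × Ω) → K)
        (Quotient.mk _ (x, y)) := by
    rw [LinearEquiv.apply_symm_apply]
  change _ = _ at h
  rw [Pi.single_apply] at h
  exact h

theorem orbOp_comm {K : Type*} [CommRing K] (q : orbitRel.Quotient G (Ω × Ω)) (g : G)
    (f : Ω → K) : orbOp K q (permRep K G Ω g f) = permRep K G Ω g (orbOp K q f) := by
  classical
  exact (mem_linHom_invariants _).1 ((homEquivOrbits K G Ω Ω).symm (Pi.single q 1)).2 g f

theorem orbOp_one {K : Type*} [CommRing K] [IsPretransitive G Ω] (a b : Ω) :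
    orbOp K (Quotient.mk _ (b, a) : orbitRel.Quotient G (Ω × Ω)) (fun _ => 1) =
      fun _ => (Nat.card (orbit (stabilizer G a) b) : K) := by
  classical
  set q : orbitRel.Quotient G (Ω × Ω) := Quotient.mk _ (b, a) with hq
  have hfix : ∀ g : G, permRep K G Ω g (orbOp K q (fun _ => 1)) = orbOp K q (fun _ => 1) := by
    intro g
    rw [← orbOp_comm]
    rfl
  funext y
  rw [const_of_fixed hfix y a]
  have h1 : (fun _ => 1 : Ω → K) = ∑ x, Pi.single x 1 := by
    funext z
    simp [Finset.sum_apply, Pi.single_apply]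
  rw [h1, map_sum, Finset.sum_apply]
  simp only [orbOp_single]
  rw [Finset.sum_boole]
  congr 1
  have hset : orbit (stabilizer G a) b = (((Finset.univ : Finset Ω).filter (fun x =>
      (Quotient.mk _ (x, a) : orbitRel.Quotient G (Ω × Ω)) = q) : Finset Ω) : Set Ω) := by
    ext x
    rw [Finset.mem_coe, Finset.mem_filter]
    constructor
    · rintro ⟨g, rfl⟩
      refine ⟨Finset.mem_univ _, Quotient.sound ⟨(g : G), ?_⟩⟩
      change ((g : G) • b, (g : G) • a) = (g • b, a)
      rw [g.2]
      rfl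
    · rintro ⟨-, h⟩
      obtain ⟨g, hg⟩ := Quotient.exact h
      change (g • b, g • a) = (x, a) at hg
      obtain ⟨h1, h2⟩ := Prod.mk.inj hg
      exact ⟨⟨g, h2⟩, h1⟩
  rw [hset, Nat.card_coe_set_eq, Set.ncard_coe_finset]

theorem trace_orbOp {a b : Ω} (hab : b ≠ a) :
    LinearMap.trace ℂ (Ω → ℂ) (orbOp ℂ (Quotient.mk _ (b, a) : orbitRel.Quotient G (Ω × Ω))) = 0 := by
  classical
  rw [trace_eq_sum_single]
  refine Finset.sum_eq_zero fun x _ => ?_
  rw [orbOp_single, if_neg]
  intro h
  obtain ⟨g, hg⟩ := Quotient.exact h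
  change (g • b, g • a) = (x, x) at hg
  obtain ⟨h1, h2⟩ := Prod.mk.inj hg
  exact hab (smul_left_cancel g (h1.trans h2.symm))

/-- eigenvalues of an integer matrix operator are integral -/
theorem isIntegral_root_orbOp (q : orbitRel.Quotient G (Ω × Ω)) {μ : ℂ}
    (hμ : (orbOp ℂ q).charpoly.IsRoot μ) : IsIntegral ℤ μ := by
  classical
  let M : Matrix Ω Ω ℤ := Matrix.of fun y x =>
    if (Quotient.mk _ (x, y) : orbitRel.Quotient G (Ω × Ω)) = q then 1 else 0
  have h1 : orbOp ℂ q = Matrix.toLin' (M.map (Int.castRingHom ℂ)) := by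
    apply LinearMap.toMatrix'.injective
    ext y x
    rw [LinearMap.toMatrix'_toLin']
    simp only [LinearMap.toMatrix'_apply, Matrix.map_apply, M, Matrix.of_apply]
    rw [orbOp_single (K := ℂ) q x y]
    split_ifs <;> simp
  rw [h1, Matrix.charpoly_toLin', Matrix.charpoly_map] at hμ
  refine ⟨M.charpoly, M.charpoly_monic, ?_⟩
  rw [Polynomial.IsRoot, Polynomial.eval_map] at hμ
  exact hμ

end

section

variable {G : Type u} [Group G] [Fintype G] {Ω : Type v} [Fintype Ω] [MulAction G Ω]

/-- generalized eigenspaces of an equivariant operator are subrepresentations -/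
noncomputable def genEig (T : (Ω → ℂ) →ₗ[ℂ] (Ω → ℂ))
    (hT : ∀ (g : G) (f : Ω → ℂ), T (permRep ℂ G Ω g f) = permRep ℂ G Ω g (T f)) (μ : ℂ) :
    Subrepresentation (permRep ℂ G Ω) where
  toSubmodule := Module.End.maxGenEigenspace T μ
  apply_mem_toSubmodule g v hv := by
    have hcomm : Commute T (permRep ℂ G Ω g) := by
      apply LinearMap.ext
      intro f
      exact hT g f
    exact Module.End.mapsTo_maxGenEigenspace_of_comm hcomm μ hv

theorem one_mem_genEig_iff [Nonempty Ω] (T : (Ω → ℂ) →ₗ[ℂ] (Ω → ℂ))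
    (hT : ∀ (g : G) (f : Ω → ℂ), T (permRep ℂ G Ω g f) = permRep ℂ G Ω g (T f)) (k : ℂ)
    (hk : T (fun _ => 1) = fun _ => k) (μ : ℂ) :
    (fun _ => 1 : Ω → ℂ) ∈ (genEig T hT μ).toSubmodule ↔ μ = k := by
  have hk' : T (fun _ => 1) = k • (fun _ => 1 : Ω → ℂ) := by
    rw [hk]; funext x; simp
  change (fun _ => 1 : Ω → ℂ) ∈ Module.End.maxGenEigenspace T μ ↔ _
  rw [Module.End.mem_maxGenEigenspace]
  constructor
  · rintro ⟨m, hm⟩
    have h1 : ∀ m : ℕ, ((T - μ • (1 : Module.End ℂ (Ω → ℂ))) ^ m) (fun _ => 1) =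
        (k - μ) ^ m • (fun _ => 1 : Ω → ℂ) := by
      intro m
      induction m with
      | zero => simp
      | succ m ih =>
        rw [pow_succ', Module.End.mul_apply, ih, map_smul, LinearMap.sub_apply,
          LinearMap.smul_apply, Module.End.one_apply, hk', ← sub_smul, smul_smul, pow_succ]
    rw [h1] at hm
    obtain ⟨x₀⟩ := (inferInstance : Nonempty Ω)
    have h2 := congrFun hm x₀
    simp only [Pi.smul_apply, smul_eq_mul, mul_one, Pi.zero_apply] at h2
    have h3 : k - μ = 0 := by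
      rcases Nat.eq_zero_or_pos m with h0 | h0
      · subst h0; simp at h2
      · exact (pow_eq_zero_iff h0.ne').1 h2
    exact (sub_eq_zero.1 h3).symm
  · rintro rfl
    refine ⟨1, ?_⟩
    rw [pow_one, LinearMap.sub_apply, LinearMap.smul_apply, Module.End.one_apply, hk', sub_self]

theorem nat_dvd_of_integral {f k : ℕ} {z : ℂ} (hz : IsIntegral ℤ z) (h : (k : ℂ) = f * z) :
    f ∣ k := by
  rcases Nat.eq_zero_or_pos f with h0 | h0
  · subst h0
    rw [Nat.cast_zero, zero_mul] at h
    have : k = 0 := by exact_mod_cast h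
    rw [this]
  have hf0 : (f : ℂ) ≠ 0 := by exact_mod_cast h0.ne'
  have h1 : z = algebraMap ℚ ℂ ((k : ℚ) / f) := by
    have : z = (k : ℂ) / f := by rw [h]; field_simp
    rw [this]
    simp
  rw [h1] at hz
  have h5 : IsIntegral ℤ ((k : ℚ) / f) :=
    (isIntegral_algebraMap_iff (algebraMap ℚ ℂ).injective).mp hz
  obtain ⟨m, hm⟩ := IsIntegrallyClosed.isIntegral_iff.mp h5
  have hn0' : (f : ℚ) ≠ 0 := by exact_mod_cast h0.ne'
  have h6 : (m : ℚ) * f = k := by
    have : (m : ℚ) = (k : ℚ) / f := by simpa using hm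
    rw [this]; field_simp
  have h7 : m * (f : ℤ) = k := by exact_mod_cast h6
  exact Int.natCast_dvd_natCast.mp ⟨m, by rw [← h7]; ring⟩

theorem dvd_subdegree [IsPretransitive G Ω] (f : ℕ) (hf : ∀ χ : G → ℂ, IsIrrCharacter G χ →
    χ ≠ (fun _ => 1) → classInner (permChar G Ω) χ ≠ 0 → ∃ m : ℕ, χ 1 = (f : ℂ) * m)
    (a b : Ω) (hab : b ≠ a) : f ∣ Nat.card (orbit (stabilizer G a) b) := by
  classical
  have hne : Nonempty Ω := ⟨a⟩
  set q : orbitRel.Quotient G (Ω × Ω) := Quotient.mk _ (b, a) with hq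
  set k := Nat.card (orbit (stabilizer G a) b) with hk
  let T := orbOp ℂ q
  have hT1 : T (fun _ => 1) = fun _ => (k : ℂ) := orbOp_one a b
  have hT : ∀ (g : G) (f : Ω → ℂ), T (permRep ℂ G Ω g f) = permRep ℂ G Ω g (T f) :=
    fun g f => orbOp_comm q g f
  have htr : LinearMap.trace ℂ (Ω → ℂ) T = 0 := trace_orbOp hab
  have hsum : LinearMap.trace ℂ (Ω → ℂ) T = T.charpoly.roots.sum :=
    Module.End.trace_eq_sum_roots_charpoly_of_splits (IsAlgClosed.splits T.charpoly)
  have hcount : ∀ μ, (T.charpoly.roots.count μ : ℂ) = Module.finrank ℂ (genEig T hT μ).toSubmodule := by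
    intro μ
    rw [Polynomial.count_roots]
    norm_cast
    exact (LinearMap.finrank_maxGenEigenspace_eq T μ).symm
  choose n hn using fun μ => finrank_sub_eq f hf (genEig T hT μ)
  have hc : ∀ μ, classInner (genEig T hT μ).toRepresentation.character (fun _ => 1) =
      if μ = (k : ℂ) then 1 else 0 := by
    intro μ
    split_ifs with h
    · exact classInner_sub_one_of_mem _ ((one_mem_genEig_iff T hT k hT1 μ).2 h)
    · exact classInner_sub_one_of_notMem _ (fun h' => h ((one_mem_genEig_iff T hT k hT1 μ).1 h'))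
  have hkroot : (k : ℂ) ∈ T.charpoly.roots := by
    rw [← Multiset.one_le_count_iff_mem]
    have h1 := hn (k : ℂ)
    rw [hc, if_pos rfl, ← hcount] at h1
    have h2 : T.charpoly.roots.count (k : ℂ) = 1 + f * n (k : ℂ) := by exact_mod_cast h1
    omega
  rw [Finset.sum_multiset_count] at hsum
  have h3 : ∀ μ ∈ T.charpoly.roots.toFinset, T.charpoly.roots.count μ • μ =
      (if μ = (k : ℂ) then (k : ℂ) else 0) + f * (n μ * μ) := by
    intro μ _
    rw [nsmul_eq_mul, hcount, hn, hc]
    split_ifs with h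
    · rw [h]; ring
    · ring
  rw [Finset.sum_congr rfl h3, Finset.sum_add_distrib, Finset.sum_ite_eq',
    if_pos (Multiset.mem_toFinset.2 hkroot), ← Finset.mul_sum, htr] at hsum
  apply nat_dvd_of_integral (z := -∑ μ ∈ T.charpoly.roots.toFinset, n μ * μ)
  · apply IsIntegral.neg
    apply IsIntegral.sum
    intro μ hμ
    apply IsIntegral.mul
    · exact isIntegral_algebraMap (R := ℤ) (A := ℂ) (x := (n μ : ℤ))
    · exact isIntegral_root_orbOp q (Polynomial.isRoot_of_mem_roots (Multiset.mem_toFinset.1 hμ))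
  · linear_combination -hsum

end

end Cfsg.Agent.H12
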