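import Cfsg.Agent.CharBase.Central
import Cfsg.Agent.H12.MultFree
import Cfsg.Agent.H12.Subdegree
import Cfsg.Agent.H12.EqualDegrees

set_option autoImplicit false
set_option linter.unusedSectionVars false

/-! Generously transitive actions (S0717). -/

namespace Cfsg.Agent.H12

open scoped ComplexConjugate
open Cfsg Cfsg.Agent.CharBase Representation MulAction

universe u v w

section

variable {G : Type u} [Group G] [Fintype G] {Ω : Type v} [Fintype Ω] [MulAction G Ω]

theorem repSum_single_symm [DecidableEq Ω] (f : G → ℂ) (x y : Ω) :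
    repSum (permRep ℂ G Ω) f (Pi.single x 1) y =
      repSum (permRep ℂ G Ω) (fun g => f g⁻¹) (Pi.single y 1) x := by
  rw [repSum_apply, repSum_apply, Finset.sum_apply, Finset.sum_apply]
  refine Fintype.sum_equiv (Equiv.inv G) _ _ fun g => ?_
  rw [Pi.smul_apply, Pi.smul_apply, permRep_single, permRep_single]
  simp only [Equiv.inv_apply, inv_inv]
  congr 1
  rw [Pi.single_apply, Pi.single_apply]
  congr 1
  rw [eq_iff_iff, eq_inv_smul_iff]
  exact eq_comm

theorem sum_mul_conj_eq (f χ : G → ℂ) : ∑ g, conj (χ g) * f g = (Nat.card G : ℂ) * classInner f χ := by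
  unfold classInner
  have hne : (Nat.card G : ℂ) ≠ 0 := by exact_mod_cast Nat.card_pos.ne'
  rw [mul_inv_cancel_left₀ hne]
  exact Finset.sum_congr rfl fun g _ => mul_comm _ _

theorem repSum_commutes {f : G → ℂ} (hf : IsClassFunction G f) (g : G) (v : Ω → ℂ) :
    repSum (permRep ℂ G Ω) f (permRep ℂ G Ω g v) = permRep ℂ G Ω g (repSum (permRep ℂ G Ω) f v) :=
  LinearMap.congr_fun (repSum_comm (permRep ℂ G Ω) hf g) v

theorem end_ext [DecidableEq Ω] {S T : (Ω → ℂ) →ₗ[ℂ] (Ω → ℂ)}
    (h : ∀ x y, S (Pi.single x 1) y = T (Pi.single x 1) y) : S = T := by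
  apply LinearMap.toMatrix'.injective
  ext y x
  rw [LinearMap.toMatrix'_apply, LinearMap.toMatrix'_apply]
  exact h x y

/-- kernels of equivariant operators depend only on the orbit of the pair -/
theorem kernel_invariant [DecidableEq Ω] {T : (Ω → ℂ) →ₗ[ℂ] (Ω → ℂ)}
    (hT : ∀ (g : G) (v : Ω → ℂ), T (permRep ℂ G Ω g v) = permRep ℂ G Ω g (T v)) (g : G) (x y : Ω) :
    T (Pi.single (g • x) 1) (g • y) = T (Pi.single x 1) y := by
  rw [← permRep_single, hT, permRep_apply, inv_smul_smul]

theorem generous_forward (h : ∀ a b : Ω, ∃ g : G, g • a = b ∧ g • b = a) (χ : G → ℂ)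
    (hχ : IsIrrCharacter G χ) (h0 : classInner (permChar G Ω) χ ≠ 0) :
    classInner (permChar G Ω) χ = 1 ∧ ∀ g : G, conj (χ g) = χ g := by
  classical
  have hsymm : ∀ T : (Ω → ℂ) →ₗ[ℂ] (Ω → ℂ),
      (∀ (g : G) (v : Ω → ℂ), T (permRep ℂ G Ω g v) = permRep ℂ G Ω g (T v)) →
      ∀ x y, T (Pi.single x 1) y = T (Pi.single y 1) x := by
    intro T hT x y
    obtain ⟨g, hg1, hg2⟩ := h x y
    have := kernel_invariant hT g x y
    rw [hg1, hg2] at this
    exact this.symm
  constructor
  · have hcomm : ∀ S T : (Ω → ℂ) →ₗ[ℂ] (Ω → ℂ),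
        (∀ (g : G) (v : Ω → ℂ), S (permRep ℂ G Ω g v) = permRep ℂ G Ω g (S v)) →
        (∀ (g : G) (v : Ω → ℂ), T (permRep ℂ G Ω g v) = permRep ℂ G Ω g (T v)) →
        ∀ v, S (T v) = T (S v) := by
      intro S T hS hT v
      have hexp : ∀ (A B : (Ω → ℂ) →ₗ[ℂ] (Ω → ℂ)) (x y : Ω),
          A (B (Pi.single x 1)) y = ∑ z, B (Pi.single x 1) z * A (Pi.single z 1) y := by
        intro A B x y
        have h1 : B (Pi.single x 1) = ∑ z, B (Pi.single x 1) z • (Pi.single z (1 : ℂ) : Ω → ℂ) := by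
          funext w
          simp [Finset.sum_apply, Pi.single_apply]
        conv_lhs => rw [h1]
        rw [map_sum, Finset.sum_apply]
        refine Finset.sum_congr rfl fun z _ => ?_
        rw [map_smul]
        rfl
      have hST : S ∘ₗ T = T ∘ₗ S := by
        apply end_ext
        intro x y
        change S (T (Pi.single x 1)) y = T (S (Pi.single x 1)) y
        have hSTeq : ∀ (g : G) (v : Ω → ℂ), (S ∘ₗ T) (permRep ℂ G Ω g v) =
            permRep ℂ G Ω g ((S ∘ₗ T) v) := by
          intro g v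
          rw [LinearMap.comp_apply, LinearMap.comp_apply, hT, hS]
        have h1 := hsymm (S ∘ₗ T) hSTeq x y
        rw [LinearMap.comp_apply, LinearMap.comp_apply] at h1
        rw [h1, hexp, hexp]
        refine Finset.sum_congr rfl fun z _ => ?_
        rw [hsymm T hT y z, hsymm S hS z x, mul_comm]
      exact LinearMap.congr_fun hST v
    have := multFree_of_commute (permRep ℂ G Ω) hcomm ⟨χ, hχ⟩
    rw [permRep_character] at this
    exact this.resolve_left h0
  · let χ1 : IrrCharacter G := ⟨χ, hχ⟩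
    let χ2 : IrrCharacter G := ⟨fun g => conj (χ g), isIrrCharacter_conj hχ⟩
    have hclass := isClassFunction_of_isCharacter (isCharacter_of_isIrr hχ)
    have hclass2 : IsClassFunction G (fun g => conj (χ g)) := isClassFunction_conj hclass
    have hinv : ∀ g, χ g⁻¹ = conj (χ g) := isCharacter_inv (isCharacter_of_isIrr hχ)
    have heq : repSum (permRep ℂ G Ω) χ = repSum (permRep ℂ G Ω) (fun g => conj (χ g)) := by
      apply end_ext
      intro x y
      rw [hsymm (repSum (permRep ℂ G Ω) χ) (repSum_commutes hclass) x y, repSum_single_symm]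
      simp only [hinv]
    by_contra hne
    have hχne : χ1 ≠ χ2 := by
      intro h
      apply hne
      intro g
      exact (congrFun (congrArg Subtype.val h) g).symm
    have h1 := conv_irr χ1 χ2
    rw [if_neg hχne] at h1
    have h2 := conv_irr χ2 χ2
    rw [if_pos rfl] at h2
    have h3 : repSum (permRep ℂ G Ω) (conv (χ1 : G → ℂ) (χ2 : G → ℂ)) =
        repSum (permRep ℂ G Ω) (conv (χ2 : G → ℂ) (χ2 : G → ℂ)) := by
      rw [repSum_conv, repSum_conv]
      change repSum (permRep ℂ G Ω) χ * _ = _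
      rw [heq]
    rw [h1, h2] at h3
    have h4 := congrArg (LinearMap.trace ℂ (Ω → ℂ)) h3
    rw [trace_repSum, trace_repSum, permRep_character] at h4
    have h5 : ∑ g, (((Nat.card G : ℂ) / (χ2 : G → ℂ) 1) • (χ2 : G → ℂ)) g * permChar G Ω g =
        (Nat.card G : ℂ) / (χ2 : G → ℂ) 1 * ((Nat.card G : ℂ) * classInner (permChar G Ω) χ) := by
      rw [← sum_mul_conj_eq, Finset.mul_sum]
      refine Finset.sum_congr rfl fun g _ => ?_
      rw [Pi.smul_apply, smul_eq_mul, mul_assoc]
    rw [h5] at h4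
    have hG : (Nat.card G : ℂ) ≠ 0 := by exact_mod_cast Nat.card_pos.ne'
    have hd : (χ2 : G → ℂ) 1 ≠ 0 := irr_one_ne_zero χ2.2
    simp only [Pi.zero_apply, zero_mul, Finset.sum_const_zero] at h4
    have h6 := h4.symm
    rcases mul_eq_zero.1 h6 with h7 | h7
    · rcases div_eq_zero_iff.1 h7 with h8 | h8
      · exact hG h8
      · exact hd h8
    · rcases mul_eq_zero.1 h7 with h8 | h8
      · exact hG h8
      · exact h0 h8

theorem eq_span_of_card {K V ι : Type*} [Field K] [AddCommGroup V] [Module K V]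
    [FiniteDimensional K V] [Fintype ι] (E : Submodule K V) (w : ι → V) (hw : ∀ i, w i ∈ E)
    (hlin : LinearIndependent K w) (hcard : Fintype.card ι = Module.finrank K E) :
    E = Submodule.span K (Set.range w) := by
  symm
  apply Submodule.eq_of_le_of_finrank_eq
  · rw [Submodule.span_le]
    rintro _ ⟨i, rfl⟩
    exact hw i
  · rw [finrank_span_eq_card hlin, hcard]

theorem linInd_of_orthogonal_idempotents {K A ι : Type*} [Field K] [Ring A] [Algebra K A]
    [Fintype ι] [DecidableEq ι] (w : ι → A) (d : ι → K) (hd : ∀ i, d i ≠ 0) (hw : ∀ i, w i ≠ 0)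
    (hmul : ∀ i j, w i * w j = if i = j then d i • w i else 0) : LinearIndependent K w := by
  classical
  rw [Fintype.linearIndependent_iff]
  intro c hc j
  have h2 := congrArg (fun T => T * w j) hc
  simp only [Finset.sum_mul, smul_mul_assoc, hmul, zero_mul] at h2
  have h3 : ∀ i, c i • (if i = j then d i • w i else 0) = if i = j then c i • d i • w i else 0 := by
    intro i
    split_ifs
    · rfl
    · rw [smul_zero]
  rw [Finset.sum_congr rfl fun i _ => h3 i, Finset.sum_ite_eq' Finset.univ j,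
    if_pos (Finset.mem_univ _), smul_smul] at h2
  rcases smul_eq_zero.1 h2 with h4 | h4
  · rcases mul_eq_zero.1 h4 with h5 | h5
    · exact h5
    · exact absurd h5 (hd j)
  · exact absurd h4 (hw j)

theorem symmetric_of_span [DecidableEq Ω] {ι : Type*} (w : ι → ((Ω → ℂ) →ₗ[ℂ] (Ω → ℂ)))
    (hw : ∀ i x y, w i (Pi.single x 1) y = w i (Pi.single y 1) x)
    (T : (Ω → ℂ) →ₗ[ℂ] (Ω → ℂ)) (hT : T ∈ Submodule.span ℂ (Set.range w)) (x y : Ω) :
    T (Pi.single x 1) y = T (Pi.single y 1) x := by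
  induction hT using Submodule.span_induction with
  | mem S hS =>
    obtain ⟨i, rfl⟩ := hS
    exact hw i x y
  | zero => rfl
  | add S S' _ _ h1 h2 =>
    rw [LinearMap.add_apply, LinearMap.add_apply, Pi.add_apply, Pi.add_apply, h1, h2]
  | smul c S _ h1 =>
    rw [LinearMap.smul_apply, LinearMap.smul_apply, Pi.smul_apply, Pi.smul_apply, h1]

theorem repSum_mul_irr (χ ψ : IrrCharacter G) :
    repSum (permRep ℂ G Ω) (χ : G → ℂ) * repSum (permRep ℂ G Ω) (ψ : G → ℂ) =
      if χ = ψ then ((Nat.card G : ℂ) / (χ : G → ℂ) 1) • repSum (permRep ℂ G Ω) (χ : G → ℂ)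
        else 0 := by
  rw [← repSum_conv, conv_irr]
  by_cases hχψ : χ = ψ
  · subst hχψ
    rw [if_pos rfl, if_pos rfl]
    apply LinearMap.ext
    intro x
    rw [repSum_apply, LinearMap.smul_apply, repSum_apply, Finset.smul_sum]
    refine Finset.sum_congr rfl fun g _ => ?_
    rw [Pi.smul_apply, smul_eq_mul, mul_smul]
  · rw [if_neg hχψ, if_neg hχψ]
    apply LinearMap.ext
    intro x
    rw [repSum_apply]
    simp

theorem generous_final [inst : DecidableEq Ω]
    (hsymm : ∀ T ∈ ((permRep ℂ G Ω).linHom (permRep ℂ G Ω)).invariants,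
    ∀ x y, T (Pi.single x 1) y = T (Pi.single y 1) x)
    (a b : Ω) : ∃ g : G, g • a = b ∧ g • b = a := by
  obtain rfl : inst = fun a b => Classical.propDecidable (a = b) := Subsingleton.elim _ _
  obtain ⟨q, hq⟩ : ∃ q : orbitRel.Quotient G (Ω × Ω), q = Quotient.mk _ (a, b) := ⟨_, rfl⟩
  have h1 := hsymm (orbOp ℂ q) ((mem_linHom_invariants _).2 (orbOp_comm q)) a b
  have h2 := orbOp_single (K := ℂ) q a b
  rw [if_pos hq.symm] at h2
  have h3 : (Quotient.mk _ (b, a) : orbitRel.Quotient G (Ω × Ω)) = q := by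
    by_contra hne
    have h4 := orbOp_single (K := ℂ) q b a
    rw [if_neg hne] at h4
    have : (1 : ℂ) = 0 := h2.symm.trans (h1.trans h4)
    exact one_ne_zero this
  rw [hq] at h3
  obtain ⟨g, hg⟩ := Quotient.exact h3
  change (g • a, g • b) = (b, a) at hg
  exact ⟨g, (Prod.mk.inj hg).1, (Prod.mk.inj hg).2⟩

theorem generous_card [Fintype (IrrCharacter G)] (m : IrrCharacter G → ℕ)
    (hm : ∀ χ : IrrCharacter G, classInner (permChar G Ω) χ = m χ)
    (hsum : permChar G Ω = ∑ χ : IrrCharacter G, m χ • (χ : G → ℂ))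
    (hconst : ∀ χ : IrrCharacter G, m χ ≠ 0 → m χ = 1) :
    Fintype.card {χ : IrrCharacter G // m χ ≠ 0} =
      Module.finrank ℂ ((permRep ℂ G Ω).linHom (permRep ℂ G Ω)).invariants := by
  classical
  have h1 := permChar_norm hm hsum
  rw [← finrank_linHom_invariants (K := ℂ)] at h1
  rw [h1, Fintype.card_subtype, Finset.card_filter]
  refine Finset.sum_congr rfl fun χ _ => ?_
  by_cases h0 : m χ = 0
  · rw [h0]; simp
  · rw [hconst χ h0]; simp

theorem generous_backward (h : ∀ χ : G → ℂ, IsIrrCharacter G χ →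
    classInner (permChar G Ω) χ ≠ 0 → classInner (permChar G Ω) χ = 1 ∧ ∀ g : G, conj (χ g) = χ g)
    (a b : Ω) : ∃ g : G, g • a = b ∧ g • b = a := by
  classical
  have hfin : Fintype (IrrCharacter G) := Fintype.ofFinite _
  obtain ⟨m, hm, hsum⟩ := exists_mult_of_isCharacter (isCharacter_permChar G Ω)
  have hG : (Nat.card G : ℂ) ≠ 0 := by exact_mod_cast Nat.card_pos.ne'
  have hconst : ∀ χ : {χ : IrrCharacter G // m χ ≠ 0},
      m χ.1 = 1 ∧ ∀ g, conj ((χ.1 : G → ℂ) g) = (χ.1 : G → ℂ) g := by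
    intro χ
    have h1 := h χ.1 χ.1.2 (by rw [hm]; exact_mod_cast χ.2)
    refine ⟨?_, h1.2⟩
    have h2 := h1.1
    rw [hm] at h2
    exact_mod_cast h2
  have hvne : ∀ χ : {χ : IrrCharacter G // m χ ≠ 0},
      repSum (permRep ℂ G Ω) (χ.1 : G → ℂ) ≠ 0 := by
    intro χ h0
    have h1 := congrArg (LinearMap.trace ℂ (Ω → ℂ)) h0
    rw [trace_repSum, map_zero, permRep_character] at h1
    have h2 : ∑ g, (χ.1 : G → ℂ) g * permChar G Ω g =
        (Nat.card G : ℂ) * classInner (permChar G Ω) (χ.1 : G → ℂ) := by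
      rw [← sum_mul_conj_eq]
      refine Finset.sum_congr rfl fun g _ => ?_
      rw [(hconst χ).2]
    rw [h2, hm, (hconst χ).1] at h1
    apply hG
    simpa only [Nat.cast_one, mul_one] using h1
  have hlin : LinearIndependent ℂ (fun χ : {χ : IrrCharacter G // m χ ≠ 0} =>
      repSum (permRep ℂ G Ω) (χ.1 : G → ℂ)) := by
    refine linInd_of_orthogonal_idempotents _ (fun χ => (Nat.card G : ℂ) / (χ.1 : G → ℂ) 1)
      (fun χ => div_ne_zero hG (irr_one_ne_zero χ.1.2)) hvne fun χ ψ => ?_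
    rw [repSum_mul_irr]
    by_cases hχψ : χ = ψ
    · subst hχψ
      rw [if_pos rfl, if_pos rfl]
    · rw [if_neg hχψ, if_neg (fun h' => hχψ (Subtype.ext h'))]
  have hcard := generous_card m hm hsum (fun χ hχ => (hconst ⟨χ, hχ⟩).1)
  have hmem : ∀ χ : {χ : IrrCharacter G // m χ ≠ 0},
      repSum (permRep ℂ G Ω) (χ.1 : G → ℂ) ∈ ((permRep ℂ G Ω).linHom (permRep ℂ G Ω)).invariants :=
    fun χ => (mem_linHom_invariants _).2 (repSum_commutes (irr_isClassFunction χ.1))
  have hspan := eq_span_of_card _ _ hmem hlin hcard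
  have hsy : ∀ (χ : {χ : IrrCharacter G // m χ ≠ 0}) (x y : Ω),
      repSum (permRep ℂ G Ω) (χ.1 : G → ℂ) (Pi.single x 1) y =
        repSum (permRep ℂ G Ω) (χ.1 : G → ℂ) (Pi.single y 1) x := by
    intro χ x y
    rw [repSum_single_symm]
    have : (fun g => (χ.1 : G → ℂ) g⁻¹) = (χ.1 : G → ℂ) := by
      funext g
      rw [irr_inv, (hconst χ).2]
    rw [this]
  have hsymm : ∀ T ∈ ((permRep ℂ G Ω).linHom (permRep ℂ G Ω)).invariants,
      ∀ x y : Ω, T (Pi.single x 1) y = T (Pi.single y 1) x := by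
    intro T hT x y
    exact symmetric_of_span _ hsy T (hspan.le hT) x y
  exact generous_final hsymm a b

end

end Cfsg.Agent.H12
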