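import Cfsg.Agent.H12.Generous

set_option autoImplicit false
set_option linter.unusedSectionVars false

/-! Primitive rank 3 groups of Wielandt type (S0719). -/

namespace Cfsg.Agent.H12

open scoped ComplexConjugate
open Cfsg Cfsg.Agent.CharBase Representation MulAction

universe u v w

section

variable {G : Type u} [Group G] [Fintype G] {Ω : Type v} [Fintype Ω] [MulAction G Ω]

/-- the projection on the `χ`-isotypic component of the permutation module, for real `χ` -/
noncomputable def isoProj (Ω : Type v) [Fintype Ω] [MulAction G Ω] (χ : IrrCharacter G) :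
    Module.End ℂ (Ω → ℂ) :=
  ((χ : G → ℂ) 1 / (Nat.card G : ℂ)) • repSum (permRep ℂ G Ω) (χ : G → ℂ)

theorem isoProj_mul [DecidableEq (IrrCharacter G)] (χ ψ : IrrCharacter G) :
    isoProj Ω χ * isoProj Ω ψ = if χ = ψ then isoProj Ω χ else 0 := by
  have hG : (Nat.card G : ℂ) ≠ 0 := by exact_mod_cast Nat.card_pos.ne'
  have hd : (χ : G → ℂ) 1 ≠ 0 := irr_one_ne_zero χ.2
  have h := repSum_mul_irr (Ω := Ω) χ ψ
  unfold isoProj
  rw [smul_mul_smul_comm, h]
  by_cases hχψ : χ = ψ
  · subst hχψ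
    rw [if_pos rfl]
    rw [if_pos rfl, smul_smul]
    congr 1
    field_simp
  · rw [if_neg hχψ, if_neg hχψ, smul_zero]

theorem trace_isoProj (χ : IrrCharacter G) (hreal : ∀ g, conj ((χ : G → ℂ) g) = (χ : G → ℂ) g)
    (hmult : classInner (permChar G Ω) (χ : G → ℂ) = 1) :
    LinearMap.trace ℂ (Ω → ℂ) (isoProj Ω χ) = (χ : G → ℂ) 1 := by
  have hG : (Nat.card G : ℂ) ≠ 0 := by exact_mod_cast Nat.card_pos.ne'
  unfold isoProj
  rw [map_smul, trace_repSum, permRep_character]
  have h2 : ∑ g, (χ : G → ℂ) g * permChar G Ω g =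
      (Nat.card G : ℂ) * classInner (permChar G Ω) (χ : G → ℂ) := by
    rw [← sum_mul_conj_eq]
    refine Finset.sum_congr rfl fun g _ => ?_
    rw [hreal]
  rw [h2, hmult, smul_eq_mul]
  field_simp

theorem isoProj_mem (χ : IrrCharacter G) :
    isoProj Ω χ ∈ ((permRep ℂ G Ω).linHom (permRep ℂ G Ω)).invariants := by
  refine Submodule.smul_mem _ _ ?_
  exact (mem_linHom_invariants _).2 (repSum_commutes (irr_isClassFunction χ))

/-- if the permutation character is a sum of `r` real irreducible characters, `r` the rank, then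
the centralizer algebra is spanned by the isotypic projections -/
theorem centralizer_span {ι : Type*} [Fintype ι] [DecidableEq ι] (ψ : ι → IrrCharacter G)
    (hinj : Function.Injective ψ)
    (hreal : ∀ i g, conj ((ψ i : G → ℂ) g) = (ψ i : G → ℂ) g)
    (hmult : ∀ i, classInner (permChar G Ω) (ψ i : G → ℂ) = 1)
    (hcard : Fintype.card ι = Nat.card (orbitRel.Quotient G (Ω × Ω))) :
    ((permRep ℂ G Ω).linHom (permRep ℂ G Ω)).invariants =
      Submodule.span ℂ (Set.range fun i => isoProj Ω (ψ i)) := by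
  classical
  rw [← finrank_linHom_invariants (K := ℂ)] at hcard
  refine eq_span_of_card _ _ (fun i => isoProj_mem (ψ i)) ?_ hcard
  refine linInd_of_orthogonal_idempotents _ (fun _ => (1 : ℂ)) (fun _ => one_ne_zero) ?_ ?_
  · intro i h0
    have h1 := trace_isoProj (Ω := Ω) (ψ i) (hreal i) (hmult i)
    rw [h0, map_zero] at h1
    exact irr_one_ne_zero (ψ i).2 h1.symm
  · intro i j
    rw [isoProj_mul, one_smul]
    by_cases hij : i = j
    · subst hij
      rw [if_pos rfl, if_pos rfl]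
    · rw [if_neg hij, if_neg (fun h => hij (hinj h))]

theorem sum_isoProj {ι : Type*} [Fintype ι] [DecidableEq ι] (ψ : ι → IrrCharacter G)
    (hinj : Function.Injective ψ)
    (hreal : ∀ i g, conj ((ψ i : G → ℂ) g) = (ψ i : G → ℂ) g)
    (hmult : ∀ i, classInner (permChar G Ω) (ψ i : G → ℂ) = 1)
    (hcard : Fintype.card ι = Nat.card (orbitRel.Quotient G (Ω × Ω))) :
    ∑ i, isoProj Ω (ψ i) = 1 := by
  classical
  have hmul : ∀ i j, isoProj Ω (ψ i) * isoProj Ω (ψ j) = if i = j then isoProj Ω (ψ i) else 0 := by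
    intro i j
    rw [isoProj_mul]
    by_cases hij : i = j
    · subst hij
      rw [if_pos rfl, if_pos rfl]
    · rw [if_neg hij, if_neg (fun h => hij (hinj h))]
  have h1 : (1 : Module.End ℂ (Ω → ℂ)) ∈ ((permRep ℂ G Ω).linHom (permRep ℂ G Ω)).invariants :=
    (mem_linHom_invariants _).2 fun g f => rfl
  rw [centralizer_span ψ hinj hreal hmult hcard, Submodule.mem_span_range_iff_exists_fun] at h1
  obtain ⟨c, hc⟩ := h1
  have h2 : ∀ j, c j • isoProj Ω (ψ j) = isoProj Ω (ψ j) := by
    intro j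
    have h3 := congrArg (fun T => T * isoProj Ω (ψ j)) hc
    simp only [Finset.sum_mul, smul_mul_assoc, hmul, one_mul] at h3
    rw [Finset.sum_eq_single j] at h3
    · rwa [if_pos rfl] at h3
    · intro i _ hij
      rw [if_neg hij, smul_zero]
    · intro h
      exact absurd (Finset.mem_univ j) h
  rw [← hc]
  exact Finset.sum_congr rfl fun j _ => (h2 j).symm

end

section trivialProj

variable {G : Type u} [Group G] [Fintype G] {Ω : Type v} [Fintype Ω] [MulAction G Ω]

/-- the projection on the constants -/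
theorem isoProj_one_apply [IsPretransitive G Ω] (χ : IrrCharacter G)
    (hχ : (χ : G → ℂ) = fun _ => 1) :
    isoProj Ω χ (fun _ => 1) = fun _ => 1 := by
  have hG : (Nat.card G : ℂ) ≠ 0 := by exact_mod_cast Nat.card_pos.ne'
  unfold isoProj
  rw [LinearMap.smul_apply, repSum_apply, hχ]
  have : ∀ g : G, permRep ℂ G Ω g (fun _ => 1) = fun _ => 1 := fun g => rfl
  simp only [this, one_smul, Finset.sum_const, Finset.card_univ]
  funext x
  simp only [Pi.smul_apply, nsmul_eq_mul, smul_eq_mul]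
  rw [Nat.card_eq_fintype_card] at hG ⊢
  field_simp
  simp

theorem isoProj_one_single [DecidableEq Ω] [IsPretransitive G Ω] (χ : IrrCharacter G)
    (hχ : (χ : G → ℂ) = fun _ => 1) (x y x' y' : Ω) :
    isoProj Ω χ (Pi.single x 1) y = isoProj Ω χ (Pi.single x' 1) y' := by
  have hfix : ∀ (v : Ω → ℂ) (g : G), permRep ℂ G Ω g (isoProj Ω χ v) = isoProj Ω χ v := by
    intro v g
    unfold isoProj
    rw [LinearMap.smul_apply, map_smul, repSum_apply, map_sum, hχ]
    congr 1
    refine Fintype.sum_equiv (Equiv.mulLeft g) _ _ fun h => ?_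
    rw [map_smul, Equiv.coe_mulLeft, map_mul]
    rfl
  obtain ⟨g, rfl⟩ := exists_smul_eq G x x'
  have h1 : isoProj Ω χ (Pi.single (g • x) 1) = isoProj Ω χ (Pi.single x 1) := by
    rw [← permRep_single, (mem_linHom_invariants _).1 (isoProj_mem χ), hfix]
  rw [h1]
  exact const_of_fixed (hfix _) y y'

end trivialProj


theorem rank3_numeric {m k : ℕ} {s : ℤ} (hm : 2 ≤ m) (hk : 2 ≤ k) (hk2 : k + 3 ≤ 2 * m)
    (h : 2 * (k : ℤ) ^ 2 - 2 * k + 4 * k * (m - 1) * s + s ^ 2 * (m - 1) * (2 * m - 1) = 0) :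
    ∃ a : ℕ, 0 < a ∧ m = 2 * a ^ 2 + 2 * a + 1 ∧
      (k = a * (2 * a + 1) ∨ k = (a + 1) * (2 * a + 1)) := by
  have hD : (2 * (k : ℤ) + 2 * (m - 1) * s - 1) ^ 2 = 1 - 2 * (m - 1) * (s * (s + 2)) := by
    linear_combination 2 * h
  have hs : s * (s + 2) ≤ 0 := by
    by_contra hpos
    push Not at hpos
    have h1 : (1 : ℤ) ≤ m - 1 := by
      have : (2 : ℤ) ≤ m := by exact_mod_cast hm
      linarith
    have h2 : (1 : ℤ) ≤ (m - 1) * (s * (s + 2)) := by nlinarith
    have h3 := sq_nonneg (2 * (k : ℤ) + 2 * (m - 1) * s - 1)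
    rw [hD] at h3
    nlinarith
  have hs1 : -2 ≤ s := by nlinarith
  have hs2 : s ≤ 0 := by nlinarith
  have h3 : s = 0 ∨ s = -2 ∨ s = -1 := by omega
  have hk' : (2 : ℤ) ≤ k := by exact_mod_cast hk
  have hm' : (2 : ℤ) ≤ m := by exact_mod_cast hm
  have hk2' : (k : ℤ) + 3 ≤ 2 * m := by exact_mod_cast hk2
  rcases h3 with rfl | rfl | rfl
  · exfalso
    nlinarith
  · exfalso
    have h4 : (2 * (k : ℤ) - 4 * (m - 1) - 1) ^ 2 = 1 := by linear_combination hD
    nlinarith
  · have h4 : (2 * (k : ℤ) - 2 * m + 1) ^ 2 = 2 * m - 1 := by linear_combination hD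
    rcases le_or_gt m k with hmk | hmk
    · obtain ⟨a, rfl⟩ := Nat.exists_eq_add_of_le hmk
      push_cast at h4
      have h5 : (m : ℤ) = 2 * a ^ 2 + 2 * a + 1 := by nlinarith
      have h6 : m = 2 * a ^ 2 + 2 * a + 1 := by exact_mod_cast h5
      refine ⟨a, ?_, h6, Or.inr ?_⟩
      · rcases Nat.eq_zero_or_pos a with h0 | h0
        · subst h0
          omega
        · exact h0
      · rw [h6]; ring
    · obtain ⟨a, ha⟩ := Nat.exists_eq_add_of_lt hmk
      have h4' : (2 * (a : ℤ) + 1) ^ 2 = 2 * m - 1 := by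
        rw [← h4, ha]; push_cast; ring
      have h5 : (m : ℤ) = 2 * a ^ 2 + 2 * a + 1 := by nlinarith
      have h6 : m = 2 * a ^ 2 + 2 * a + 1 := by exact_mod_cast h5
      refine ⟨a, ?_, h6, Or.inl ?_⟩
      · rcases Nat.eq_zero_or_pos a with h0 | h0
        · subst h0
          omega
        · exact h0
      · have h7 : k + a + 1 = 2 * a ^ 2 + 2 * a + 1 := by rw [← h6, ha]
        nlinarith

end Cfsg.Agent.H12
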