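import Mathlib

set_option autoImplicit false
set_option linter.unusedSectionVars false

/-! Wielandt's theorem on primitive groups of degree `2p` (S0720), part A:
invariant matrices, the sign vector, its eigenvalue and the averaged rank one matrix. -/

namespace Cfsg.Agent.H12.TwoP

open Matrix

section

variable {α : Type*} [Fintype α] [DecidableEq α] {p : ℕ} [hp : Fact p.Prime]

/-- matrices commuting with the permutation group -/
def Inv (G : Subgroup (Equiv.Perm α)) (M : Matrix α α ℤ) : Prop :=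
  ∀ g ∈ G, ∀ a b, M (g a) (g b) = M a b

variable {G : Subgroup (Equiv.Perm α)}

theorem Inv.mul {M N : Matrix α α ℤ} (hM : Inv G M) (hN : Inv G N) : Inv G (M * N) := by
  intro g hg a b
  rw [mul_apply, mul_apply]
  refine (Fintype.sum_equiv g _ _ fun c => ?_).symm
  rw [hM g hg, hN g hg]

theorem Inv.transpose {M : Matrix α α ℤ} (hM : Inv G M) : Inv G Mᵀ :=
  fun g hg a b => hM g hg b a

theorem Inv.one : Inv G (1 : Matrix α α ℤ) := by
  intro g _ a b
  rw [one_apply, one_apply]
  simp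

theorem Inv.add {M N : Matrix α α ℤ} (hM : Inv G M) (hN : Inv G N) : Inv G (M + N) := by
  intro g hg a b
  rw [Matrix.add_apply, Matrix.add_apply, hM g hg, hN g hg]

theorem Inv.smul {M : Matrix α α ℤ} (hM : Inv G M) (c : ℤ) : Inv G (c • M) := by
  intro g hg a b
  rw [Matrix.smul_apply, Matrix.smul_apply, hM g hg]

theorem Inv.pow {M : Matrix α α ℤ} (hM : Inv G M) (n : ℕ) : Inv G (M ^ n) := by
  induction n with
  | zero => rw [pow_zero]; exact Inv.one
  | succ n ih => rw [pow_succ]; exact ih.mul hM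

/-- the relation of being in the same orbital -/
def Rel (G : Subgroup (Equiv.Perm α)) (a b c d : α) : Prop := ∃ g ∈ G, g a = c ∧ g b = d

theorem Rel.refl (a b : α) : Rel G a b a b := ⟨1, G.one_mem, rfl, rfl⟩

theorem Rel.symm {a b c d : α} (h : Rel G a b c d) : Rel G c d a b := by
  obtain ⟨g, hg, rfl, rfl⟩ := h
  exact ⟨g⁻¹, G.inv_mem hg, g.symm_apply_apply a, g.symm_apply_apply b⟩

theorem Rel.trans {a b c d a' b' : α} (h : Rel G a b c d) (h' : Rel G c d a' b') :
    Rel G a b a' b' := by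
  obtain ⟨g, hg, rfl, rfl⟩ := h
  obtain ⟨k, hk, rfl, rfl⟩ := h'
  exact ⟨k * g, G.mul_mem hk hg, rfl, rfl⟩

theorem Rel.swap {a b c d : α} (h : Rel G a b c d) : Rel G b a d c := by
  obtain ⟨g, hg, h1, h2⟩ := h
  exact ⟨g, hg, h2, h1⟩

theorem Inv.rel {M : Matrix α α ℤ} (hM : Inv G M) {a b c d : α} (h : Rel G a b c d) :
    M c d = M a b := by
  obtain ⟨g, hg, rfl, rfl⟩ := h
  exact hM g hg a b

open Classical in
/-- the orbital matrix -/
noncomputable def orb (G : Subgroup (Equiv.Perm α)) (a b : α) : Matrix α α ℤ :=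
  Matrix.of fun c d => if Rel G a b c d then 1 else 0

open Classical in
theorem orb_apply (a b c d : α) : orb G a b c d = if Rel G a b c d then 1 else 0 := rfl

theorem orb_inv (a b : α) : Inv G (orb G a b) := by
  classical
  intro g hg c d
  rw [orb_apply, orb_apply]
  have h : Rel G a b (g c) (g d) ↔ Rel G a b c d := by
    constructor
    · intro h
      exact h.trans (Rel.symm ⟨g, hg, rfl, rfl⟩)
    · intro h
      exact h.trans ⟨g, hg, rfl, rfl⟩
  rw [if_congr h rfl rfl]

theorem Inv.rowsum {M : Matrix α α ℤ} [MulAction.IsPretransitive G α] (hM : Inv G M) (a b : α) :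
    ∑ c, M a c = ∑ c, M b c := by
  obtain ⟨g, rfl⟩ := MulAction.exists_smul_eq G a b
  refine Fintype.sum_equiv (g : Equiv.Perm α) _ _ fun c => ?_
  exact (hM g g.2 a c).symm

theorem Inv.colsum {M : Matrix α α ℤ} [MulAction.IsPretransitive G α] (hM : Inv G M) (a b : α) :
    ∑ c, M c a = ∑ c, M c b := hM.transpose.rowsum a b

theorem Inv.diag {M : Matrix α α ℤ} [MulAction.IsPretransitive G α] (hM : Inv G M) (a b : α) :
    M a a = M b b := by
  obtain ⟨g, rfl⟩ := MulAction.exists_smul_eq G a b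
  exact (hM g g.2 a a).symm

/-- row sum equals column sum -/
theorem Inv.rowsum_eq_colsum {M : Matrix α α ℤ} [MulAction.IsPretransitive G α] (hM : Inv G M)
    (a : α) : ∑ c, M a c = ∑ c, M c a := by
  have h1 : ∑ b, ∑ c, M b c = Fintype.card α • ∑ c, M a c := by
    rw [Finset.sum_congr rfl fun b _ => hM.rowsum b a, Finset.sum_const, Finset.card_univ]
  have h2 : ∑ b, ∑ c, M b c = Fintype.card α • ∑ c, M c a := by
    have h3 : ∑ b, ∑ c, M b c = ∑ c, ∑ b, M b c := Finset.sum_comm
    rw [h3, Finset.sum_congr rfl fun b _ => hM.colsum b a, Finset.sum_const,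
      Finset.card_univ]
  rw [h1] at h2
  have hne : (Fintype.card α : ℤ) ≠ 0 := by
    have : 0 < Fintype.card α := Fintype.card_pos_iff.2 ⟨a⟩
    omega
  rw [nsmul_eq_mul, nsmul_eq_mul] at h2
  exact mul_left_cancel₀ hne h2

/-! ### coordinates -/

/-- the data: coordinates for a fixed point free element of order `p` -/
structure Coords (G : Subgroup (Equiv.Perm α)) (p : ℕ) [Fact p.Prime] where
  e : Fin 2 × ZMod p ≃ α
  x : Equiv.Perm α
  hx : x ∈ G
  hxe : ∀ i j, x (e (i, j)) = e (i, j + 1)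

variable (C : Coords G p)

theorem Coords.pow_e (n : ℕ) (i : Fin 2) (j : ZMod p) :
    (C.x ^ n) (C.e (i, j)) = C.e (i, j + n) := by
  induction n with
  | zero => simp
  | succ n ih =>
    rw [pow_succ', Equiv.Perm.mul_apply, ih, C.hxe]
    push_cast
    congr 2
    ring

theorem Coords.rel (i i' : Fin 2) (s j : ZMod p) :
    Rel G (C.e (i, 0)) (C.e (i', j)) (C.e (i, s)) (C.e (i', s + j)) := by
  refine ⟨C.x ^ s.val, G.pow_mem C.hx _, ?_, ?_⟩
  · rw [C.pow_e, ZMod.natCast_val, ZMod.cast_id, zero_add]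
  · rw [C.pow_e, ZMod.natCast_val, ZMod.cast_id, add_comm]

theorem Coords.inv_shift {M : Matrix α α ℤ} (hM : Inv G M) (i i' : Fin 2) (s j : ZMod p) :
    M (C.e (i, s)) (C.e (i', s + j)) = M (C.e (i, 0)) (C.e (i', j)) :=
  hM.rel (C.rel i i' s j)

theorem Coords.inv_sub {M : Matrix α α ℤ} (hM : Inv G M) (i i' : Fin 2) (s j : ZMod p) :
    M (C.e (i, s)) (C.e (i', j)) = M (C.e (i, 0)) (C.e (i', j - s)) := by
  rw [← C.inv_shift hM i i' s (j - s), add_sub_cancel]

/-- the sign vector -/
def Coords.u (a : α) : ℤ := if (C.e.symm a).1 = 0 then 1 else -1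

theorem Coords.u_zero (j : ZMod p) : C.u (C.e (0, j)) = 1 := by
  unfold Coords.u
  rw [Equiv.symm_apply_apply, if_pos rfl]

theorem Coords.u_one (j : ZMod p) : C.u (C.e (1, j)) = -1 := by
  unfold Coords.u
  rw [Equiv.symm_apply_apply, if_neg]
  exact one_ne_zero

theorem Coords.u_sq (a : α) : C.u a * C.u a = 1 := by
  unfold Coords.u
  split_ifs <;> rfl

theorem Coords.sum_eq {R : Type*} [AddCommMonoid R] (f : α → R) :
    ∑ a, f a = ∑ j, f (C.e (0, j)) + ∑ j, f (C.e (1, j)) := by
  rw [← C.e.sum_comp, Fintype.sum_prod_type, Fin.sum_univ_two]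

theorem Coords.sum_u : ∑ a, C.u a = 0 := by
  rw [C.sum_eq]
  simp only [C.u_zero, C.u_one, Finset.sum_const, Finset.card_univ]
  simp

theorem Coords.const_of_invariant {R : Type*} (f : α → R) (hf : ∀ a, f (C.x a) = f a)
    (i : Fin 2) (j : ZMod p) : f (C.e (i, j)) = f (C.e (i, 0)) := by
  have h1 : ∀ n : ℕ, f (C.e (i, (n : ZMod p))) = f (C.e (i, 0)) := by
    intro n
    induction n with
    | zero => simp
    | succ n ih =>
      push_cast
      rw [← C.hxe, hf, ih]
  have := h1 j.val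
  rwa [ZMod.natCast_val, ZMod.cast_id] at this

theorem Coords.u_x (a : α) : C.u (C.x a) = C.u a := by
  obtain ⟨⟨i, j⟩, rfl⟩ := C.e.surjective a
  rw [C.hxe]
  unfold Coords.u
  rw [Equiv.symm_apply_apply, Equiv.symm_apply_apply]

/-- the eigenvalue of an invariant matrix on the sign vector -/
def Coords.th (M : Matrix α α ℤ) : ℤ := M.mulVec C.u (C.e (0, 0))

theorem Coords.mulVec_u [MulAction.IsPretransitive G α] {M : Matrix α α ℤ} (hM : Inv G M) :
    M.mulVec C.u = C.th M • C.u := by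
  have hinv : ∀ a, M.mulVec C.u (C.x a) = M.mulVec C.u a := by
    intro a
    change ∑ c, M (C.x a) c * C.u c = ∑ c, M a c * C.u c
    refine (Fintype.sum_equiv C.x _ _ fun c => ?_).symm
    rw [hM C.x C.hx, C.u_x]
  have h0 := C.const_of_invariant _ hinv 0
  have h1 := C.const_of_invariant _ hinv 1
  have hsum : ∑ a, M.mulVec C.u a = 0 := by
    have h2 : ∀ a, M.mulVec C.u a = ∑ b, M a b * C.u b := fun a => rfl
    simp only [h2]
    rw [Finset.sum_comm]
    simp only [← Finset.sum_mul]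
    have h3 : ∀ b, ∑ a, M a b = ∑ a, M a (C.e (0, 0)) := fun b => hM.colsum b _
    simp only [h3]
    rw [← Finset.mul_sum, C.sum_u, mul_zero]
  rw [C.sum_eq] at hsum
  simp only [h0, h1, Finset.sum_const, Finset.card_univ, ZMod.card, nsmul_eq_mul] at hsum
  have hp0 : (p : ℤ) ≠ 0 := by
    have := hp.out.pos
    omega
  have h2 : M.mulVec C.u (C.e (1, 0)) = - M.mulVec C.u (C.e (0, 0)) := by
    have : (p : ℤ) * (M.mulVec C.u (C.e (0, 0)) + M.mulVec C.u (C.e (1, 0))) = 0 := by
      rw [mul_add]; exact hsum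
    have := (mul_eq_zero.1 this).resolve_left hp0
    linarith
  funext a
  obtain ⟨⟨i, j⟩, rfl⟩ := C.e.surjective a
  rw [Pi.smul_apply, smul_eq_mul]
  fin_cases i
  · change M.mulVec C.u (C.e (0, j)) = _ * C.u (C.e (0, j))
    rw [h0, C.u_zero, mul_one]
    rfl
  · change M.mulVec C.u (C.e (1, j)) = _ * C.u (C.e (1, j))
    rw [h1, C.u_one, h2, mul_neg_one]
    rfl

theorem Coords.th_mul [MulAction.IsPretransitive G α] {M N : Matrix α α ℤ} (hM : Inv G M)
    (hN : Inv G N) : C.th (M * N) = C.th M * C.th N := by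
  have h1 : (M * N).mulVec C.u = (C.th N * C.th M) • C.u := by
    rw [← mulVec_mulVec, C.mulVec_u hN, mulVec_smul, C.mulVec_u hM, smul_smul]
  unfold Coords.th at h1 ⊢
  rw [h1, Pi.smul_apply, C.u_zero, smul_eq_mul, mul_one, mul_comm]

theorem Coords.th_one : C.th (1 : Matrix α α ℤ) = 1 := by
  unfold Coords.th
  rw [one_mulVec, C.u_zero]

theorem Coords.th_add (M N : Matrix α α ℤ) : C.th (M + N) = C.th M + C.th N := by
  unfold Coords.th
  rw [add_mulVec, Pi.add_apply]

theorem Coords.th_smul (c : ℤ) (M : Matrix α α ℤ) : C.th (c • M) = c * C.th M := by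
  unfold Coords.th
  rw [smul_mulVec, Pi.smul_apply, smul_eq_mul]

theorem Coords.th_transpose [MulAction.IsPretransitive G α] {M : Matrix α α ℤ} (hM : Inv G M) :
    C.th Mᵀ = C.th M := by
  have h1 : C.u ⬝ᵥ (M.mulVec C.u) = (Mᵀ.mulVec C.u) ⬝ᵥ C.u := by
    rw [dotProduct_mulVec, mulVec_transpose]
  rw [C.mulVec_u hM, C.mulVec_u hM.transpose, dotProduct_smul, smul_dotProduct] at h1
  have h2 : C.u ⬝ᵥ C.u = 2 * p := by
    unfold dotProduct
    simp only [C.u_sq, Finset.sum_const, Finset.card_univ]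
    rw [← Fintype.card_congr C.e, Fintype.card_prod, Fintype.card_fin, ZMod.card]
    simp
  rw [h2] at h1
  have hp0 : (2 * (p : ℤ)) ≠ 0 := by
    have := hp.out.pos
    omega
  exact (mul_right_cancel₀ hp0 h1).symm

/-! ### the averaged rank one matrix -/

variable [Fintype G]

/-- the average of the rank one matrix `u uᵀ` over the group -/
noncomputable def Coords.F : Matrix α α ℤ :=
  Matrix.of fun a b => ∑ g : G, C.u ((g : Equiv.Perm α) a) * C.u ((g : Equiv.Perm α) b)

theorem Coords.F_apply (a b : α) :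
    C.F a b = ∑ g : G, C.u ((g : Equiv.Perm α) a) * C.u ((g : Equiv.Perm α) b) := rfl

theorem Coords.F_inv : Inv G C.F := by
  classical
  intro g hg a b
  rw [C.F_apply, C.F_apply]
  exact Fintype.sum_equiv (Equiv.mulRight (⟨g, hg⟩ : G)) _ _ fun k => rfl

theorem Coords.F_symm (a b : α) : C.F a b = C.F b a := by
  rw [C.F_apply, C.F_apply]
  exact Finset.sum_congr rfl fun g _ => mul_comm _ _

theorem Coords.F_transpose : (C.F)ᵀ = C.F := by
  ext a b
  exact C.F_symm b a

theorem Coords.F_diag (a : α) : C.F a a = Nat.card G := by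
  classical
  rw [C.F_apply]
  simp only [C.u_sq, Finset.sum_const, Finset.card_univ]
  simp

theorem Coords.F_diag_pos (a : α) : 0 < C.F a a := by
  rw [C.F_diag]
  exact_mod_cast Nat.card_pos

theorem Coords.F_rowsum (a : α) : ∑ b, C.F a b = 0 := by
  simp only [C.F_apply]
  rw [Finset.sum_comm]
  refine Finset.sum_eq_zero fun g _ => ?_
  rw [← Finset.mul_sum, Equiv.sum_comp (g : Equiv.Perm α) C.u, C.sum_u, mul_zero]

theorem Coords.mul_F [MulAction.IsPretransitive G α] {M : Matrix α α ℤ} (hM : Inv G M) :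
    M * C.F = C.th M • C.F := by
  ext a b
  rw [mul_apply, Matrix.smul_apply, C.F_apply, smul_eq_mul, Finset.mul_sum]
  simp only [C.F_apply, Finset.mul_sum]
  rw [Finset.sum_comm]
  refine Finset.sum_congr rfl fun g _ => ?_
  have h1 : ∑ c, M a c * C.u ((g : Equiv.Perm α) c) = C.th M * C.u ((g : Equiv.Perm α) a) := by
    have h2 := congrFun (C.mulVec_u hM) ((g : Equiv.Perm α) a)
    rw [Pi.smul_apply, smul_eq_mul] at h2
    rw [← h2]
    change _ = ∑ c, M ((g : Equiv.Perm α) a) c * C.u c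
    refine Fintype.sum_equiv (g : Equiv.Perm α) _ _ fun c => ?_
    rw [hM g g.2]
  rw [← mul_assoc, ← h1, Finset.sum_mul]
  exact Finset.sum_congr rfl fun c _ => by ring

theorem Coords.F_mul [MulAction.IsPretransitive G α] {M : Matrix α α ℤ} (hM : Inv G M) :
    C.F * M = C.th M • C.F := by
  have h1 := congrArg Matrix.transpose (C.mul_F hM.transpose)
  rw [transpose_mul, transpose_transpose, C.F_transpose, C.th_transpose hM, transpose_smul,
    C.F_transpose] at h1
  exact h1

theorem Coords.F_sq_pos [MulAction.IsPretransitive G α] : 0 < C.th C.F := by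
  have h1 := congrFun (congrFun (C.mul_F C.F_inv) (C.e (0, 0))) (C.e (0, 0))
  rw [Matrix.smul_apply, smul_eq_mul, mul_apply] at h1
  have hpos := C.F_diag_pos (C.e (0, 0))
  have h2 : 0 < ∑ b, C.F (C.e (0, 0)) b * C.F b (C.e (0, 0)) := by
    refine Finset.sum_pos' (fun b _ => ?_) ⟨C.e (0, 0), Finset.mem_univ _, mul_pos hpos hpos⟩
    rw [C.F_symm b]
    exact mul_self_nonneg _
  rw [h1] at h2
  by_contra h3
  push Not at h3
  nlinarith

/-- the value of `F` on an orbital -/
theorem Coords.F_mul_card [MulAction.IsPretransitive G α] {M : Matrix α α ℤ} (hM : Inv G M)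
    (a : α) : ∑ b, C.F a b * M a b = C.th M * Nat.card G := by
  have h1 := congrFun (congrFun (C.F_mul hM.transpose) a) a
  rw [Matrix.smul_apply, smul_eq_mul, mul_apply, C.th_transpose hM, C.F_diag] at h1
  exact h1

end

end Cfsg.Agent.H12.TwoP
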