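import Cfsg.Agent.H12.TwoPA

set_option autoImplicit false
set_option linter.unusedSectionVars false

/-! Wielandt's theorem on primitive groups of degree `2p` (S0720), part B: evaluation at the
trivial character and at a primitive character of the cyclic group. -/

namespace Cfsg.Agent.H12.TwoP

open Matrix

section char

variable {p : ℕ} [hp : Fact p.Prime]

/-- a multiplicative function on `ZMod p` -/
structure MChar (p : ℕ) where
  chi : ZMod p → ℂ
  add : ∀ s t, chi (s + t) = chi s * chi t
  zero : chi 0 = 1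

def MChar.triv (p : ℕ) : MChar p := ⟨fun _ => 1, fun _ _ => (one_mul 1).symm, rfl⟩

/-- a primitive `p`-th root of unity -/
noncomputable def zeta (p : ℕ) : ℂ := Complex.exp (2 * Real.pi * Complex.I / p)

theorem zeta_prim : IsPrimitiveRoot (zeta p) p :=
  Complex.isPrimitiveRoot_exp p hp.out.ne_zero

noncomputable def MChar.prim (p : ℕ) [hp : Fact p.Prime] : MChar p where
  chi j := zeta p ^ j.val
  add s t := by
    rw [← pow_add, ZMod.val_add]
    have := pow_mod_orderOf (zeta p) (s.val + t.val)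
    rw [← zeta_prim.eq_orderOf] at this
    exact this
  zero := by rw [ZMod.val_zero, pow_zero]

/-- evaluation of a function on `ZMod p` -/
noncomputable def ev (χ : MChar p) (f : ZMod p → ℤ) : ℂ := ∑ j, (f j : ℂ) * χ.chi j

/-- convolution -/
def conv (f g : ZMod p → ℤ) : ZMod p → ℤ := fun w => ∑ s, f s * g (w - s)

theorem ev_conv (χ : MChar p) (f g : ZMod p → ℤ) : ev χ (conv f g) = ev χ f * ev χ g := by
  unfold ev conv
  rw [Finset.sum_mul]
  push_cast
  simp only [Finset.sum_mul, Finset.mul_sum]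
  rw [Finset.sum_comm]
  refine Finset.sum_congr rfl fun s _ => ?_
  refine Fintype.sum_equiv (Equiv.subRight s) _ _ fun w => ?_
  rw [Equiv.subRight_apply]
  have : χ.chi w = χ.chi s * χ.chi (w - s) := by rw [← χ.add, add_sub_cancel]
  rw [this]
  ring

theorem ev_sub (χ : MChar p) (f g : ZMod p → ℤ) : ev χ (fun j => f j - g j) = ev χ f - ev χ g := by
  unfold ev
  rw [← Finset.sum_sub_distrib]
  refine Finset.sum_congr rfl fun j _ => ?_
  push_cast
  ring

theorem ev_single (χ : MChar p) (c : ℤ) : ev χ (fun j => if j = 0 then c else 0) = c := by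
  unfold ev
  rw [Finset.sum_eq_single 0]
  · simp only [if_pos, χ.zero, mul_one]
  · intro j _ hj
    simp only [if_neg hj, Int.cast_zero, zero_mul]
  · intro h
    exact absurd (Finset.mem_univ _) h

/-- the kernel of the evaluation at a primitive character consists of constants -/
theorem const_of_ev_prim (f : ZMod p → ℤ) (hf : ev (MChar.prim p) f = 0) (j : ZMod p) :
    f j = f 0 := by
  have hprime := hp.out
  -- values at the naturals below `p`
  have h1 : ∑ i ∈ Finset.range p, (f (i : ZMod p) : ℂ) * zeta p ^ i = 0 := by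
    rw [← hf]
    unfold ev
    symm
    refine Finset.sum_bij (fun j _ => j.val) ?_ ?_ ?_ ?_
    · intro a _
      exact Finset.mem_range.2 (ZMod.val_lt a)
    · intro a _ b _ h
      exact ZMod.val_injective p h
    · intro b hb
      refine ⟨(b : ZMod p), Finset.mem_univ _, ?_⟩
      exact ZMod.val_cast_of_lt (Finset.mem_range.1 hb)
    · intro a _
      rw [ZMod.natCast_val, ZMod.cast_id]
      rfl
  have hgeom : ∑ i ∈ Finset.range p, zeta p ^ i = 0 :=
    zeta_prim.geom_sum_eq_zero hprime.one_lt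
  -- subtract the last coefficient
  obtain ⟨m, hm⟩ : ∃ m, p = m + 1 := ⟨p - 1, by have := hprime.pos; omega⟩
  let q : Polynomial ℚ := ∑ i ∈ Finset.range m, Polynomial.monomial i
    ((f (i : ZMod p) - f (m : ZMod p) : ℤ) : ℚ)
  have hq : Polynomial.aeval (zeta p) q = 0 := by
    have h2 : Polynomial.aeval (zeta p) q =
        ∑ i ∈ Finset.range m, ((f (i : ZMod p) - f (m : ZMod p) : ℤ) : ℂ) * zeta p ^ i := by
      rw [map_sum]
      refine Finset.sum_congr rfl fun i _ => ?_
      rw [Polynomial.aeval_monomial]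
      simp
    have h3 : ∑ i ∈ Finset.range p, ((f (i : ZMod p) - f (m : ZMod p) : ℤ) : ℂ) * zeta p ^ i = 0 := by
      push_cast
      simp only [sub_mul, Finset.sum_sub_distrib]
      rw [h1, ← Finset.mul_sum, hgeom, mul_zero, sub_zero]
    have h4 : ∑ i ∈ Finset.range (m + 1), ((f (i : ZMod p) - f (m : ZMod p) : ℤ) : ℂ) * zeta p ^ i
        = 0 := by rw [← hm]; exact h3
    rw [Finset.sum_range_succ, sub_self] at h4
    rw [h2]
    simpa using h4
  have hq0 : q = 0 := by
    by_contra hne
    have hdeg := minpoly.degree_le_of_ne_zero ℚ (zeta p) hne hq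
    rw [← Polynomial.cyclotomic_eq_minpoly_rat zeta_prim hprime.pos,
      Polynomial.degree_cyclotomic, Nat.totient_prime hprime] at hdeg
    have h5 : q.degree < (p - 1 : ℕ) := by
      rw [Polynomial.degree_lt_iff_coeff_zero]
      intro n hn
      rw [Polynomial.finsetSum_coeff]
      refine Finset.sum_eq_zero fun i hi => ?_
      rw [Polynomial.coeff_monomial, if_neg]
      have := Finset.mem_range.1 hi
      omega
    exact absurd hdeg (not_le.2 h5)
  have h6 : ∀ i : ℕ, i < p → f (i : ZMod p) = f (m : ZMod p) := by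
    intro i hi
    rcases Nat.lt_or_ge i m with hlt | hge
    · have h7 := congrArg (fun r => Polynomial.coeff r i) hq0
      simp only [q, Polynomial.finsetSum_coeff, Polynomial.coeff_monomial, Polynomial.coeff_zero]
        at h7
      rw [Finset.sum_ite_eq' (Finset.range m) i, if_pos (Finset.mem_range.2 hlt)] at h7
      have h8 : f (i : ZMod p) - f (m : ZMod p) = 0 := by exact_mod_cast h7
      linarith
    · have : i = m := by omega
      rw [this]
  have h7 := h6 j.val (ZMod.val_lt j)
  have h8 := h6 0 hprime.pos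
  rw [ZMod.natCast_val, ZMod.cast_id] at h7
  rw [Nat.cast_zero] at h8
  rw [h7, h8]

theorem eq_of_ev (f g : ZMod p → ℤ) (h1 : ev (MChar.triv p) f = ev (MChar.triv p) g)
    (h2 : ev (MChar.prim p) f = ev (MChar.prim p) g) : f = g := by
  have h3 : ev (MChar.prim p) (fun j => f j - g j) = 0 := by rw [ev_sub, h2, sub_self]
  have h4 : ev (MChar.triv p) (fun j => f j - g j) = 0 := by rw [ev_sub, h1, sub_self]
  have h5 := const_of_ev_prim _ h3
  have h6 : ev (MChar.triv p) (fun j => f j - g j) = p * ((f 0 - g 0 : ℤ) : ℂ) := by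
    unfold ev
    have : ∀ j, ((f j - g j : ℤ) : ℂ) * (MChar.triv p).chi j = ((f 0 - g 0 : ℤ) : ℂ) := by
      intro j
      rw [h5 j]
      exact mul_one _
    rw [Finset.sum_congr rfl fun j _ => this j, Finset.sum_const, Finset.card_univ, ZMod.card,
      nsmul_eq_mul]
  rw [h6] at h4
  have hp0 : (p : ℂ) ≠ 0 := by exact_mod_cast hp.out.ne_zero
  have h7 := (mul_eq_zero.1 h4).resolve_left hp0
  have h8 : f 0 - g 0 = 0 := by exact_mod_cast h7
  funext j
  have := h5 j
  rw [h8] at this
  linarith

end char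

/-! ### two by two matrices -/

theorem two_rank_one {Q : Matrix (Fin 2) (Fin 2) ℂ} (hQ : Q * Q = Q)
    (htr : Q.trace = 1) (A B : Matrix (Fin 2) (Fin 2) ℂ) (hA : A * Q = Q * A)
    (hB : B * Q = Q * B) :
    (A * B * Q).trace = (A * Q).trace * (B * Q).trace := by
  have h00 := congrFun (congrFun hQ 0) 0
  have h01 := congrFun (congrFun hQ 0) 1
  have h10 := congrFun (congrFun hQ 1) 0
  have h11 := congrFun (congrFun hQ 1) 1
  simp only [mul_apply, Fin.sum_univ_two] at h00 h01 h10 h11
  rw [Matrix.trace_fin_two] at htr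
  have hdet : Q 0 0 * Q 1 1 = Q 0 1 * Q 1 0 := by
    have : Q 1 1 = 1 - Q 0 0 := by rw [← htr]; ring
    rw [this]
    linear_combination -h00
  have key : ∀ M : Matrix (Fin 2) (Fin 2) ℂ, Q * M * Q = (M * Q).trace • Q := by
    intro M
    ext i j
    rw [Matrix.smul_apply, smul_eq_mul, Matrix.trace_fin_two]
    simp only [mul_apply, Fin.sum_univ_two]
    fin_cases i <;> fin_cases j <;> simp only [Fin.zero_eta, Fin.mk_one, Fin.isValue]
    · linear_combination (- M 1 1) * hdet
    · linear_combination (M 0 1) * hdet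
    · linear_combination (M 1 0) * hdet
    · linear_combination (- M 0 0) * hdet
  have e1 : A * Q = (A * Q).trace • Q := by
    rw [← key, ← hA, mul_assoc, hQ]
  have e2 : B * Q = (B * Q).trace • Q := by
    rw [← key, ← hB, mul_assoc, hQ]
  obtain ⟨x, hx⟩ : ∃ x, x = (A * Q).trace := ⟨_, rfl⟩
  obtain ⟨y, hy⟩ : ∃ y, y = (B * Q).trace := ⟨_, rfl⟩
  rw [← hx] at e1 ⊢
  rw [← hy] at e2 ⊢
  have e3 : A * B * Q = (y * x) • Q := by
    rw [mul_assoc, e2, mul_smul_comm, e1, smul_smul]
  rw [e3, trace_smul, Matrix.trace_fin_two, htr, smul_eq_mul, mul_one, mul_comm]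

theorem two_trichotomy {Q : Matrix (Fin 2) (Fin 2) ℂ} (hQ : Q * Q = Q) :
    Q = 0 ∨ Q = 1 ∨ Q.trace = 1 := by
  have h00 := congrFun (congrFun hQ 0) 0
  have h01 := congrFun (congrFun hQ 0) 1
  have h10 := congrFun (congrFun hQ 1) 0
  have h11 := congrFun (congrFun hQ 1) 1
  simp only [mul_apply, Fin.sum_univ_two] at h00 h01 h10 h11
  by_cases htr : Q.trace = 1
  · exact Or.inr (Or.inr htr)
  rw [Matrix.trace_fin_two] at htr
  have htr' : Q 0 0 + Q 1 1 - 1 ≠ 0 := sub_ne_zero.2 htr
  have e01 : Q 0 1 = 0 := by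
    have : Q 0 1 * (Q 0 0 + Q 1 1 - 1) = 0 := by linear_combination h01
    exact (mul_eq_zero.1 this).resolve_right htr'
  have e10 : Q 1 0 = 0 := by
    have : Q 1 0 * (Q 0 0 + Q 1 1 - 1) = 0 := by linear_combination h10
    exact (mul_eq_zero.1 this).resolve_right htr'
  rw [e01, zero_mul, add_zero] at h00
  rw [e10, zero_mul, zero_add] at h11
  have h0 : Q 0 0 = 0 ∨ Q 0 0 = 1 := by
    have : Q 0 0 * (Q 0 0 - 1) = 0 := by linear_combination h00
    rcases mul_eq_zero.1 this with h | h
    · exact Or.inl h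
    · exact Or.inr (sub_eq_zero.1 h)
  have h1 : Q 1 1 = 0 ∨ Q 1 1 = 1 := by
    have : Q 1 1 * (Q 1 1 - 1) = 0 := by linear_combination h11
    rcases mul_eq_zero.1 this with h | h
    · exact Or.inl h
    · exact Or.inr (sub_eq_zero.1 h)
  rcases h0 with h0 | h0 <;> rcases h1 with h1 | h1
  · left
    ext i j
    fin_cases i <;> fin_cases j <;> simp [h0, h1, e01, e10]
  · exfalso; apply htr; rw [h0, h1]; ring
  · exfalso; apply htr; rw [h0, h1]; ring
  · right; left
    ext i j
    fin_cases i <;> fin_cases j <;> simp [h0, h1, e01, e10]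

end Cfsg.Agent.H12.TwoP
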