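import Cfsg.Agent.H12.TwoPB

set_option autoImplicit false
set_option linter.unusedSectionVars false

/-! Wielandt's theorem on primitive groups of degree `2p` (S0720), part C: the trichotomy and the
ring homomorphism to functions on `ZMod p`. -/

namespace Cfsg.Agent.H12.TwoP

open Matrix

section

variable {α : Type*} [Fintype α] [DecidableEq α] {p : ℕ} [hp : Fact p.Prime]
variable {G : Subgroup (Equiv.Perm α)} (C : Coords G p)

/-- Fourier transform of the blocks -/
noncomputable def Coords.hat (χ : MChar p) (M : Matrix α α ℤ) : Matrix (Fin 2) (Fin 2) ℂ :=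
  Matrix.of fun i i' => ev χ fun j => M (C.e (i, 0)) (C.e (i', j))

theorem Coords.hat_apply (χ : MChar p) (M : Matrix α α ℤ) (i i' : Fin 2) :
    C.hat χ M i i' = ∑ j, (M (C.e (i, 0)) (C.e (i', j)) : ℂ) * χ.chi j := rfl

theorem Coords.hat_mul (χ : MChar p) (M : Matrix α α ℤ) {N : Matrix α α ℤ} (hN : Inv G N) :
    C.hat χ (M * N) = C.hat χ M * C.hat χ N := by
  ext i i'
  have h1 : ∀ j, ((M * N) (C.e (i, 0)) (C.e (i', j)) : ℂ) =
      ∑ i'' : Fin 2, ∑ s : ZMod p, (M (C.e (i, 0)) (C.e (i'', s)) : ℂ) *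
        (N (C.e (i'', 0)) (C.e (i', j - s)) : ℂ) := by
    intro j
    rw [mul_apply, ← C.e.sum_comp, Fintype.sum_prod_type]
    push_cast
    refine Finset.sum_congr rfl fun i'' _ => Finset.sum_congr rfl fun s _ => ?_
    rw [C.inv_sub hN]
  rw [C.hat_apply, mul_apply]
  simp only [C.hat_apply, h1]
  simp only [Finset.sum_mul, Finset.mul_sum]
  rw [Finset.sum_comm]
  refine Finset.sum_congr rfl fun i'' _ => ?_
  rw [Finset.sum_comm, Finset.sum_comm (s := Finset.univ) (t := Finset.univ)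
    (f := fun j s => (M (C.e (i, 0)) (C.e (i'', s)) : ℂ) * χ.chi s *
      ((N (C.e (i'', 0)) (C.e (i', j)) : ℂ) * χ.chi j))]
  refine Finset.sum_congr rfl fun s _ => ?_
  refine Fintype.sum_equiv (Equiv.subRight s) _ _ fun w => ?_
  rw [Equiv.subRight_apply]
  have : χ.chi w = χ.chi s * χ.chi (w - s) := by rw [← χ.add, add_sub_cancel]
  rw [this]
  ring

theorem Coords.hat_smul (χ : MChar p) (c : ℤ) (M : Matrix α α ℤ) :
    C.hat χ (c • M) = (c : ℂ) • C.hat χ M := by
  ext i i'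
  rw [Matrix.smul_apply, C.hat_apply, C.hat_apply, smul_eq_mul, Finset.mul_sum]
  refine Finset.sum_congr rfl fun j _ => ?_
  rw [Matrix.smul_apply, smul_eq_mul]
  push_cast
  ring

/-- the diagonal blocks -/
def Coords.cc (M : Matrix α α ℤ) (j : ZMod p) : ℤ :=
  M (C.e (0, 0)) (C.e (0, j)) + M (C.e (1, 0)) (C.e (1, j))

/-- the homomorphism to functions on `ZMod p` -/
def Coords.phi (M : Matrix α α ℤ) (j : ZMod p) : ℤ := C.cc M j - if j = 0 then C.th M else 0

theorem Coords.phi_ne (M : Matrix α α ℤ) {j : ZMod p} (hj : j ≠ 0) : C.phi M j = C.cc M j := by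
  unfold Coords.phi
  rw [if_neg hj, sub_zero]

theorem Coords.phi_zero (M : Matrix α α ℤ) : C.phi M 0 = C.cc M 0 - C.th M := by
  unfold Coords.phi
  rw [if_pos rfl]

theorem Coords.trace_hat (χ : MChar p) (M : Matrix α α ℤ) :
    (C.hat χ M).trace = ev χ (C.cc M) := by
  rw [Matrix.trace_fin_two, C.hat_apply, C.hat_apply, ← Finset.sum_add_distrib]
  unfold ev Coords.cc
  refine Finset.sum_congr rfl fun j _ => ?_
  push_cast
  ring

theorem Coords.ev_phi (χ : MChar p) (M : Matrix α α ℤ) :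
    ev χ (C.phi M) = (C.hat χ M).trace - C.th M := by
  rw [C.trace_hat, ← ev_single χ (C.th M), ← ev_sub]
  rfl

/-- the row sum -/
def Coords.ka (M : Matrix α α ℤ) : ℤ := ∑ b, M (C.e (0, 0)) b

theorem Coords.ka_mul [MulAction.IsPretransitive G α] (M : Matrix α α ℤ) {N : Matrix α α ℤ}
    (hN : Inv G N) : C.ka (M * N) = C.ka M * C.ka N := by
  unfold Coords.ka
  simp only [mul_apply]
  have h1 : ∑ b, ∑ c, M (C.e (0, 0)) c * N c b = ∑ c, ∑ b, M (C.e (0, 0)) c * N c b :=
    Finset.sum_comm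
  rw [h1, Finset.sum_mul]
  refine Finset.sum_congr rfl fun c _ => ?_
  rw [← Finset.mul_sum, hN.rowsum c (C.e (0, 0))]

theorem Coords.th_eq (M : Matrix α α ℤ) : C.th M =
    ∑ j, M (C.e (0, 0)) (C.e (0, j)) - ∑ j, M (C.e (0, 0)) (C.e (1, j)) := by
  have h1 : C.th M = ∑ b, M (C.e (0, 0)) b * C.u b := rfl
  rw [h1, C.sum_eq]
  simp only [C.u_zero, C.u_one, mul_one, mul_neg, Finset.sum_neg_distrib]
  ring

/-- the sum of the diagonal blocks -/
theorem Coords.sum_cc [MulAction.IsPretransitive G α] {M : Matrix α α ℤ} (hM : Inv G M) :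
    ∑ j, C.cc M j = C.ka M + C.th M := by
  have h0 : C.ka M = ∑ j, M (C.e (0, 0)) (C.e (0, j)) + ∑ j, M (C.e (0, 0)) (C.e (1, j)) :=
    C.sum_eq _
  have h1 : C.ka M = ∑ j, M (C.e (1, 0)) (C.e (0, j)) + ∑ j, M (C.e (1, 0)) (C.e (1, j)) := by
    have h2 : C.ka M = ∑ b, M (C.e (1, 0)) b := hM.rowsum _ _
    rw [h2]
    exact C.sum_eq _
  have h2 := C.th_eq M
  have h3 : - C.th M =
      ∑ j, M (C.e (1, 0)) (C.e (0, j)) - ∑ j, M (C.e (1, 0)) (C.e (1, j)) := by
    have h4 := congrFun (C.mulVec_u hM) (C.e (1, 0))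
    rw [Pi.smul_apply, C.u_one, smul_eq_mul, mul_neg_one] at h4
    rw [← h4]
    have h5 : M.mulVec C.u (C.e (1, 0)) = ∑ b, M (C.e (1, 0)) b * C.u b := rfl
    rw [h5, C.sum_eq]
    simp only [C.u_zero, C.u_one, mul_one, mul_neg, Finset.sum_neg_distrib]
    ring
  unfold Coords.cc
  rw [Finset.sum_add_distrib]
  linarith

theorem ev_triv (f : ZMod p → ℤ) : ev (MChar.triv p) f = ((∑ j, f j : ℤ) : ℂ) := by
  unfold ev MChar.triv
  push_cast
  exact Finset.sum_congr rfl fun j _ => mul_one _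

theorem Coords.sum_phi [MulAction.IsPretransitive G α] {M : Matrix α α ℤ} (hM : Inv G M) :
    ∑ j, C.phi M j = C.ka M := by
  unfold Coords.phi
  rw [Finset.sum_sub_distrib, C.sum_cc hM, Finset.sum_ite_eq' Finset.univ (0 : ZMod p),
    if_pos (Finset.mem_univ _)]
  ring

variable [Fintype G]

/-- the trichotomy for the Fourier transform of `F` at a primitive character -/
theorem Coords.trichotomy [MulAction.IsPretransitive G α] :
    C.hat (MChar.prim p) C.F = 0 ∨
    C.hat (MChar.prim p) C.F = (C.th C.F : ℂ) • (1 : Matrix (Fin 2) (Fin 2) ℂ) ∨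
    (C.hat (MChar.prim p) C.F).trace = C.th C.F := by
  have hpos : (C.th C.F : ℂ) ≠ 0 := by
    have := C.F_sq_pos
    exact_mod_cast this.ne'
  have h1 : C.hat (MChar.prim p) C.F * C.hat (MChar.prim p) C.F =
      (C.th C.F : ℂ) • C.hat (MChar.prim p) C.F := by
    rw [← C.hat_mul _ _ C.F_inv, C.mul_F C.F_inv, C.hat_smul]
  have h2 : ((C.th C.F : ℂ)⁻¹ • C.hat (MChar.prim p) C.F) *
      ((C.th C.F : ℂ)⁻¹ • C.hat (MChar.prim p) C.F) =
      (C.th C.F : ℂ)⁻¹ • C.hat (MChar.prim p) C.F := by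
    rw [smul_mul_smul_comm, h1, smul_smul]
    congr 1
    field_simp
  rcases two_trichotomy h2 with h | h | h
  · left
    have h3 := congrArg (fun X => (C.th C.F : ℂ) • X) h
    simp only [smul_smul, mul_inv_cancel₀ hpos, one_smul, smul_zero] at h3
    exact h3
  · right; left
    have h3 := congrArg (fun X => (C.th C.F : ℂ) • X) h
    simp only [smul_smul, mul_inv_cancel₀ hpos, one_smul] at h3
    exact h3
  · right; right
    rw [trace_smul, smul_eq_mul] at h
    field_simp at h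
    exact h

/-- in the third case `phi` is a ring homomorphism -/
theorem Coords.phi_mul [MulAction.IsPretransitive G α]
    (htr : (C.hat (MChar.prim p) C.F).trace = C.th C.F) {M N : Matrix α α ℤ} (hM : Inv G M)
    (hN : Inv G N) : C.phi (M * N) = conv (C.phi M) (C.phi N) := by
  have hpos : (C.th C.F : ℂ) ≠ 0 := by
    have := C.F_sq_pos
    exact_mod_cast this.ne'
  obtain ⟨Fh, hFh⟩ : ∃ X, X = C.hat (MChar.prim p) C.F := ⟨_, rfl⟩
  rw [← hFh] at htr
  have h1 : Fh * Fh = (C.th C.F : ℂ) • Fh := by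
    rw [hFh, ← C.hat_mul _ _ C.F_inv, C.mul_F C.F_inv, C.hat_smul]
  obtain ⟨E, hE⟩ : ∃ X, X = (C.th C.F : ℂ)⁻¹ • Fh := ⟨_, rfl⟩
  have hEE : E * E = E := by
    rw [hE, smul_mul_smul_comm, h1, smul_smul]
    congr 1
    field_simp
  have hEtr : E.trace = 1 := by
    rw [hE, trace_smul, htr, smul_eq_mul, inv_mul_cancel₀ hpos]
  have hl : ∀ X : Matrix α α ℤ, Inv G X → C.hat (MChar.prim p) X * E = (C.th X : ℂ) • E := by
    intro X hX
    rw [hE, mul_smul_comm, hFh, ← C.hat_mul _ _ C.F_inv, C.mul_F hX, C.hat_smul, smul_comm]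
  have hr : ∀ X : Matrix α α ℤ, Inv G X → E * C.hat (MChar.prim p) X = (C.th X : ℂ) • E := by
    intro X hX
    rw [hE, smul_mul_assoc, hFh, ← C.hat_mul _ _ hX, C.F_mul hX, C.hat_smul, smul_comm]
  have hQQ : (1 - E) * (1 - E) = 1 - E := by
    rw [sub_mul, one_mul, mul_sub, mul_one, hEE, sub_self, sub_zero]
  have hQtr : (1 - E).trace = 1 := by
    rw [trace_sub, hEtr, trace_one]
    norm_num
  have hcomm : ∀ X : Matrix α α ℤ, Inv G X →
      C.hat (MChar.prim p) X * (1 - E) = (1 - E) * C.hat (MChar.prim p) X := by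
    intro X hX
    rw [mul_sub, sub_mul, mul_one, one_mul, hl X hX, hr X hX]
  have htrX : ∀ X : Matrix α α ℤ, Inv G X →
      (C.hat (MChar.prim p) X * (1 - E)).trace = ev (MChar.prim p) (C.phi X) := by
    intro X hX
    rw [mul_sub, mul_one, hl X hX, trace_sub, trace_smul, hEtr, C.ev_phi, smul_eq_mul, mul_one]
  have hMN := hM.mul hN
  apply eq_of_ev
  · rw [ev_conv, ev_triv, ev_triv, ev_triv, C.sum_phi hM, C.sum_phi hN, C.sum_phi hMN,
      C.ka_mul M hN]
    push_cast
    ring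
  · rw [ev_conv, ← htrX M hM, ← htrX N hN, ← htrX _ hMN, C.hat_mul _ _ hN]
    exact two_rank_one hQQ hQtr _ _ (hcomm M hM) (hcomm N hN)

/-- the diagonal blocks of `F` in the third case -/
theorem Coords.cc_F [MulAction.IsPretransitive G α]
    (htr : (C.hat (MChar.prim p) C.F).trace = C.th C.F) :
    C.th C.F = 2 * Nat.card G ∧ ∀ j, j ≠ 0 → C.cc C.F j = 0 := by
  have h1 : C.cc C.F = fun j => if j = 0 then C.th C.F else 0 := by
    apply eq_of_ev
    · rw [ev_single, ev_triv, C.sum_cc C.F_inv]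
      have : C.ka C.F = 0 := C.F_rowsum _
      rw [this, zero_add]
    · rw [ev_single, ← C.trace_hat, htr]
  constructor
  · have h2 := congrFun h1 0
    rw [if_pos rfl] at h2
    rw [← h2]
    unfold Coords.cc
    rw [C.F_diag, C.F_diag]
    ring
  · intro j hj
    rw [h1]
    exact if_neg hj

end

end Cfsg.Agent.H12.TwoP
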