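import Cfsg.Agent.H12.TwoPC

set_option autoImplicit false
set_option linter.unusedSectionVars false

/-! Wielandt's theorem on primitive groups of degree `2p` (S0720), part D: the first two cases of
the trichotomy. -/

namespace Cfsg.Agent.H12.TwoP

open Matrix MulAction Pointwise

section

variable {α : Type*} [Fintype α] [DecidableEq α] {p : ℕ} [hp : Fact p.Prime]
variable {G : Subgroup (Equiv.Perm α)} (C : Coords G p) [Fintype G]

theorem Coords.not_case_zero [IsPreprimitive G α] : C.hat (MChar.prim p) C.F ≠ 0 := by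
  intro h0
  have h1 : ∀ j, C.F (C.e (0, 0)) (C.e (0, j)) = Nat.card G := by
    intro j
    have h2 := congrFun (congrFun h0 0) 0
    have h3 := const_of_ev_prim (fun j => C.F (C.e (0, 0)) (C.e (0, j))) h2 j
    have h4 : C.F (C.e (0, 0)) (C.e (0, j)) = C.F (C.e (0, 0)) (C.e (0, 0)) := h3
    rw [h4, C.F_diag]
  have hF : ∀ s t, C.F (C.e (0, s)) (C.e (0, t)) = Nat.card G := by
    intro s t
    rw [C.inv_sub C.F_inv, h1]
  have hu : ∀ (g : G) (s t : ZMod p),
      C.u ((g : Equiv.Perm α) (C.e (0, s))) = C.u ((g : Equiv.Perm α) (C.e (0, t))) := by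
    intro g s t
    have h2 := hF s t
    rw [C.F_apply] at h2
    have h3 : ∑ k : G, (1 - C.u ((k : Equiv.Perm α) (C.e (0, s))) *
        C.u ((k : Equiv.Perm α) (C.e (0, t)))) = 0 := by
      rw [Finset.sum_sub_distrib, h2, Finset.sum_const, Finset.card_univ]
      simp
    have h4 : ∀ a b, 0 ≤ 1 - C.u a * C.u b := by
      intro a b
      unfold Coords.u
      split_ifs <;> norm_num
    have h5 := (Finset.sum_eq_zero_iff_of_nonneg fun k _ => h4 _ _).1 h3 g (Finset.mem_univ _)
    have h6 := C.u_sq ((g : Equiv.Perm α) (C.e (0, t)))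
    have h7 : C.u ((g : Equiv.Perm α) (C.e (0, s))) * C.u ((g : Equiv.Perm α) (C.e (0, t))) = 1 := by
      linarith
    calc C.u ((g : Equiv.Perm α) (C.e (0, s))) = C.u ((g : Equiv.Perm α) (C.e (0, s))) *
          (C.u ((g : Equiv.Perm α) (C.e (0, t))) * C.u ((g : Equiv.Perm α) (C.e (0, t)))) := by
            rw [h6, mul_one]
      _ = _ := by rw [← mul_assoc, h7, one_mul]
  let B : Set α := {a | C.u a = 1}
  have hB : ∀ a ∈ B, ∃ j, a = C.e (0, j) := by
    intro a ha
    obtain ⟨⟨i, j⟩, rfl⟩ := C.e.surjective a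
    fin_cases i
    · exact ⟨j, rfl⟩
    · exfalso
      have h2 : C.u (C.e (1, j)) = 1 := ha
      rw [C.u_one] at h2
      norm_num at h2
  have hblock : IsBlock G B := by
    rw [isBlock_iff_smul_eq_or_disjoint]
    intro g
    by_cases hd : Disjoint (g • B) B
    · exact Or.inr hd
    · left
      rw [Set.not_disjoint_iff] at hd
      obtain ⟨b, ⟨a, ha, rfl⟩, hb⟩ := hd
      obtain ⟨s, rfl⟩ := hB a ha
      have hsub : g • B ⊆ B := by
        rintro _ ⟨a', ha', rfl⟩
        obtain ⟨t, rfl⟩ := hB a' ha'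
        change C.u ((g : Equiv.Perm α) (C.e (0, t))) = 1
        rw [hu g t s]
        exact hb
      apply Set.eq_of_subset_of_ncard_le hsub
      rw [Set.ncard_smul_set]
  rcases IsPreprimitive.isTrivialBlock_of_isBlock hblock with h | h
  · have h2 := h (C.u_zero 0) (C.u_zero 1)
    have h3 := congrArg Prod.snd (C.e.injective h2)
    exact zero_ne_one h3
  · have h2 : C.e (1, 0) ∈ B := by rw [h]; trivial
    have h3 : C.u (C.e (1, 0)) = 1 := h2
    rw [C.u_one] at h3
    norm_num at h3

theorem Coords.two_transitive_of_case_one [IsPretransitive G α]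
    (h1 : C.hat (MChar.prim p) C.F = (C.th C.F : ℂ) • (1 : Matrix (Fin 2) (Fin 2) ℂ)) :
    IsMultiplyPretransitive G α 2 := by
  have hp0 : 0 < (p : ℤ) := by exact_mod_cast hp.out.pos
  have hth := C.F_sq_pos
  -- the two blocks in the first row
  have hb1 : ∀ j, C.F (C.e (0, 0)) (C.e (1, j)) = C.F (C.e (0, 0)) (C.e (1, 0)) := by
    have h2 := congrFun (congrFun h1 0) 1
    rw [Matrix.smul_apply, Matrix.one_apply_ne (by decide), smul_zero] at h2
    intro j
    exact const_of_ev_prim (fun j => C.F (C.e (0, 0)) (C.e (1, j))) h2 j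
  have hb0 : ∃ c : ℤ, ∀ j, C.F (C.e (0, 0)) (C.e (0, j)) = c + if j = 0 then C.th C.F else 0 := by
    have h2 := congrFun (congrFun h1 0) 0
    rw [Matrix.smul_apply, Matrix.one_apply_eq, smul_eq_mul, mul_one] at h2
    have h3 : ev (MChar.prim p) (fun j => C.F (C.e (0, 0)) (C.e (0, j)) -
        (if j = 0 then C.th C.F else 0)) = 0 := by
      rw [ev_sub, ev_single, sub_eq_zero]
      exact h2
    refine ⟨C.F (C.e (0, 0)) (C.e (0, 0)) - (if (0 : ZMod p) = 0 then C.th C.F else 0),
      fun j => ?_⟩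
    have h4 : C.F (C.e (0, 0)) (C.e (0, j)) - (if j = 0 then C.th C.F else 0) =
        C.F (C.e (0, 0)) (C.e (0, 0)) - (if (0 : ZMod p) = 0 then C.th C.F else 0) :=
      const_of_ev_prim _ h3 j
    rw [if_pos rfl] at h4 ⊢
    linarith
  obtain ⟨c, hc⟩ := hb0
  have hrow := C.F_rowsum (C.e (0, 0))
  rw [C.sum_eq] at hrow
  have hthF := C.th_eq C.F
  simp only [hb1, hc, Finset.sum_const, Finset.card_univ, ZMod.card, Finset.sum_add_distrib,
    nsmul_eq_mul] at hrow hthF
  rw [Finset.sum_ite_eq' Finset.univ (0 : ZMod p), if_pos (Finset.mem_univ _)] at hrow hthF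
  have hd : C.F (C.e (0, 0)) (C.e (1, 0)) = c := by
    have h2 : (p : ℤ) * (C.F (C.e (0, 0)) (C.e (1, 0)) - c) = 0 := by linarith
    have := (mul_eq_zero.1 h2).resolve_left hp0.ne'
    linarith
  have hcneg : c < 0 := by
    by_contra hcn
    push Not at hcn
    nlinarith
  have hoff0 : ∀ b, b ≠ C.e (0, 0) → C.F (C.e (0, 0)) b = c := by
    intro b hb
    obtain ⟨⟨i, j⟩, rfl⟩ := C.e.surjective b
    fin_cases i
    · change C.F (C.e (0, 0)) (C.e (0, j)) = c
      rw [hc, if_neg, add_zero]
      rintro rfl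
      exact hb rfl
    · change C.F (C.e (0, 0)) (C.e (1, j)) = c
      rw [hb1, hd]
  have hoff : ∀ a b, a ≠ b → C.F a b = c := by
    intro a b hab
    obtain ⟨g, hg⟩ := MulAction.exists_smul_eq G a (C.e (0, 0))
    change (g : Equiv.Perm α) a = C.e (0, 0) at hg
    rw [← C.F_inv g g.2, hg]
    apply hoff0
    rw [← hg]
    exact fun h => hab ((g : Equiv.Perm α).injective h).symm
  rw [is_two_pretransitive_iff]
  intro a b a' b' hab hab'
  have hM := orb_inv (G := G) a b
  have hval : ∀ x y, x ≠ y → (C.F a a - c) * orb G a b x y + c * ∑ z, orb G a b a z =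
      C.th (orb G a b) * c := by
    intro x y hxy
    have h2 := congrFun (congrFun (C.mul_F hM) x) y
    rw [Matrix.smul_apply, smul_eq_mul, hoff x y hxy, mul_apply] at h2
    rw [← h2]
    have h3 : ∀ z, orb G a b x z * C.F z y = orb G a b x z * c +
        (if z = y then orb G a b x y * (C.F a a - c) else 0) := by
      intro z
      by_cases hz : z = y
      · subst hz
        rw [if_pos rfl, C.F_inv.diag z a]; ring
      · rw [if_neg hz, hoff z y hz, add_zero]
    rw [Finset.sum_congr rfl fun z _ => h3 z, Finset.sum_add_distrib, ← Finset.sum_mul,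
      Finset.sum_ite_eq' Finset.univ y, if_pos (Finset.mem_univ _), hM.rowsum x a]
    ring
  have h2 := hval a b hab
  have h3 := hval a' b' hab'
  have h4 : orb G a b a' b' = orb G a b a b := by
    have h5 : (C.F a a - c) * (orb G a b a' b' - orb G a b a b) = 0 := by linarith
    have h6 : C.F a a - c ≠ 0 := by
      have := C.F_diag_pos a
      intro h
      linarith
    have := (mul_eq_zero.1 h5).resolve_left h6
    linarith
  classical
  rw [orb_apply, orb_apply, if_pos (Rel.refl a b)] at h4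
  by_cases h5 : Rel G a b a' b'
  · obtain ⟨g, hg, h6, h7⟩ := h5
    exact ⟨⟨g, hg⟩, h6, h7⟩
  · rw [if_neg h5] at h4
    norm_num at h4

end

end Cfsg.Agent.H12.TwoP
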