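import Cfsg.Agent.H12.RankThree

set_option autoImplicit false
set_option linter.unusedSectionVars false

/-! Primitive rank 3 groups of Wielandt type (S0719). -/

namespace Cfsg.Agent.H12

open scoped ComplexConjugate
open Cfsg Cfsg.Agent.CharBase Representation MulAction

universe u v w

section

variable {G : Type u} [Group G] [Fintype G] {Ω : Type v} [Fintype Ω] [MulAction G Ω]

/-- In a primitive group that is not regular on the non-fixed points, nontrivial suborbits have
length at least two. -/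
theorem suborbit_ne_one [IsPreprimitive G Ω] {a b : Ω} (hab : b ≠ a)
    (h : Nat.card (orbit (stabilizer G a) b) = 1) (x : Ω) (g : stabilizer G a) : g • x = x := by
  have : Nontrivial Ω := ⟨⟨b, a, hab⟩⟩
  have hmax := IsPreprimitive.isCoatom_stabilizer_of_isPreprimitive G a
  have hle : stabilizer G a ≤ stabilizer G b := by
    intro g hg
    rw [mem_stabilizer_iff]
    rw [Nat.card_eq_one_iff_unique] at h
    obtain ⟨h1, -⟩ := h
    have := congrArg Subtype.val (h1.elim ⟨(⟨g, hg⟩ : stabilizer G a) • b, ⟨⟨g, hg⟩, rfl⟩⟩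
      ⟨b, ⟨1, one_smul _ _⟩⟩)
    exact this
  have hne : stabilizer G b ≠ ⊤ := by
    intro h1
    obtain ⟨g, hg⟩ := exists_smul_eq G b a
    have : g ∈ stabilizer G b := by rw [h1]; trivial
    rw [mem_stabilizer_iff] at this
    exact hab (this.symm.trans hg)
  have heq : stabilizer G b = stabilizer G a := by
    by_contra h2
    exact hne (hmax.2 _ (lt_of_le_of_ne hle (fun h => h2 h.symm)))
  obtain ⟨t, ht⟩ := exists_smul_eq G a b
  have hnorm : stabilizer G a < Subgroup.normalizer (stabilizer G a : Set G) := by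
    refine lt_of_le_of_ne Subgroup.le_normalizer ?_
    intro h3
    have h4 : t ∈ Subgroup.normalizer (stabilizer G a : Set G) := by
      rw [Subgroup.mem_normalizer_iff]
      intro g
      conv_rhs => rw [← heq]
      rw [mem_stabilizer_iff, mem_stabilizer_iff, ← ht, mul_smul, mul_smul, inv_smul_smul,
        smul_left_cancel_iff]
    rw [← h3, mem_stabilizer_iff, ht] at h4
    exact hab h4
  have htop := hmax.2 _ hnorm
  obtain ⟨s, hs⟩ := exists_smul_eq G a x
  have h5 : s ∈ Subgroup.normalizer (stabilizer G a : Set G) := by rw [htop]; trivial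
  rw [Subgroup.mem_normalizer_iff''] at h5
  have h6 := (h5 (g : G)).1 g.2
  change s⁻¹ * (g : G) * s ∈ stabilizer G a at h6
  rw [mem_stabilizer_iff, mul_smul, mul_smul, inv_smul_eq_iff, hs] at h6
  exact h6


/-- the conjugate of an irreducible character -/
noncomputable def irrConj (χ : IrrCharacter G) : IrrCharacter G :=
  ⟨fun g => conj ((χ : G → ℂ) g), isIrrCharacter_conj χ.2⟩

theorem classInner_permChar_conj (χ : IrrCharacter G) :
    classInner (permChar G Ω) (irrConj χ : G → ℂ) =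
      conj (classInner (permChar G Ω) (χ : G → ℂ)) := by
  unfold classInner
  rw [map_mul, map_inv₀, Complex.conj_natCast, map_sum]
  congr 1
  refine Finset.sum_congr rfl fun g _ => ?_
  rw [map_mul, conj_permChar]
  rfl

/-- the three constituents of a permutation character `1 + χ₁ + χ₂` with `χ₁`, `χ₂` of
different degrees: they are distinct, real, and of multiplicity one. -/
theorem three_constituents [IsPretransitive G Ω] [Nonempty Ω] (χ₁ χ₂ : IrrCharacter G)
    (hπ : permChar G Ω = fun g => 1 + (χ₁ : G → ℂ) g + (χ₂ : G → ℂ) g)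
    (hd : (χ₁ : G → ℂ) 1 ≠ (χ₂ : G → ℂ) 1) :
    Function.Injective (![oneIrr G, χ₁, χ₂] : Fin 3 → IrrCharacter G) ∧
    (∀ i g, conj (((![oneIrr G, χ₁, χ₂] : Fin 3 → IrrCharacter G) i : G → ℂ) g) =
      ((![oneIrr G, χ₁, χ₂] : Fin 3 → IrrCharacter G) i : G → ℂ) g) ∧
    (∀ i, classInner (permChar G Ω)
      ((![oneIrr G, χ₁, χ₂] : Fin 3 → IrrCharacter G) i : G → ℂ) = 1) := by
  classical
  have hπ' : permChar G Ω = (oneIrr G : G → ℂ) + (χ₁ : G → ℂ) + (χ₂ : G → ℂ) := by
    rw [hπ]; rfl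
  have h12 : χ₁ ≠ χ₂ := by
    rintro rfl
    exact hd rfl
  have hexp : ∀ ψ : IrrCharacter G, classInner (permChar G Ω) (ψ : G → ℂ) =
      (if oneIrr G = ψ then 1 else 0) + (if χ₁ = ψ then 1 else 0) + (if χ₂ = ψ then 1 else 0) := by
    intro ψ
    rw [hπ', classInner_add_left, classInner_add_left, classInner_irr, classInner_irr,
      classInner_irr]
  have h1 := hexp (oneIrr G)
  have h1' : classInner (permChar G Ω) (oneIrr G : G → ℂ) = 1 := classInner_permChar_one
  rw [h1', if_pos rfl] at h1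
  have hχ1 : χ₁ ≠ oneIrr G := by
    intro h
    rw [if_pos h] at h1
    by_cases h2 : χ₂ = oneIrr G
    · exact h12 (h.trans h2.symm)
    · rw [if_neg h2] at h1
      norm_num at h1
  have hχ2 : χ₂ ≠ oneIrr G := by
    intro h
    rw [if_pos h, if_neg hχ1] at h1
    norm_num at h1
  have hreal : ∀ χ : IrrCharacter G, χ = χ₁ ∨ χ = χ₂ → irrConj χ = χ := by
    intro χ hχ
    have h3 := classInner_permChar_conj (Ω := Ω) χ
    have h4 : classInner (permChar G Ω) (χ : G → ℂ) = 1 := by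
      rw [hexp]
      rcases hχ with rfl | rfl
      · rw [if_neg hχ1.symm, if_pos rfl, if_neg h12.symm]; norm_num
      · rw [if_neg hχ2.symm, if_neg h12, if_pos rfl]; norm_num
    rw [h4, map_one, hexp] at h3
    have hdeg : ((irrConj χ : IrrCharacter G) : G → ℂ) 1 = (χ : G → ℂ) 1 := by
      obtain ⟨n, hn⟩ : ∃ n : ℕ, (χ : G → ℂ) 1 = n := by
        obtain ⟨n, ρ, -, h⟩ := χ.2
        exact ⟨n, by rw [← h]; simp⟩
      change conj ((χ : G → ℂ) 1) = _
      rw [hn, Complex.conj_natCast]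
    by_cases h5 : oneIrr G = irrConj χ
    · exfalso
      have : χ = oneIrr G := by
        apply Subtype.ext
        funext g
        have h6 := congrFun (congrArg Subtype.val h5) g
        change (1 : ℂ) = conj ((χ : G → ℂ) g) at h6
        have h7 := congrArg conj h6
        rw [map_one, Complex.conj_conj] at h7
        exact h7.symm
      rcases hχ with rfl | rfl
      · exact hχ1 this
      · exact hχ2 this
    · rw [if_neg h5] at h3
      by_cases h6 : χ₁ = irrConj χ
      · rcases hχ with rfl | rfl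
        · exact h6.symm
        · exfalso
          apply hd
          rw [h6, hdeg]
      · rw [if_neg h6] at h3
        by_cases h7 : χ₂ = irrConj χ
        · rcases hχ with rfl | rfl
          · exfalso
            apply hd
            rw [h7, hdeg]
          · exact h7.symm
        · rw [if_neg h7] at h3
          norm_num at h3
  refine ⟨?_, ?_, ?_⟩
  · intro i j hij
    fin_cases i <;> fin_cases j
    · rfl
    · exact absurd hij hχ1.symm
    · exact absurd hij hχ2.symm
    · exact absurd hij hχ1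
    · rfl
    · exact absurd hij h12
    · exact absurd hij hχ2
    · exact absurd hij h12.symm
    · rfl
  · intro i g
    fin_cases i
    · exact map_one _
    · exact congrFun (congrArg Subtype.val (hreal χ₁ (Or.inl rfl))) g
    · exact congrFun (congrArg Subtype.val (hreal χ₂ (Or.inr rfl))) g
  · intro i
    fin_cases i
    · exact h1'
    · change classInner (permChar G Ω) (χ₁ : G → ℂ) = 1
      rw [hexp, if_neg hχ1.symm, if_pos rfl, if_neg h12.symm]; norm_num
    · change classInner (permChar G Ω) (χ₂ : G → ℂ) = 1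
      rw [hexp, if_neg hχ2.symm, if_neg h12, if_pos rfl]; norm_num


/-- the matrix entries of an equivariant operator composed with itself -/
theorem comp_single [DecidableEq Ω] (A B : Module.End ℂ (Ω → ℂ)) (x y : Ω) :
    (A * B) (Pi.single x 1) y = ∑ z, B (Pi.single x 1) z * A (Pi.single z 1) y := by
  have h1 : B (Pi.single x 1) = ∑ z, B (Pi.single x 1) z • (Pi.single z (1 : ℂ) : Ω → ℂ) := by
    funext w
    simp [Finset.sum_apply, Pi.single_apply]
  change A (B (Pi.single x 1)) y = _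
  conv_lhs => rw [h1]
  rw [map_sum, Finset.sum_apply]
  refine Finset.sum_congr rfl fun z _ => ?_
  rw [map_smul]
  rfl

open Classical in
theorem sq_orbOp_single (q : orbitRel.Quotient G (Ω × Ω)) (x y : Ω) :
    ∃ n : ℕ, (orbOp ℂ q * orbOp ℂ q) (Pi.single x 1) y = n := by
  refine ⟨∑ z, if (Quotient.mk _ (x, z) : orbitRel.Quotient G (Ω × Ω)) = q ∧
    (Quotient.mk _ (z, y) : orbitRel.Quotient G (Ω × Ω)) = q then 1 else 0, ?_⟩
  rw [comp_single]
  push_cast
  refine Finset.sum_congr rfl fun z _ => ?_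
  rw [orbOp_single, orbOp_single]
  by_cases h1 : (Quotient.mk _ (x, z) : orbitRel.Quotient G (Ω × Ω)) = q
  · by_cases h2 : (Quotient.mk _ (z, y) : orbitRel.Quotient G (Ω × Ω)) = q
    · simp [h1, h2]
    · simp [h1, h2]
  · simp [h1]

theorem trace_sq_orbOp [IsPretransitive G Ω] (hgen : ∀ a b : Ω, ∃ g : G, g • a = b ∧ g • b = a)
    (a b : Ω) :
    LinearMap.trace ℂ (Ω → ℂ) (orbOp ℂ (Quotient.mk _ (b, a) : orbitRel.Quotient G (Ω × Ω)) *
      orbOp ℂ (Quotient.mk _ (b, a) : orbitRel.Quotient G (Ω × Ω))) =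
      (Fintype.card Ω : ℂ) * (Nat.card (orbit (stabilizer G a) b) : ℂ) := by
  classical
  obtain ⟨q, hq⟩ : ∃ q : orbitRel.Quotient G (Ω × Ω), q = Quotient.mk _ (b, a) := ⟨_, rfl⟩
  have h1 := orbOp_one (K := ℂ) (G := G) a b
  rw [← hq] at h1 ⊢
  have hsw : ∀ x z : Ω, (Quotient.mk _ (z, x) : orbitRel.Quotient G (Ω × Ω)) =
      Quotient.mk _ (x, z) := by
    intro x z
    obtain ⟨g, hg1, hg2⟩ := hgen x z
    refine Quotient.sound ⟨g, ?_⟩
    change (g • x, g • z) = (z, x)
    rw [hg1, hg2]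
  rw [trace_eq_sum_single]
  have h2 : ∀ x, (orbOp ℂ q * orbOp ℂ q) (Pi.single x 1) x =
      ∑ z, orbOp ℂ q (Pi.single x 1) z := by
    intro x
    rw [comp_single]
    refine Finset.sum_congr rfl fun z _ => ?_
    have e1 := orbOp_single (K := ℂ) q x z
    have e2 := orbOp_single (K := ℂ) q z x
    rw [hsw x z] at e2
    have e3 : orbOp ℂ q (Pi.single z 1) x = orbOp ℂ q (Pi.single x 1) z := by
      rw [e1, e2]
    have e4 : orbOp ℂ q (Pi.single x 1) z * orbOp ℂ q (Pi.single x 1) z =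
        orbOp ℂ q (Pi.single x 1) z := by
      rw [e1]
      split_ifs <;> simp
    rw [e3, e4]
  rw [Finset.sum_congr rfl fun x _ => h2 x, Finset.sum_comm]
  have h3 : ∀ z, ∑ x, orbOp ℂ q (Pi.single x 1) z = (Nat.card (orbit (stabilizer G a) b) : ℂ) := by
    intro z
    rw [← Finset.sum_apply, ← map_sum]
    have h4 : (∑ x, Pi.single x 1 : Ω → ℂ) = fun _ => 1 := by
      funext z
      simp [Finset.sum_apply, Pi.single_apply]
    rw [h4, h1]
  rw [Finset.sum_congr rfl fun z _ => h3 z, Finset.sum_const, Finset.card_univ, nsmul_eq_mul]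


theorem mk_eq_of_swap (hgen : ∀ a b : Ω, ∃ g : G, g • a = b ∧ g • b = a) (x z : Ω) :
    (Quotient.mk _ (z, x) : orbitRel.Quotient G (Ω × Ω)) = Quotient.mk _ (x, z) := by
  obtain ⟨g, hg1, hg2⟩ := hgen x z
  refine Quotient.sound ⟨g, ?_⟩
  change (g • x, g • z) = (z, x)
  rw [hg1, hg2]

/-- the quadratic equation satisfied by a subdegree -/
theorem subdegree_equation [IsPretransitive G Ω] {m : ℕ} (hm : Fintype.card Ω = 2 * m)
    (χ₁ χ₂ : IrrCharacter G)
    (hπ : permChar G Ω = fun g => 1 + (χ₁ : G → ℂ) g + (χ₂ : G → ℂ) g)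
    (hd₁ : (χ₁ : G → ℂ) 1 = (m : ℂ) - 1) (hd₂ : (χ₂ : G → ℂ) 1 = m)
    {a b c : Ω} (hba : b ≠ a) (hca : c ≠ a) (hcb : c ∉ orbit (stabilizer G a) b)
    (hrank : Nat.card (orbitRel.Quotient (stabilizer G a) Ω) = 3) :
    ∃ s : ℤ, 2 * (Nat.card (orbit (stabilizer G a) b) : ℤ) ^ 2 -
      2 * (Nat.card (orbit (stabilizer G a) b) : ℤ) +
      4 * (Nat.card (orbit (stabilizer G a) b) : ℤ) * (m - 1) * s +
      s ^ 2 * (m - 1) * (2 * m - 1) = 0 := by
  classical
  have : Nonempty Ω := ⟨a⟩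
  have hd : (χ₁ : G → ℂ) 1 ≠ (χ₂ : G → ℂ) 1 := by
    rw [hd₁, hd₂]
    intro h
    have : (1 : ℂ) = 0 := by linear_combination -h
    exact one_ne_zero this
  obtain ⟨hinj, hreal, hmult⟩ := three_constituents χ₁ χ₂ hπ hd
  have hcard : Fintype.card (Fin 3) = Nat.card (orbitRel.Quotient G (Ω × Ω)) := by
    rw [card_orbits_prod_eq a, hrank, Fintype.card_fin]
  have hspan := centralizer_span _ hinj hreal hmult hcard
  have hsum := sum_isoProj _ hinj hreal hmult hcard
  have hgen : ∀ a b : Ω, ∃ g : G, g • a = b ∧ g • b = a := by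
    apply generous_backward
    intro χ hχ h0
    have h1 : (⟨χ, hχ⟩ : IrrCharacter G) = oneIrr G ∨ (⟨χ, hχ⟩ : IrrCharacter G) = χ₁ ∨
        (⟨χ, hχ⟩ : IrrCharacter G) = χ₂ := by
      by_contra hne
      push Not at hne
      apply h0
      have hπ' : permChar G Ω = (oneIrr G : G → ℂ) + (χ₁ : G → ℂ) + (χ₂ : G → ℂ) := by
        rw [hπ]; rfl
      change classInner (permChar G Ω) ((⟨χ, hχ⟩ : IrrCharacter G) : G → ℂ) = 0
      rw [hπ', classInner_add_left, classInner_add_left, classInner_irr_of_ne hne.1.symm,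
        classInner_irr_of_ne hne.2.1.symm, classInner_irr_of_ne hne.2.2.symm]
      norm_num
    have h2 : ∃ i : Fin 3, (⟨χ, hχ⟩ : IrrCharacter G) =
        (![oneIrr G, χ₁, χ₂] : Fin 3 → IrrCharacter G) i := by
      rcases h1 with h | h | h
      · exact ⟨0, h⟩
      · exact ⟨1, h⟩
      · exact ⟨2, h⟩
    obtain ⟨i, hi⟩ := h2
    have h3 : χ = ((![oneIrr G, χ₁, χ₂] : Fin 3 → IrrCharacter G) i : G → ℂ) :=
      congrArg Subtype.val hi
    rw [h3]
    exact ⟨hmult i, hreal i⟩
  obtain ⟨q, hq⟩ : ∃ q : orbitRel.Quotient G (Ω × Ω), q = Quotient.mk _ (b, a) := ⟨_, rfl⟩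
  obtain ⟨k, hk⟩ : ∃ k : ℕ, k = Nat.card (orbit (stabilizer G a) b) := ⟨_, rfl⟩
  have htr0 := trace_orbOp (G := G) hba
  have htr2 := trace_sq_orbOp hgen a b
  have hone := orbOp_one (K := ℂ) (G := G) a b
  rw [← hq] at htr0 htr2 hone
  rw [← hk] at htr2 hone ⊢
  have hmem : orbOp ℂ q ∈ ((permRep ℂ G Ω).linHom (permRep ℂ G Ω)).invariants :=
    (mem_linHom_invariants _).2 (orbOp_comm q)
  rw [hspan, Submodule.mem_span_range_iff_exists_fun] at hmem
  obtain ⟨c', hc'⟩ := hmem
  have hm0 := isoProj_mul (Ω := Ω) (oneIrr G) (oneIrr G)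
  rw [if_pos rfl] at hm0
  have h01 : oneIrr G ≠ χ₁ := fun h => absurd (hinj (a₁ := 0) (a₂ := 1) h) (by decide)
  have h02 : oneIrr G ≠ χ₂ := fun h => absurd (hinj (a₁ := 0) (a₂ := 2) h) (by decide)
  have h12 : χ₁ ≠ χ₂ := fun h => absurd (hinj (a₁ := 1) (a₂ := 2) h) (by decide)
  obtain ⟨P0, hP0⟩ : ∃ P, P = isoProj Ω (oneIrr G) := ⟨_, rfl⟩
  obtain ⟨P1, hP1⟩ : ∃ P, P = isoProj Ω χ₁ := ⟨_, rfl⟩
  obtain ⟨P2, hP2⟩ : ∃ P, P = isoProj Ω χ₂ := ⟨_, rfl⟩
  obtain ⟨k0, hk0⟩ : ∃ k0, k0 = c' 0 := ⟨_, rfl⟩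
  obtain ⟨β, hβ⟩ : ∃ β, β = c' 1 := ⟨_, rfl⟩
  obtain ⟨γ, hγ⟩ : ∃ γ, γ = c' 2 := ⟨_, rfl⟩
  have hT : orbOp ℂ q = k0 • P0 + β • P1 + γ • P2 := by
    rw [← hc', Fin.sum_univ_three, hP0, hP1, hP2, hk0, hβ, hγ]
    rfl
  have hI : P0 + P1 + P2 = 1 := by
    rw [← hsum, Fin.sum_univ_three, hP0, hP1, hP2]
    rfl
  have e00 : P0 * P0 = P0 := by rw [hP0, isoProj_mul, if_pos rfl]
  have e01 : P0 * P1 = 0 := by rw [hP0, hP1, isoProj_mul, if_neg h01]
  have e02 : P0 * P2 = 0 := by rw [hP0, hP2, isoProj_mul, if_neg h02]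
  have e10 : P1 * P0 = 0 := by rw [hP0, hP1, isoProj_mul, if_neg h01.symm]
  have e11 : P1 * P1 = P1 := by rw [hP1, isoProj_mul, if_pos rfl]
  have e12 : P1 * P2 = 0 := by rw [hP1, hP2, isoProj_mul, if_neg h12]
  have e20 : P2 * P0 = 0 := by rw [hP0, hP2, isoProj_mul, if_neg h02.symm]
  have e21 : P2 * P1 = 0 := by rw [hP1, hP2, isoProj_mul, if_neg h12.symm]
  have e22 : P2 * P2 = P2 := by rw [hP2, isoProj_mul, if_pos rfl]
  have t0 : LinearMap.trace ℂ (Ω → ℂ) P0 = 1 := by
    rw [hP0]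
    exact trace_isoProj (oneIrr G) (hreal 0) (hmult 0)
  have t1 : LinearMap.trace ℂ (Ω → ℂ) P1 = (m : ℂ) - 1 := by
    rw [hP1, ← hd₁]
    exact trace_isoProj χ₁ (hreal 1) (hmult 1)
  have t2 : LinearMap.trace ℂ (Ω → ℂ) P2 = m := by
    rw [hP2, ← hd₂]
    exact trace_isoProj χ₂ (hreal 2) (hmult 2)
  have hTT : orbOp ℂ q * orbOp ℂ q = (k0 ^ 2) • P0 + (β ^ 2) • P1 + (γ ^ 2) • P2 := by
    rw [hT]
    simp only [mul_add, add_mul, smul_mul_smul_comm, e00, e01, e02, e10, e11, e12, e20, e21, e22,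
      smul_zero, add_zero, zero_add, pow_two]
  -- k0 = k
  have hk0k : k0 = k := by
    have h1 : orbOp ℂ q * P0 = k0 • P0 := by
      rw [hT]
      simp only [add_mul, smul_mul_assoc, e00, e10, e20, smul_zero, add_zero]
    have h2 := LinearMap.congr_fun h1 (fun _ => 1)
    have h3 : P0 (fun _ => 1) = fun _ => 1 := by
      rw [hP0]
      exact isoProj_one_apply (oneIrr G) rfl
    change orbOp ℂ q (P0 (fun _ => 1)) = k0 • P0 (fun _ => 1) at h2
    rw [h3, hone] at h2
    have h4 := congrFun h2 a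
    rw [Pi.smul_apply, smul_eq_mul, mul_one] at h4
    exact h4.symm
  have hq1 : (k : ℂ) + β * (m - 1) + γ * m = 0 := by
    rw [← htr0, hT, map_add, map_add, map_smul, map_smul, map_smul, t0, t1, t2, hk0k]
    simp only [smul_eq_mul, mul_one]
  have hq2 : (k : ℂ) ^ 2 + β ^ 2 * (m - 1) + γ ^ 2 * m = 2 * m * k := by
    have h1 : ((Fintype.card Ω : ℕ) : ℂ) = 2 * m := by rw [hm]; push_cast; ring
    rw [h1] at htr2
    rw [← htr2, hTT, map_add, map_add, map_smul, map_smul, map_smul, t0, t1, t2, hk0k]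
    simp only [smul_eq_mul, mul_one]
  -- integrality
  have hrel : orbOp ℂ q * orbOp ℂ q - (β + γ) • orbOp ℂ q + (β * γ) • 1 =
      ((k0 - β) * (k0 - γ)) • P0 := by
    rw [hTT, hT, ← hI]
    simp only [smul_add, smul_smul]
    module
  have hentry : ∀ x y : Ω, (orbOp ℂ q * orbOp ℂ q) (Pi.single x 1) y -
      (β + γ) * orbOp ℂ q (Pi.single x 1) y + (β * γ) * (Pi.single x 1 : Ω → ℂ) y =
      ((k0 - β) * (k0 - γ)) * P0 (Pi.single x 1) y := by
    intro x y
    have := congrFun (LinearMap.congr_fun hrel (Pi.single x 1)) y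
    exact this
  have hPc : P0 (Pi.single b 1) a = P0 (Pi.single c 1) a := by
    rw [hP0]
    exact isoProj_one_single (oneIrr G) rfl _ _ _ _
  have hb1 : orbOp ℂ q (Pi.single b 1) a = 1 := by
    rw [orbOp_single, if_pos hq.symm]
  have hc1 : orbOp ℂ q (Pi.single c 1) a = 0 := by
    rw [orbOp_single, if_neg]
    intro h
    rw [hq] at h
    obtain ⟨g, hg⟩ := Quotient.exact h
    change (g • b, g • a) = (c, a) at hg
    obtain ⟨h1, h2⟩ := Prod.mk.inj hg
    exact hcb ⟨⟨g, h2⟩, h1⟩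
  obtain ⟨n1, hn1⟩ := sq_orbOp_single q b a
  obtain ⟨n2, hn2⟩ := sq_orbOp_single q c a
  have hE1 := hentry b a
  have hE2 := hentry c a
  rw [hn1, hb1, Pi.single_eq_of_ne hba.symm] at hE1
  rw [hn2, hc1, Pi.single_eq_of_ne hca.symm, ← hPc] at hE2
  have hs : β + γ = ((n1 : ℤ) - (n2 : ℤ) : ℤ) := by
    push_cast
    linear_combination hE2 - hE1
  refine ⟨(n1 : ℤ) - n2, ?_⟩
  have hm0' : (m : ℂ) ≠ 0 := by
    intro h
    have h1 : m = 0 := by exact_mod_cast h
    rw [h1] at hm
    have : 0 < Fintype.card Ω := Fintype.card_pos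
    omega
  obtain ⟨s, hs'⟩ : ∃ s : ℤ, s = (n1 : ℤ) - n2 := ⟨_, rfl⟩
  rw [← hs'] at hs ⊢
  have hfin : (m : ℂ) * (2 * (k : ℂ) ^ 2 - 2 * k + 4 * k * (m - 1) * s +
      s ^ 2 * (m - 1) * (2 * m - 1)) = 0 := by
    have hβ' : β = k + m * s := by
      have : (k : ℂ) + m * (β + γ) - β = 0 := by linear_combination hq1
      rw [hs] at this
      linear_combination -this
    have hγ' : γ = s - (k + m * s) := by rw [← hβ', ← hs]; ring
    rw [hβ', hγ'] at hq2
    linear_combination hq2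
  have h2 := (mul_eq_zero.1 hfin).resolve_left hm0'
  exact_mod_cast h2


theorem wielandt_type [IsPreprimitive G Ω] {m : ℕ} (hm : Fintype.card Ω = 2 * m) (a₀ : Ω)
    (hrank : Nat.card (orbitRel.Quotient (stabilizer G a₀) Ω) = 3) (χ₁ χ₂ : G → ℂ)
    (h₁ : IsIrrCharacter G χ₁) (h₂ : IsIrrCharacter G χ₂)
    (hπ : permChar G Ω = fun g => 1 + χ₁ g + χ₂ g)
    (hd₁ : χ₁ 1 = (m : ℂ) - 1) (hd₂ : χ₂ 1 = m) :
    ∃ a : ℕ, 0 < a ∧ m = 2 * a ^ 2 + 2 * a + 1 ∧ ∀ b : Ω, b ≠ a₀ →
      Nat.card (orbit (stabilizer G a₀) b) = a * (2 * a + 1) ∨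
      Nat.card (orbit (stabilizer G a₀) b) = (a + 1) * (2 * a + 1) := by
  classical
  -- every suborbit different from the point has another one
  have hthird : ∀ b : Ω, ∃ c : Ω, c ≠ a₀ ∧ c ∉ orbit (stabilizer G a₀) b := by
    intro b
    by_contra hcon
    push Not at hcon
    have hsurj : Function.Surjective (fun i : Fin 2 =>
        (![Quotient.mk _ a₀, Quotient.mk _ b] : Fin 2 → orbitRel.Quotient (stabilizer G a₀) Ω) i) := by
      intro x
      induction x using Quotient.inductionOn with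
      | _ c =>
      by_cases hc : c = a₀
      · exact ⟨0, by rw [hc]; rfl⟩
      · refine ⟨1, ?_⟩
        obtain ⟨g, hg⟩ := hcon c hc
        exact (Quotient.sound ⟨g, hg⟩ : (Quotient.mk _ c : orbitRel.Quotient (stabilizer G a₀) Ω) =
          Quotient.mk _ b).symm
    have h2 := Nat.card_le_card_of_surjective _ hsurj
    rw [hrank] at h2
    simp at h2
  have hlen : ∀ b : Ω, b ≠ a₀ → 2 ≤ Nat.card (orbit (stabilizer G a₀) b) := by
    intro b hb
    have h1 : 0 < Nat.card (orbit (stabilizer G a₀) b) := by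
      have : Nonempty (orbit (stabilizer G a₀) b) := ⟨⟨b, mem_orbit_self b⟩⟩
      exact Nat.card_pos
    by_contra h2
    have h3 : Nat.card (orbit (stabilizer G a₀) b) = 1 := by omega
    have hfix := suborbit_ne_one hb h3
    have hbij : Nat.card (orbitRel.Quotient (stabilizer G a₀) Ω) = Nat.card Ω := by
      refine (Nat.card_congr (Equiv.ofBijective
        (fun x : Ω => (Quotient.mk _ x : orbitRel.Quotient (stabilizer G a₀) Ω)) ⟨?_, ?_⟩)).symm
      · intro x y hxy
        obtain ⟨g, hg⟩ := Quotient.exact hxy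
        change g • y = x at hg
        rw [hfix] at hg
        exact hg.symm
      · intro x
        obtain ⟨y, rfl⟩ := Quotient.exists_rep x
        exact ⟨y, rfl⟩
    rw [hrank, Nat.card_eq_fintype_card, hm] at hbij
    omega
  have hall : ∀ b : Ω, b ≠ a₀ → ∃ a : ℕ, 0 < a ∧ m = 2 * a ^ 2 + 2 * a + 1 ∧
      (Nat.card (orbit (stabilizer G a₀) b) = a * (2 * a + 1) ∨
      Nat.card (orbit (stabilizer G a₀) b) = (a + 1) * (2 * a + 1)) := by
    intro b hb
    obtain ⟨c, hca, hcb⟩ := hthird b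
    obtain ⟨s, hs⟩ := subdegree_equation hm ⟨χ₁, h₁⟩ ⟨χ₂, h₂⟩ hπ hd₁ hd₂ hb hca hcb hrank
    have hkb := hlen b hb
    have hkc := hlen c hca
    have hle : Nat.card (orbit (stabilizer G a₀) b) + Nat.card (orbit (stabilizer G a₀) c) + 1 ≤
        2 * m := by
      have h1 : Disjoint (orbit (stabilizer G a₀) b) (orbit (stabilizer G a₀) c) := by
        rw [Set.disjoint_left]
        rintro x ⟨g, rfl⟩ ⟨h, hh⟩
        apply hcb
        refine ⟨h⁻¹ * g, ?_⟩
        change h • c = g • b at hh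
        change (h⁻¹ * g) • b = c
        rw [mul_smul, ← hh, inv_smul_smul]
      have h2 : a₀ ∉ (orbit (stabilizer G a₀) b) ∪ (orbit (stabilizer G a₀) c) := by
        rintro (⟨g, hg⟩ | ⟨g, hg⟩)
        · change g • b = a₀ at hg
          apply hb
          have : g • a₀ = a₀ := g.2
          exact smul_left_cancel g (hg.trans this.symm)
        · change g • c = a₀ at hg
          apply hca
          have : g • a₀ = a₀ := g.2
          exact smul_left_cancel g (hg.trans this.symm)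
      have h3 : (insert a₀ ((orbit (stabilizer G a₀) b) ∪ (orbit (stabilizer G a₀) c))).ncard ≤
          2 * m := by
        rw [← hm, ← Nat.card_eq_fintype_card, ← Set.ncard_univ]
        exact Set.ncard_le_ncard (Set.subset_univ _) (Set.toFinite _)
      rw [Set.ncard_insert_of_notMem h2 (Set.toFinite _),
        Set.ncard_union_eq h1 (Set.toFinite _) (Set.toFinite _)] at h3
      exact h3
    exact rank3_numeric (by omega) hkb (by omega) hs
  obtain ⟨b₁, hb₁, -⟩ := hthird a₀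
  obtain ⟨a, ha, hma, -⟩ := hall b₁ hb₁
  refine ⟨a, ha, hma, fun b hb => ?_⟩
  obtain ⟨a', ha', hma', h⟩ := hall b hb
  have : a' = a := by
    rw [hma] at hma'
    rcases lt_trichotomy a' a with hlt | heq | hlt
    · nlinarith
    · exact heq
    · nlinarith
  rw [this] at h
  exact h

end

end Cfsg.Agent.H12
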