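import Cfsg.Agent.H12.TwoPD
import Cfsg.Agent.H12.WielandtType

set_option autoImplicit false
set_option linter.unusedSectionVars false

/-! Wielandt's theorem on primitive groups of degree `2p` (S0720), part E: combinatorics of the
orbitals in the third case. -/

namespace Cfsg.Agent.H12.TwoP

open Matrix MulAction

section

variable {α : Type*} [Fintype α] [DecidableEq α] {p : ℕ} [hp : Fact p.Prime]
variable {G : Subgroup (Equiv.Perm α)}

theorem orb_zero_or_one (a b c d : α) : orb G a b c d = 0 ∨ orb G a b c d = 1 := by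
  classical
  rw [orb_apply]
  split_ifs
  · exact Or.inr rfl
  · exact Or.inl rfl

theorem orb_eq_one_iff {a b c d : α} : orb G a b c d = 1 ↔ Rel G a b c d := by
  classical
  rw [orb_apply]
  split_ifs with h
  · simp [h]
  · simp [h]

theorem orb_eq_zero_iff {a b c d : α} : orb G a b c d = 0 ↔ ¬ Rel G a b c d := by
  classical
  rw [orb_apply]
  split_ifs with h
  · simp [h]
  · simp [h]

theorem orb_congr {a b c d : α} (h : Rel G a b c d) : orb G a b = orb G c d := by
  ext x y
  rcases orb_zero_or_one (G := G) c d x y with h1 | h1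
  · rw [h1, orb_eq_zero_iff]
    rw [orb_eq_zero_iff] at h1
    exact fun h2 => h1 (h.symm.trans h2)
  · rw [h1, orb_eq_one_iff]
    rw [orb_eq_one_iff] at h1
    exact h.trans h1

theorem orb_self (a b : α) : orb G a b a b = 1 := orb_eq_one_iff.2 (Rel.refl a b)

theorem orb_diag {a b : α} (hab : a ≠ b) (c : α) : orb G a b c c = 0 := by
  rw [orb_eq_zero_iff]
  rintro ⟨g, -, h1, h2⟩
  exact hab (g.injective (h1.trans h2.symm))

theorem orb_mul_self (a b c d : α) : orb G a b c d * orb G a b c d = orb G a b c d := by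
  rcases orb_zero_or_one (G := G) a b c d with h | h <;> rw [h] <;> norm_num

variable (C : Coords G p)

theorem Coords.cc_orb_zero {a b : α} (hab : a ≠ b) : C.cc (orb G a b) 0 = 0 := by
  unfold Coords.cc
  rw [orb_diag hab, orb_diag hab, add_zero]

theorem Coords.cc_nonneg (a b : α) (j : ZMod p) : 0 ≤ C.cc (orb G a b) j := by
  unfold Coords.cc
  rcases orb_zero_or_one (G := G) a b (C.e (0, 0)) (C.e (0, j)) with h | h <;>
  rcases orb_zero_or_one (G := G) a b (C.e (1, 0)) (C.e (1, j)) with h' | h' <;>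
  rw [h, h'] <;> norm_num

theorem Coords.cc_le_two (a b : α) (j : ZMod p) : C.cc (orb G a b) j ≤ 2 := by
  unfold Coords.cc
  rcases orb_zero_or_one (G := G) a b (C.e (0, 0)) (C.e (0, j)) with h | h <;>
  rcases orb_zero_or_one (G := G) a b (C.e (1, 0)) (C.e (1, j)) with h' | h' <;>
  rw [h, h'] <;> norm_num

theorem Coords.cc_transpose {M : Matrix α α ℤ} (hM : Inv G M) (j : ZMod p) :
    C.cc Mᵀ (-j) = C.cc M j := by
  unfold Coords.cc
  rw [transpose_apply, transpose_apply, C.inv_sub hM 0 0 (-j) 0, C.inv_sub hM 1 1 (-j) 0,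
    zero_sub, neg_neg]

theorem Coords.ka_eq [IsPretransitive G α] {M : Matrix α α ℤ} (hM : Inv G M) (a : α) :
    C.ka M = ∑ b, M a b := hM.rowsum _ _

theorem Coords.ka_pos [IsPretransitive G α] (a b : α) : 0 < C.ka (orb G a b) := by
  rw [C.ka_eq (orb_inv a b) a]
  refine Finset.sum_pos' (fun c _ => ?_) ⟨b, Finset.mem_univ _, by rw [orb_self]; norm_num⟩
  rcases orb_zero_or_one (G := G) a b a c with h | h <;> rw [h]
  norm_num

/-- the row sum is the subdegree -/
theorem Coords.ka_eq_card [IsPretransitive G α] (a b : α) :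
    C.ka (orb G a b) = Nat.card (orbit (stabilizer G a) b) := by
  classical
  rw [C.ka_eq (orb_inv a b) a]
  have h1 : (orbit (stabilizer G a) b) = (((Finset.univ : Finset α).filter fun c =>
      orb G a b a c = 1 : Finset α) : Set α) := by
    ext c
    rw [Finset.mem_coe, Finset.mem_filter, orb_eq_one_iff]
    constructor
    · rintro ⟨g, rfl⟩
      exact ⟨Finset.mem_univ _, ((g : G) : Equiv.Perm α), (g : G).2, g.2, rfl⟩
    · rintro ⟨-, g, hg, h1, h2⟩
      exact ⟨⟨⟨g, hg⟩, h1⟩, h2⟩
  rw [h1, Nat.card_coe_set_eq, Set.ncard_coe_finset, Finset.card_filter]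
  push_cast
  refine Finset.sum_congr rfl fun c _ => ?_
  rcases orb_zero_or_one (G := G) a b a c with h | h <;> rw [h] <;> simp

theorem Coords.ka_ne_one [IsPreprimitive G α] {a b : α} (hab : a ≠ b) :
    C.ka (orb G a b) ≠ 1 := by
  classical
  intro h
  have : Fintype G := Fintype.ofFinite _
  rw [C.ka_eq_card] at h
  have h1 : Nat.card (orbit (stabilizer G a) b) = 1 := by exact_mod_cast h
  have h2 := suborbit_ne_one (G := G) hab.symm h1
  have hbot : stabilizer G a = ⊥ := by
    rw [eq_bot_iff]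
    intro g hg
    rw [Subgroup.mem_bot]
    apply Subtype.ext
    apply Equiv.Perm.ext
    intro x
    exact h2 x ⟨g, hg⟩
  have : Nontrivial α := ⟨⟨a, b, hab⟩⟩
  have hmax := IsPreprimitive.isCoatom_stabilizer_of_isPreprimitive G a
  rw [hbot] at hmax
  have hx1 : (⟨C.x, C.hx⟩ : G) ≠ 1 := by
    intro h3
    have h4 : C.x = 1 := congrArg Subtype.val h3
    have h5 := C.hxe 0 0
    rw [h4] at h5
    have h6 := congrArg Prod.snd (C.e.injective h5)
    simp at h6
  have hlt : ⊥ < Subgroup.zpowers (⟨C.x, C.hx⟩ : G) := by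
    rw [bot_lt_iff_ne_bot, Ne, Subgroup.zpowers_eq_bot]
    exact hx1
  have htop := hmax.2 _ hlt
  -- but powers of `x` preserve the first coordinate
  obtain ⟨g, hg⟩ := exists_smul_eq G (C.e (0, 0)) (C.e (1, 0))
  have hgm : g ∈ Subgroup.zpowers (⟨C.x, C.hx⟩ : G) := by rw [htop]; trivial
  have hpres : ∀ y ∈ Subgroup.zpowers (⟨C.x, C.hx⟩ : G), ∀ a,
      C.u ((y : Equiv.Perm α) a) = C.u a := by
    let K : Subgroup G := {
      carrier := {y | ∀ a, C.u ((y : Equiv.Perm α) a) = C.u a}
      mul_mem' := by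
        intro y z hy hz a
        change C.u ((y : Equiv.Perm α) ((z : Equiv.Perm α) a)) = C.u a
        rw [hy, hz]
      one_mem' := fun a => rfl
      inv_mem' := by
        intro y hy a
        have h1 := hy ((y : Equiv.Perm α)⁻¹ a)
        have h2 : (y : Equiv.Perm α) ((y : Equiv.Perm α)⁻¹ a) = a :=
          (y : Equiv.Perm α).apply_symm_apply a
        rw [h2] at h1
        exact h1.symm }
    have hle : Subgroup.zpowers (⟨C.x, C.hx⟩ : G) ≤ K := by
      rw [Subgroup.zpowers_le]
      exact fun a => C.u_x a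
    exact fun y hy => hle hy
  have h7 := hpres g hgm (C.e (0, 0))
  change (g : Equiv.Perm α) (C.e (0, 0)) = C.e (1, 0) at hg
  rw [hg, C.u_zero, C.u_one] at h7
  norm_num at h7

variable [Fintype G]

theorem Coords.ka_mul_F [IsPretransitive G α] (a b : α) :
    C.ka (orb G a b) * C.F a b = C.th (orb G a b) * Nat.card G := by
  rw [← C.F_mul_card (orb_inv a b) a, C.ka_eq (orb_inv a b) a, Finset.sum_mul]
  refine Finset.sum_congr rfl fun c _ => ?_
  rcases orb_zero_or_one (G := G) a b a c with h | h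
  · rw [h, zero_mul, mul_zero]
  · rw [h, one_mul, mul_one]
    exact (C.F_inv.rel (orb_eq_one_iff.1 h)).symm

variable [IsPreprimitive G α] (htr : (C.hat (MChar.prim p) C.F).trace = C.th C.F)

include htr

theorem Coords.sum_sq {M : Matrix α α ℤ} (hM : Inv G M) (h01 : ∀ c d, M c d * M c d = M c d)
    (hd : ∀ c, M c c = 0) :
    2 * C.ka M = ∑ j, C.cc M j ^ 2 + 2 * C.th M ^ 2 := by
  have h1 := congrFun (C.phi_mul htr hM hM.transpose) 0
  have h2 : conv (C.phi M) (C.phi Mᵀ) 0 = ∑ s, C.phi M s ^ 2 := by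
    unfold conv
    refine Finset.sum_congr rfl fun s _ => ?_
    rw [pow_two]
    congr 1
    unfold Coords.phi
    rw [zero_sub, C.cc_transpose hM, C.th_transpose hM]
    congr 1
    simp
  rw [h2, C.phi_zero, C.th_mul hM hM.transpose, C.th_transpose hM] at h1
  have h3 : C.cc (M * Mᵀ) 0 = 2 * C.ka M := by
    unfold Coords.cc
    rw [mul_apply, mul_apply]
    simp only [transpose_apply, h01]
    rw [C.ka_eq hM (C.e (0, 0)), hM.rowsum (C.e (1, 0)) (C.e (0, 0))]
    ring
  have h4 : ∑ s, C.phi M s ^ 2 = ∑ s, C.cc M s ^ 2 + C.th M ^ 2 := by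
    have h5 : ∀ s, C.phi M s ^ 2 = C.cc M s ^ 2 + if s = 0 then C.th M ^ 2 else 0 := by
      intro s
      by_cases hs : s = 0
      · subst hs
        have h6 : C.cc M 0 = 0 := by
          unfold Coords.cc
          rw [hd, hd, add_zero]
        rw [if_pos rfl, C.phi_zero, h6]
        ring
      · rw [if_neg hs, C.phi_ne M hs, add_zero]
    rw [Finset.sum_congr rfl fun s _ => h5 s, Finset.sum_add_distrib,
      Finset.sum_ite_eq' Finset.univ (0 : ZMod p), if_pos (Finset.mem_univ _)]
  rw [h3, h4] at h1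
  linarith

theorem Coords.F_pair {j : ZMod p} (hj : j ≠ 0) :
    C.F (C.e (0, 0)) (C.e (0, j)) + C.F (C.e (1, 0)) (C.e (1, j)) = 0 := (C.cc_F htr).2 j hj

/-- the dichotomy for orbitals -/
theorem Coords.dichotomy {a b : α} (hab : a ≠ b) :
    (C.th (orb G a b) = 0 ∧ ∀ j, C.cc (orb G a b) j ≠ 1) ∨
    (C.th (orb G a b) ≠ 0 ∧ C.th (orb G a b) ≠ -1 ∧ (∀ j, C.cc (orb G a b) j ≤ 1) ∧
      C.ka (orb G a b) = C.th (orb G a b) * (2 * C.th (orb G a b) + 1)) := by
  have h1 := C.sum_sq htr (orb_inv (G := G) a b) (orb_mul_self a b) (orb_diag hab)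
  have h2 := C.sum_cc (orb_inv (G := G) a b)
  by_cases h0 : C.th (orb G a b) = 0
  · left
    refine ⟨h0, ?_⟩
    rw [h0] at h1 h2
    have h3 : ∑ j, (2 * C.cc (orb G a b) j - C.cc (orb G a b) j ^ 2) = 0 := by
      rw [Finset.sum_sub_distrib, ← Finset.mul_sum, h2]
      linarith
    have h4 : ∀ j, 0 ≤ 2 * C.cc (orb G a b) j - C.cc (orb G a b) j ^ 2 := by
      intro j
      have := C.cc_nonneg a b j
      have := C.cc_le_two a b j
      nlinarith
    intro j hj
    have h5 := (Finset.sum_eq_zero_iff_of_nonneg fun j _ => h4 j).1 h3 j (Finset.mem_univ _)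
    rw [hj] at h5
    norm_num at h5
  · right
    have hF : C.F a b ≠ 0 := by
      intro hF
      have := C.ka_mul_F a b
      rw [hF, mul_zero] at this
      rcases mul_eq_zero.1 this.symm with h | h
      · exact h0 h
      · have : 0 < Nat.card G := Nat.card_pos
        omega
    have hle : ∀ j, C.cc (orb G a b) j ≤ 1 := by
      intro j
      by_cases hj : j = 0
      · rw [hj, C.cc_orb_zero hab]; norm_num
      · by_contra hcon
        push Not at hcon
        have h3 : orb G a b (C.e (0, 0)) (C.e (0, j)) = 1 ∧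
            orb G a b (C.e (1, 0)) (C.e (1, j)) = 1 := by
          unfold Coords.cc at hcon
          rcases orb_zero_or_one (G := G) a b (C.e (0, 0)) (C.e (0, j)) with h | h <;>
          rcases orb_zero_or_one (G := G) a b (C.e (1, 0)) (C.e (1, j)) with h' | h' <;>
          rw [h, h'] at hcon
          · omega
          · omega
          · omega
          · exact ⟨h, h'⟩
        have h4 := C.F_pair htr hj
        rw [C.F_inv.rel (orb_eq_one_iff.1 h3.1), C.F_inv.rel (orb_eq_one_iff.1 h3.2)] at h4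
        apply hF
        omega
    have h3 : ∑ j, C.cc (orb G a b) j ^ 2 = ∑ j, C.cc (orb G a b) j := by
      refine Finset.sum_congr rfl fun j _ => ?_
      have h4 := hle j
      have h5 := C.cc_nonneg a b j
      have h6 : C.cc (orb G a b) j = 0 ∨ C.cc (orb G a b) j = 1 := by omega
      rcases h6 with h6 | h6 <;> rw [h6] <;> norm_num
    rw [h3, h2] at h1
    have hk : C.ka (orb G a b) = C.th (orb G a b) * (2 * C.th (orb G a b) + 1) := by
      linarith
    refine ⟨h0, ?_, hle, hk⟩
    intro h4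
    rw [h4] at hk
    exact C.ka_ne_one hab (by rw [hk]; norm_num)

/-- value of `F` on an orbital with nonzero eigenvalue -/
theorem Coords.F_value {a b : α} (hab : a ≠ b) (h0 : C.th (orb G a b) ≠ 0) :
    (2 * C.th (orb G a b) + 1) * C.F a b = Nat.card G := by
  rcases C.dichotomy htr hab with h | h
  · exact absurd h.1 h0
  · have h1 := C.ka_mul_F a b
    rw [h.2.2.2] at h1
    have h2 : C.th (orb G a b) * ((2 * C.th (orb G a b) + 1) * C.F a b) =
        C.th (orb G a b) * Nat.card G := by rw [← h1]; ring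
    exact mul_left_cancel₀ h0 h2

theorem Coords.F_ne_zero_iff {a b : α} : C.F a b ≠ 0 ↔ C.th (orb G a b) ≠ 0 := by
  have h1 := C.ka_mul_F a b
  have h2 := C.ka_pos a b
  have h3 : (0 : ℤ) < Nat.card G := by exact_mod_cast Nat.card_pos
  constructor
  · intro h h0
    rw [h0, zero_mul] at h1
    rcases mul_eq_zero.1 h1 with h4 | h4
    · omega
    · exact h h4
  · intro h h0
    rw [h0, mul_zero] at h1
    rcases mul_eq_zero.1 h1.symm with h4 | h4
    · exact h h4
    · omega

end

end Cfsg.Agent.H12.TwoP
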