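import Cfsg.Agent.H12.TwoPE

set_option autoImplicit false
set_option linter.unusedSectionVars false

/-! Wielandt's theorem on primitive groups of degree `2p` (S0720), part F: the two special
orbitals. -/

namespace Cfsg.Agent.H12.TwoP

open Matrix MulAction

section

variable {α : Type*} [Fintype α] [DecidableEq α] {p : ℕ} [hp : Fact p.Prime]
variable {G : Subgroup (Equiv.Perm α)}
variable (C : Coords G p) [Fintype G]

/-- the two special orbitals through a point -/
structure Special (C : Coords G p) where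
  a : α
  b : α
  b' : α
  m : ℕ
  hm : 1 ≤ m
  hab : a ≠ b
  hab' : a ≠ b'
  th_b : C.th (orb G a b) = m
  th_b' : C.th (orb G a b') = -1 - m

variable [IsPreprimitive G α] (htr : (C.hat (MChar.prim p) C.F).trace = C.th C.F)

include htr

theorem Coords.exists_special : Nonempty (Special C) := by
  classical
  obtain ⟨a, ha⟩ : ∃ a, a = C.e (0, 0) := ⟨_, rfl⟩
  -- an orbital with nonzero eigenvalue
  obtain ⟨b, hab, hb⟩ : ∃ b, a ≠ b ∧ C.F a b ≠ 0 := by
    by_contra hcon
    push Not at hcon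
    have h1 := C.F_rowsum a
    rw [Finset.sum_eq_single a (fun b _ hb => hcon b hb.symm)
      (fun h => absurd (Finset.mem_univ a) h)] at h1
    have := C.F_diag_pos a
    omega
  have hth := (C.F_ne_zero_iff htr).1 hb
  rcases C.dichotomy htr hab with h | ⟨-, hm1, hle, hk⟩
  · exact absurd h.1 hth
  have hsum := C.sum_cc (orb_inv (G := G) a b)
  rw [hk] at hsum
  have hpos : 0 < ∑ j, C.cc (orb G a b) j := by
    rw [hsum]
    rcases lt_or_gt_of_ne hth with h | h
    · have : C.th (orb G a b) ≤ -2 := by omega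
      nlinarith
    · nlinarith
  obtain ⟨j, -, hj⟩ := Finset.exists_lt_of_sum_lt (s := Finset.univ)
    (f := fun _ : ZMod p => (0 : ℤ)) (g := fun j => C.cc (orb G a b) j) (by
      rw [Finset.sum_const_zero]; exact hpos)
  have hj1 : C.cc (orb G a b) j = 1 := by
    have := hle j
    omega
  have hj0 : j ≠ 0 := by
    rintro rfl
    rw [C.cc_orb_zero hab] at hj1
    norm_num at hj1
  have hFp := C.F_pair htr hj0
  -- the partner
  obtain ⟨c, d, hcd, hF⟩ : ∃ c d, c ≠ d ∧ C.F c d = - C.F a b := by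
    have hne : ∀ i : Fin 2, C.e (i, 0) ≠ C.e (i, j) := by
      intro i h
      exact hj0 (congrArg Prod.snd (C.e.injective h)).symm
    unfold Coords.cc at hj1
    rcases orb_zero_or_one (G := G) a b (C.e (0, 0)) (C.e (0, j)) with h | h
    · rw [h, zero_add] at hj1
      refine ⟨_, _, hne 0, ?_⟩
      rw [C.F_inv.rel (orb_eq_one_iff.1 hj1)] at hFp
      linarith
    · refine ⟨_, _, hne 1, ?_⟩
      rw [C.F_inv.rel (orb_eq_one_iff.1 h)] at hFp
      linarith
  have hF0 : C.F c d ≠ 0 := by rw [hF]; exact neg_ne_zero.2 hb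
  have hth' := (C.F_ne_zero_iff htr).1 hF0
  have e1 := C.F_value htr hab hth
  have e2 := C.F_value htr hcd hth'
  rw [hF] at e2
  have hrel : C.th (orb G c d) = -1 - C.th (orb G a b) := by
    have h1 : (2 * C.th (orb G c d) + 1 + (2 * C.th (orb G a b) + 1)) * C.F a b = 0 := by
      linarith
    have := (mul_eq_zero.1 h1).resolve_right hb
    omega
  obtain ⟨g, hg⟩ := exists_smul_eq G c a
  change (g : Equiv.Perm α) c = a at hg
  have hcr : Rel G c d a ((g : Equiv.Perm α) d) := ⟨g, g.2, hg, rfl⟩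
  rw [orb_congr hcr] at hrel
  have hab' : a ≠ (g : Equiv.Perm α) d := by
    rw [← hg]
    exact fun h => hcd ((g : Equiv.Perm α).injective h)
  rcases lt_or_gt_of_ne hth with h | h
  · obtain ⟨m, hm⟩ := Int.eq_ofNat_of_zero_le (a := -1 - C.th (orb G a b)) (by omega)
    refine ⟨⟨a, (g : Equiv.Perm α) d, b, m, by omega, hab', hab, ?_, ?_⟩⟩
    · rw [hrel, hm]
    · rw [← hm]; ring
  · obtain ⟨m, hm⟩ := Int.eq_ofNat_of_zero_le (a := C.th (orb G a b)) (by omega)
    refine ⟨⟨a, b, (g : Equiv.Perm α) d, m, by omega, hab, hab', hm, ?_⟩⟩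
    rw [hrel, hm]

variable (S : Special C)

theorem Special.ka_b : C.ka (orb G S.a S.b) = S.m * (2 * S.m + 1) := by
  rcases C.dichotomy htr S.hab with h | h
  · exfalso
    have h1 := h.1
    rw [S.th_b] at h1
    have := S.hm
    omega
  · rw [h.2.2.2, S.th_b]

theorem Special.ka_b' : C.ka (orb G S.a S.b') = (S.m + 1) * (2 * S.m + 1) := by
  rcases C.dichotomy htr S.hab' with h | h
  · exfalso
    have h1 := h.1
    rw [S.th_b'] at h1
    have := S.hm
    omega
  · rw [h.2.2.2, S.th_b']
    ring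

theorem Special.F_b : (2 * (S.m : ℤ) + 1) * C.F S.a S.b = Nat.card G := by
  have h := C.F_value htr S.hab (by rw [S.th_b]; have := S.hm; omega)
  rwa [S.th_b] at h

theorem Special.F_b' : (2 * (S.m : ℤ) + 1) * C.F S.a S.b' = -Nat.card G := by
  have h := C.F_value htr S.hab' (by rw [S.th_b']; have := S.hm; omega)
  rw [S.th_b'] at h
  linarith

theorem Special.F_b_pos : 0 < C.F S.a S.b := by
  have h := S.F_b C htr
  have h3 : (0 : ℤ) < Nat.card G := by exact_mod_cast Nat.card_pos
  by_contra hcon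
  push Not at hcon
  nlinarith

theorem Special.F_b'_eq : C.F S.a S.b' = - C.F S.a S.b := by
  have h := S.F_b C htr
  have h' := S.F_b' C htr
  have : (2 * (S.m : ℤ) + 1) * (C.F S.a S.b' + C.F S.a S.b) = 0 := by linarith
  rcases mul_eq_zero.1 this with h1 | h1
  · omega
  · linarith

theorem Special.not_rel : ¬ Rel G S.a S.b S.a S.b' := by
  intro h
  have h1 := C.F_inv.rel h
  have h2 := S.F_b_pos C htr
  have h3 := S.F_b'_eq C htr
  omega

/-- all other entries of `F` vanish -/
theorem Special.F_row (c : α) :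
    c = S.a ∨ Rel G S.a S.b S.a c ∨ Rel G S.a S.b' S.a c ∨ C.F S.a c = 0 := by
  classical
  have hN : (0 : ℤ) < Nat.card G := by exact_mod_cast Nat.card_pos
  have h1 := congrFun (congrFun (C.mul_F C.F_inv) S.a) S.a
  rw [Matrix.smul_apply, smul_eq_mul, mul_apply, (C.cc_F htr).1, C.F_diag] at h1
  have h2 : ∑ d, C.F S.a d ^ 2 = 2 * (Nat.card G : ℤ) * Nat.card G := by
    rw [← h1]
    exact Finset.sum_congr rfl fun d _ => by rw [C.F_symm d S.a, pow_two]
  -- the weights
  obtain ⟨w, hw⟩ : ∃ w : α → ℤ, w = fun d => (1 : Matrix α α ℤ) S.a d + orb G S.a S.b S.a d +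
    orb G S.a S.b' S.a d := ⟨_, rfl⟩
  have hw1 : ∑ d, w d * C.F S.a d ^ 2 = Nat.card G ^ 2 +
      C.ka (orb G S.a S.b) * C.F S.a S.b ^ 2 + C.ka (orb G S.a S.b') * C.F S.a S.b' ^ 2 := by
    rw [hw]
    simp only [add_mul, Finset.sum_add_distrib]
    congr 1
    · congr 1
      · rw [Finset.sum_eq_single S.a]
        · rw [one_apply_eq, one_mul, C.F_diag]
        · intro d _ hd
          rw [one_apply_ne hd.symm, zero_mul]
        · intro h
          exact absurd (Finset.mem_univ _) h
      · rw [C.ka_eq (orb_inv S.a S.b) S.a, Finset.sum_mul]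
        refine Finset.sum_congr rfl fun d _ => ?_
        rcases orb_zero_or_one (G := G) S.a S.b S.a d with h | h
        · rw [h, zero_mul, zero_mul]
        · rw [C.F_inv.rel (orb_eq_one_iff.1 h)]
    · rw [C.ka_eq (orb_inv S.a S.b') S.a, Finset.sum_mul]
      refine Finset.sum_congr rfl fun d _ => ?_
      rcases orb_zero_or_one (G := G) S.a S.b' S.a d with h | h
      · rw [h, zero_mul, zero_mul]
      · rw [C.F_inv.rel (orb_eq_one_iff.1 h)]
  have hFb := S.F_b C htr
  have hk := S.ka_b C htr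
  have hk' := S.ka_b' C htr
  rw [S.F_b'_eq C htr, hk, hk'] at hw1
  have h3 : ∑ d, w d * C.F S.a d ^ 2 = ∑ d, C.F S.a d ^ 2 := by
    rw [hw1, h2, ← hFb]
    ring
  have h4 : ∑ d, (1 - w d) * C.F S.a d ^ 2 = 0 := by
    simp only [sub_mul, one_mul, Finset.sum_sub_distrib]
    rw [h3, sub_self]
  -- weights are at most one
  have hw01 : ∀ d, 0 ≤ 1 - w d := by
    intro d
    rw [hw]
    by_cases hd : S.a = d
    · have e1 : orb G S.a S.b S.a d = 0 := by rw [← hd]; exact orb_diag S.hab _
      have e2 : orb G S.a S.b' S.a d = 0 := by rw [← hd]; exact orb_diag S.hab' _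
      have e3 : (1 : Matrix α α ℤ) S.a d = 1 := by rw [← hd]; exact one_apply_eq _
      simp only [e1, e2, e3]
      norm_num
    · have e3 : (1 : Matrix α α ℤ) S.a d = 0 := one_apply_ne hd
      simp only [e3]
      rcases orb_zero_or_one (G := G) S.a S.b S.a d with h | h <;>
      rcases orb_zero_or_one (G := G) S.a S.b' S.a d with h' | h' <;>
      rw [h, h']
      · norm_num
      · norm_num
      · norm_num
      · exfalso
        exact S.not_rel C htr ((orb_eq_one_iff.1 h).trans (orb_eq_one_iff.1 h').symm)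
  have h5 := (Finset.sum_eq_zero_iff_of_nonneg fun d _ =>
    mul_nonneg (hw01 d) (sq_nonneg (C.F S.a d))).1 h4 c (Finset.mem_univ _)
  rcases mul_eq_zero.1 h5 with h6 | h6
  · by_cases hc : c = S.a
    · exact Or.inl hc
    · rw [hw] at h6
      have e3 : (1 : Matrix α α ℤ) S.a c = 0 := one_apply_ne (Ne.symm hc)
      simp only [e3] at h6
      rcases orb_zero_or_one (G := G) S.a S.b S.a c with h | h
      · rcases orb_zero_or_one (G := G) S.a S.b' S.a c with h' | h'
        · rw [h, h'] at h6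
          norm_num at h6
        · exact Or.inr (Or.inr (Or.inl (orb_eq_one_iff.1 h')))
      · exact Or.inr (Or.inl (orb_eq_one_iff.1 h))
  · exact Or.inr (Or.inr (Or.inr (pow_eq_zero_iff (two_ne_zero) |>.1 h6)))

theorem Special.F_cases (c d : α) :
    c = d ∨ Rel G S.a S.b c d ∨ Rel G S.a S.b' c d ∨ C.F c d = 0 := by
  obtain ⟨g, hg⟩ := exists_smul_eq G c S.a
  change (g : Equiv.Perm α) c = S.a at hg
  have hr : Rel G c d S.a ((g : Equiv.Perm α) d) := ⟨g, g.2, hg, rfl⟩
  rcases S.F_row C htr ((g : Equiv.Perm α) d) with h | h | h | h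
  · left
    rw [← hg] at h
    exact ((g : Equiv.Perm α).injective h).symm
  · exact Or.inr (Or.inl (h.trans hr.symm))
  · exact Or.inr (Or.inr (Or.inl (h.trans hr.symm)))
  · rw [C.F_inv.rel hr] at h
    exact Or.inr (Or.inr (Or.inr h))

/-- the eigenvalue in terms of the entries -/
theorem Special.th_eq {M : Matrix α α ℤ} (hM : Inv G M) :
    C.th M = M S.a S.a + S.m * M S.a S.b - (S.m + 1) * M S.a S.b' := by
  classical
  have hN : (Nat.card G : ℤ) ≠ 0 := by exact_mod_cast Nat.card_pos.ne'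
  have h1 := C.F_mul_card hM S.a
  have h2 : ∀ d, C.F S.a d * M S.a d = (if d = S.a then C.F S.a S.a * M S.a S.a else 0) +
      orb G S.a S.b S.a d * (C.F S.a S.b * M S.a S.b) +
      orb G S.a S.b' S.a d * (C.F S.a S.b' * M S.a S.b') := by
    intro d
    by_cases hd : d = S.a
    · rw [if_pos hd, hd, orb_diag S.hab, orb_diag S.hab']
      ring
    · rw [if_neg hd, zero_add]
      rcases orb_zero_or_one (G := G) S.a S.b S.a d with h | h <;>
      rcases orb_zero_or_one (G := G) S.a S.b' S.a d with h' | h' <;>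
      rw [h, h']
      · rcases S.F_row C htr d with h3 | h3 | h3 | h3
        · exact absurd h3 hd
        · rw [orb_eq_zero_iff] at h; exact absurd h3 h
        · rw [orb_eq_zero_iff] at h'; exact absurd h3 h'
        · rw [h3]; ring
      · rw [C.F_inv.rel (orb_eq_one_iff.1 h'), hM.rel (orb_eq_one_iff.1 h')]; ring
      · rw [C.F_inv.rel (orb_eq_one_iff.1 h), hM.rel (orb_eq_one_iff.1 h)]; ring
      · exfalso
        exact S.not_rel C htr ((orb_eq_one_iff.1 h).trans (orb_eq_one_iff.1 h').symm)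
  rw [Finset.sum_congr rfl fun d _ => h2 d, Finset.sum_add_distrib, Finset.sum_add_distrib,
    Finset.sum_ite_eq' Finset.univ S.a, if_pos (Finset.mem_univ _), ← Finset.sum_mul,
    ← Finset.sum_mul, ← C.ka_eq (orb_inv S.a S.b), ← C.ka_eq (orb_inv S.a S.b'), S.ka_b C htr,
    S.ka_b' C htr, C.F_diag, S.F_b'_eq C htr] at h1
  have hFb := S.F_b C htr
  have h3 : (Nat.card G : ℤ) * C.th M = Nat.card G *
      (M S.a S.a + S.m * M S.a S.b - (S.m + 1) * M S.a S.b') := by
    rw [mul_comm, ← h1]
    have h4 : (S.m : ℤ) * (2 * S.m + 1) * (C.F S.a S.b * M S.a S.b) =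
        Nat.card G * (S.m * M S.a S.b) := by rw [← hFb]; ring
    have h5 : ((S.m : ℤ) + 1) * (2 * S.m + 1) * (-C.F S.a S.b * M S.a S.b') =
        -(Nat.card G * ((S.m + 1) * M S.a S.b')) := by rw [← hFb]; ring
    rw [h4, h5]
    ring
  exact mul_left_cancel₀ hN h3

end

end Cfsg.Agent.H12.TwoP
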