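import Cfsg.Agent.H12.TwoPF

set_option autoImplicit false
set_option linter.unusedSectionVars false

/-! Wielandt's theorem on primitive groups of degree `2p` (S0720), part G: the special set and the
Frobenius argument. -/

namespace Cfsg.Agent.H12.TwoP

open Matrix MulAction

section frob

variable {p : ℕ} [hp : Fact p.Prime]

/-- functions on `ZMod p` as elements of the group algebra modulo `l` -/
noncomputable def toR (l : ℕ) (f : ZMod p → ℤ) : AddMonoidAlgebra (ZMod l) (ZMod p) :=
  ∑ j, AddMonoidAlgebra.single j (f j : ZMod l)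

theorem coeff_toR (l : ℕ) (f : ZMod p → ℤ) (j : ZMod p) : (toR l f).coeff j = (f j : ZMod l) := by
  classical
  unfold toR
  rw [AddMonoidAlgebra.coeff_sum, Finsupp.finsetSum_apply, Finset.sum_eq_single j]
  · rw [AddMonoidAlgebra.coeff_single, Finsupp.single_eq_same]
  · intro i _ hi
    rw [AddMonoidAlgebra.coeff_single, Finsupp.single_eq_of_ne (Ne.symm hi)]
  · intro h
    exact absurd (Finset.mem_univ _) h

theorem single_sum_aux (l : ℕ) {ι : Type*} (w : ZMod p) (s : Finset ι) (f : ι → ZMod l) :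
    AddMonoidAlgebra.single w (∑ i ∈ s, f i) = ∑ i ∈ s, AddMonoidAlgebra.single w (f i) := by
  classical
  induction s using Finset.induction_on with
  | empty => rw [Finset.sum_empty, Finset.sum_empty, AddMonoidAlgebra.single_zero]
  | insert a s ha ih =>
    rw [Finset.sum_insert ha, Finset.sum_insert ha, AddMonoidAlgebra.single_add, ih]

theorem toR_conv (l : ℕ) (f g : ZMod p → ℤ) : toR l (conv f g) = toR l f * toR l g := by
  unfold toR conv
  rw [Finset.sum_mul_sum]
  have h1 : ∀ w : ZMod p, AddMonoidAlgebra.single w ((∑ s, f s * g (w - s) : ℤ) : ZMod l) =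
      ∑ s, AddMonoidAlgebra.single w ((f s : ZMod l) * (g (w - s) : ZMod l)) := by
    intro w
    rw [← single_sum_aux]
    push_cast
    rfl
  rw [Finset.sum_congr rfl fun w _ => h1 w, Finset.sum_comm]
  refine Finset.sum_congr rfl fun s _ => ?_
  refine Fintype.sum_equiv (Equiv.subRight s) _ _ fun w => ?_
  rw [Equiv.subRight_apply, AddMonoidAlgebra.single_mul_single, add_sub_cancel]

theorem toR_pow_char (l : ℕ) [hl : Fact l.Prime] (T : Finset (ZMod p)) :
    (toR l (fun j => if j ∈ T then 1 else 0) : AddMonoidAlgebra (ZMod l) (ZMod p)) ^ l =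
      ∑ t ∈ T, AddMonoidAlgebra.single ((l : ZMod p) * t) 1 := by
  classical
  have hchar : CharP (AddMonoidAlgebra (ZMod l) (ZMod p)) l :=
    charP_of_injective_algebraMap (algebraMap (ZMod l) (AddMonoidAlgebra (ZMod l) (ZMod p))).injective l
  have hexp : ExpChar (AddMonoidAlgebra (ZMod l) (ZMod p)) l := ExpChar.prime hl.out
  have h1 : (toR l (fun j => if j ∈ T then 1 else 0) : AddMonoidAlgebra (ZMod l) (ZMod p)) =
      ∑ t ∈ T, AddMonoidAlgebra.single t 1 := by
    unfold toR
    have h2 : ∀ j : ZMod p, AddMonoidAlgebra.single j ((if j ∈ T then (1 : ℤ) else 0 : ℤ) : ZMod l) =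
        if j ∈ T then AddMonoidAlgebra.single j (1 : ZMod l) else 0 := by
      intro j
      split_ifs
      · rw [Int.cast_one]
      · rw [Int.cast_zero, AddMonoidAlgebra.single_zero]
    rw [Finset.sum_congr rfl fun j _ => h2 j, Finset.sum_ite_mem, Finset.univ_inter]
  rw [h1, sum_pow_char l]
  refine Finset.sum_congr rfl fun t _ => ?_
  rw [AddMonoidAlgebra.single_pow, one_pow, nsmul_eq_mul]

end frob

section

variable {α : Type*} [Fintype α] [DecidableEq α] {p : ℕ} [hp : Fact p.Prime]
variable {G : Subgroup (Equiv.Perm α)}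
variable (C : Coords G p)

theorem Coords.cc_add (M N : Matrix α α ℤ) (j : ZMod p) :
    C.cc (M + N) j = C.cc M j + C.cc N j := by
  unfold Coords.cc
  rw [Matrix.add_apply, Matrix.add_apply]
  ring

theorem Coords.phi_add (M N : Matrix α α ℤ) : C.phi (M + N) = fun j => C.phi M j + C.phi N j := by
  funext j
  unfold Coords.phi
  rw [C.cc_add, C.th_add]
  split_ifs <;> ring

theorem Coords.phi_smul (c : ℤ) (M : Matrix α α ℤ) : C.phi (c • M) = fun j => c * C.phi M j := by
  funext j
  unfold Coords.phi Coords.cc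
  rw [C.th_smul, Matrix.smul_apply, Matrix.smul_apply, smul_eq_mul, smul_eq_mul]
  split_ifs <;> ring

theorem Coords.phi_one : C.phi (1 : Matrix α α ℤ) = fun j => if j = 0 then 1 else 0 := by
  funext j
  unfold Coords.phi Coords.cc
  rw [C.th_one]
  by_cases hj : j = 0
  · subst hj
    simp only [if_pos, one_apply_eq]
    norm_num
  · simp only [if_neg hj]
    have h : ∀ i : Fin 2, C.e (i, 0) ≠ C.e (i, j) := by
      intro i h
      exact hj (congrArg Prod.snd (C.e.injective h)).symm
    rw [one_apply_ne (h 0), one_apply_ne (h 1)]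
    norm_num

variable [Fintype G] [IsPreprimitive G α]
variable (htr : (C.hat (MChar.prim p) C.F).trace = C.th C.F)

include htr

theorem Coords.toR_phi_pow (l : ℕ) {M : Matrix α α ℤ} (hM : Inv G M) (n : ℕ) :
    toR l (C.phi (M ^ (n + 1))) = toR l (C.phi M) ^ (n + 1) := by
  induction n with
  | zero => rw [zero_add, pow_one, pow_one]
  | succ n ih =>
    rw [pow_succ, C.phi_mul htr (hM.pow _) hM, toR_conv, ih, ← pow_succ]

theorem Coords.toR_phi_pow' (l : ℕ) {M : Matrix α α ℤ} (hM : Inv G M) {n : ℕ} (hn : 0 < n) :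
    toR l (C.phi (M ^ n)) = toR l (C.phi M) ^ n := by
  obtain ⟨k, rfl⟩ : ∃ k, n = k + 1 := ⟨n - 1, by omega⟩
  exact C.toR_phi_pow htr l hM k

variable (S : Special C)

/-- the special set -/
noncomputable def Special.T : Finset (ZMod p) := by
  classical exact Finset.univ.filter fun j => C.cc (orb G S.a S.b) j = 1

omit htr [Fintype G] [IsPreprimitive G α] in
theorem Special.mem_T {j : ZMod p} : j ∈ S.T C ↔ C.cc (orb G S.a S.b) j = 1 := by
  classical
  unfold Special.T
  rw [Finset.mem_filter]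
  simp

theorem Special.cc_b (j : ZMod p) :
    C.cc (orb G S.a S.b) j = 0 ∨ C.cc (orb G S.a S.b) j = 1 := by
  rcases C.dichotomy htr S.hab with h | h
  · exfalso
    have h1 := h.1
    rw [S.th_b] at h1
    have := S.hm
    omega
  · have h1 := h.2.2.1 j
    have h2 := C.cc_nonneg S.a S.b j
    omega

omit htr [Fintype G] [IsPreprimitive G α] in
theorem Special.ne_zero_of_mem {j : ZMod p} (hj : j ∈ S.T C) : j ≠ 0 := by
  rintro rfl
  rw [S.mem_T, C.cc_orb_zero S.hab] at hj
  norm_num at hj

omit htr [Fintype G] [IsPreprimitive G α] in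
theorem Coords.e_ne (i : Fin 2) {j : ZMod p} (hj : j ≠ 0) : C.e (i, 0) ≠ C.e (i, j) := by
  intro h
  exact hj (congrArg Prod.snd (C.e.injective h)).symm

/-- on the special set the entries of an invariant matrix are those of the special orbitals -/
theorem Special.cc_of_mem {j : ZMod p} (hj : j ∈ S.T C) {M : Matrix α α ℤ} (hM : Inv G M) :
    C.cc M j = M S.a S.b + M S.a S.b' := by
  have hj0 := S.ne_zero_of_mem C hj
  rw [S.mem_T] at hj
  have hFp := C.F_pair htr hj0
  have hpos := S.F_b_pos C htr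
  have hneg := S.F_b'_eq C htr
  -- if one pair is in the first orbital and the other is not, then the other is in the second
  have key : ∀ c d, c ≠ d → ¬ Rel G S.a S.b c d → C.F c d = - C.F S.a S.b →
      Rel G S.a S.b' c d := by
    intro c d hcd h1 h2
    rcases S.F_cases C htr c d with h | h | h | h
    · exact absurd h hcd
    · exact absurd h h1
    · exact h
    · rw [h] at h2
      omega
  unfold Coords.cc at hj ⊢
  rcases orb_zero_or_one (G := G) S.a S.b (C.e (0, 0)) (C.e (0, j)) with h | h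
  · rw [h, zero_add] at hj
    have e1 := orb_eq_one_iff.1 hj
    rw [C.F_inv.rel e1] at hFp
    have e2 := key _ _ (C.e_ne 0 hj0) (orb_eq_zero_iff.1 h) (by linarith)
    rw [hM.rel e1, hM.rel e2, add_comm]
  · rw [h] at hj
    have e1 := orb_eq_one_iff.1 h
    have h' : orb G S.a S.b (C.e (1, 0)) (C.e (1, j)) = 0 := by omega
    rw [C.F_inv.rel e1] at hFp
    have e2 := key _ _ (C.e_ne 1 hj0) (orb_eq_zero_iff.1 h') (by linarith)
    rw [hM.rel e1, hM.rel e2]

/-- outside of the special set both diagonal pairs are in the same orbital -/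
theorem Special.rel_of_not_mem {j : ZMod p} (hj0 : j ≠ 0) (hj : j ∉ S.T C) :
    Rel G (C.e (0, 0)) (C.e (0, j)) (C.e (1, 0)) (C.e (1, j)) ∧
      C.F (C.e (0, 0)) (C.e (0, j)) = 0 := by
  have hcc : C.cc (orb G S.a S.b) j = 0 := by
    rw [S.mem_T] at hj
    exact (S.cc_b C htr j).resolve_right hj
  have hFp := C.F_pair htr hj0
  have hpos := S.F_b_pos C htr
  have hneg := S.F_b'_eq C htr
  have h0 : ¬ Rel G S.a S.b (C.e (0, 0)) (C.e (0, j)) := by
    rw [← orb_eq_zero_iff]
    unfold Coords.cc at hcc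
    rcases orb_zero_or_one (G := G) S.a S.b (C.e (0, 0)) (C.e (0, j)) with h | h <;>
    rcases orb_zero_or_one (G := G) S.a S.b (C.e (1, 0)) (C.e (1, j)) with h' | h' <;>
    rw [h, h'] at hcc <;> omega
  have h1 : ¬ Rel G S.a S.b (C.e (1, 0)) (C.e (1, j)) := by
    rw [← orb_eq_zero_iff]
    unfold Coords.cc at hcc
    rcases orb_zero_or_one (G := G) S.a S.b (C.e (0, 0)) (C.e (0, j)) with h | h <;>
    rcases orb_zero_or_one (G := G) S.a S.b (C.e (1, 0)) (C.e (1, j)) with h' | h' <;>
    rw [h, h'] at hcc <;> omega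
  have hF0 : C.F (C.e (0, 0)) (C.e (0, j)) = 0 := by
    rcases S.F_cases C htr (C.e (0, 0)) (C.e (0, j)) with h | h | h | h
    · exact absurd h (C.e_ne 0 hj0)
    · exact absurd h h0
    · exfalso
      have e1 := C.F_inv.rel h
      rcases S.F_cases C htr (C.e (1, 0)) (C.e (1, j)) with h' | h' | h' | h'
      · exact absurd h' (C.e_ne 1 hj0)
      · exact absurd h' h1
      · have e2 := C.F_inv.rel h'
        omega
      · omega
    · exact h
  refine ⟨?_, hF0⟩
  have hth : C.th (orb G (C.e (0, 0)) (C.e (0, j))) = 0 := by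
    by_contra hne
    exact (C.F_ne_zero_iff htr).2 hne hF0
  rcases C.dichotomy htr (C.e_ne 0 hj0) with h | h
  · have h2 := h.2 j
    unfold Coords.cc at h2
    rw [orb_self] at h2
    rw [← orb_eq_one_iff]
    rcases orb_zero_or_one (G := G) (C.e (0, 0)) (C.e (0, j)) (C.e (1, 0)) (C.e (1, j)) with h' | h'
    · rw [h'] at h2
      exact absurd rfl h2
    · exact h'
  · exact absurd hth h.1

theorem Special.cc_of_not_mem {j : ZMod p} (hj0 : j ≠ 0) (hj : j ∉ S.T C) {M : Matrix α α ℤ}
    (hM : Inv G M) : C.cc M j = 2 * M (C.e (0, 0)) (C.e (0, j)) := by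
  unfold Coords.cc
  rw [hM.rel (S.rel_of_not_mem C htr hj0 hj).1]
  ring

theorem Special.card_T : ((S.T C).card : ℤ) = 2 * S.m * (S.m + 1) := by
  classical
  have h1 := C.sum_cc (orb_inv (G := G) S.a S.b)
  rw [S.ka_b C htr, S.th_b] at h1
  have h2 : ∑ j, C.cc (orb G S.a S.b) j = (S.T C).card := by
    rw [Finset.card_eq_sum_ones]
    push_cast
    rw [← Finset.sum_filter_add_sum_filter_not Finset.univ (fun j => j ∈ S.T C)]
    rw [Finset.filter_mem_eq_inter, Finset.univ_inter]
    rw [Finset.sum_congr rfl (g := fun _ => (1 : ℤ)) (fun t ht => (S.mem_T C).1 ht)]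
    rw [Finset.sum_eq_zero (s := Finset.univ.filter fun j => j ∉ S.T C), add_zero]
    intro t ht
    exact (S.cc_b C htr t).resolve_right fun h => (Finset.mem_filter.1 ht).2 ((S.mem_T C).2 h)
  rw [← h2, h1]
  ring

theorem Special.rel_swap {c d : α} (h : Rel G S.a S.b c d) : Rel G S.a S.b d c := by
  have hpos := S.F_b_pos C htr
  have hneg := S.F_b'_eq C htr
  have hF : C.F d c = C.F S.a S.b := by rw [C.F_symm, C.F_inv.rel h]
  rcases S.F_cases C htr d c with h' | h' | h' | h'
  · exfalso
    obtain ⟨g, -, h1, h2⟩ := h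
    apply S.hab
    apply g.injective
    rw [h1, h2, h']
  · exact h'
  · have := C.F_inv.rel h'
    omega
  · omega

theorem Special.orb_transpose : (orb G S.a S.b)ᵀ = orb G S.a S.b := by
  ext c d
  rw [transpose_apply]
  rcases orb_zero_or_one (G := G) S.a S.b c d with h | h
  · rw [h, orb_eq_zero_iff]
    rw [orb_eq_zero_iff] at h
    exact fun h' => h (S.rel_swap C htr h')
  · rw [h, orb_eq_one_iff]
    rw [orb_eq_one_iff] at h
    exact S.rel_swap C htr h

theorem Special.neg_mem {j : ZMod p} (hj : j ∈ S.T C) : -j ∈ S.T C := by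
  rw [S.mem_T] at hj ⊢
  rw [← hj, ← C.cc_transpose (orb_inv S.a S.b) j, S.orb_transpose C htr]

/-- the shifted orbital matrix is mapped to the indicator of `T` -/
theorem Special.phi_b [DecidableEq (ZMod p)] : C.phi (orb G S.a S.b + (S.m : ℤ) • (1 : Matrix α α ℤ)) =
    fun j => if j ∈ S.T C then 1 else 0 := by
  rw [C.phi_add, C.phi_smul, C.phi_one]
  funext j
  by_cases hj : j = 0
  · subst hj
    have h0 : (0 : ZMod p) ∉ S.T C := fun h => S.ne_zero_of_mem C h rfl
    rw [if_neg h0, C.phi_zero, C.cc_orb_zero S.hab, S.th_b]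
    simp
  · rw [C.phi_ne _ hj]
    simp only [if_neg hj, mul_zero, add_zero]
    rcases S.cc_b C htr j with h | h
    · rw [if_neg, h]
      intro h'
      rw [S.mem_T, h] at h'
      norm_num at h'
    · rw [if_pos ((S.mem_T C).2 h), h]

/-- Frobenius: for a prime `l ≠ p`, membership in `l T` is determined by an invariant matrix -/
theorem Special.frobenius (l : ℕ) (hl : l.Prime) (hlp : (l : ZMod p) ≠ 0) :
    ∃ M : Matrix α α ℤ, Inv G M ∧ ∀ j : ZMod p, j ≠ 0 →
      (((∃ t ∈ S.T C, (l : ZMod p) * t = j) → ((C.cc M j : ℤ) : ZMod l) = 1) ∧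
      ((¬ ∃ t ∈ S.T C, (l : ZMod p) * t = j) → ((C.cc M j : ℤ) : ZMod l) = 0)) := by
  classical
  have : Fact l.Prime := ⟨hl⟩
  have hM : Inv G (orb G S.a S.b + (S.m : ℤ) • (1 : Matrix α α ℤ)) :=
    (orb_inv _ _).add (Inv.one.smul _)
  refine ⟨(orb G S.a S.b + (S.m : ℤ) • (1 : Matrix α α ℤ)) ^ l, hM.pow l, fun j hj => ?_⟩
  have h1 : toR l (C.phi ((orb G S.a S.b + (S.m : ℤ) • (1 : Matrix α α ℤ)) ^ l)) =
      ∑ t ∈ S.T C, AddMonoidAlgebra.single ((l : ZMod p) * t) 1 := by
    rw [← toR_pow_char l (S.T C), ← S.phi_b C htr]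
    exact C.toR_phi_pow' htr l hM hl.pos
  have h2 := congrArg (fun r => AddMonoidAlgebra.coeff r j) h1
  simp only [coeff_toR, C.phi_ne _ hj] at h2
  rw [AddMonoidAlgebra.coeff_sum, Finsupp.finsetSum_apply] at h2
  simp only [AddMonoidAlgebra.coeff_single, Finsupp.single_apply] at h2
  rw [h2]
  constructor
  · rintro ⟨t, ht, htj⟩
    rw [Finset.sum_eq_single t]
    · rw [if_pos htj]
    · intro t' _ ht'
      rw [if_neg]
      intro h
      exact ht' (mul_left_cancel₀ hlp (h.trans htj.symm))
    · intro h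
      exact absurd ht h
  · intro h
    refine Finset.sum_eq_zero fun t ht => ?_
    rw [if_neg]
    intro h'
    exact h ⟨t, ht, h'⟩

end

end Cfsg.Agent.H12.TwoP
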