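import Cfsg.Agent.H12.TwoPG

set_option autoImplicit false
set_option linter.unusedSectionVars false

/-! Wielandt's theorem on primitive groups of degree `2p` (S0720), part H: the special set is
everything. -/

namespace Cfsg.Agent.H12.TwoP

open Matrix MulAction

section

variable {α : Type*} [Fintype α] [DecidableEq α] {p : ℕ} [hp : Fact p.Prime]
variable {G : Subgroup (Equiv.Perm α)}
variable (C : Coords G p) [Fintype G] [IsPreprimitive G α]
variable (htr : (C.hat (MChar.prim p) C.F).trace = C.th C.F)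
variable (S : Special C)

include htr

theorem Special.exists_prime {z : ZMod p} (hz : z ≠ 0) :
    ∃ M : Matrix α α ℤ, Inv G M ∧ ∃ l : ℕ, l.Prime ∧ ∀ j : ZMod p, j ≠ 0 →
      (((∃ t ∈ S.T C, z * t = j) → ((C.cc M j : ℤ) : ZMod l) = 1) ∧
      ((¬ ∃ t ∈ S.T C, z * t = j) → ((C.cc M j : ℤ) : ZMod l) = 0)) := by
  obtain ⟨l, -, hl, hlz⟩ := Nat.forall_exists_prime_gt_and_eq_mod (q := p) (a := z)
    (isUnit_iff_ne_zero.2 hz) 0
  obtain ⟨M, hM, h⟩ := S.frobenius C htr l hl (by rw [hlz]; exact hz)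
  rw [hlz] at h
  exact ⟨M, hM, l, hl, h⟩

theorem Special.mul_mem_all {z : ZMod p} (hz : z ≠ 0) {t₀ : ZMod p} (ht₀ : t₀ ∈ S.T C)
    (hzt : z * t₀ ∈ S.T C) {t : ZMod p} (ht : t ∈ S.T C) : z * t ∈ S.T C := by
  classical
  obtain ⟨M, hM, l, hl, h⟩ := S.exists_prime C htr hz
  have : Fact l.Prime := ⟨hl⟩
  have h1 := (h _ (S.ne_zero_of_mem C hzt)).1 ⟨t₀, ht₀, rfl⟩
  rw [S.cc_of_mem C htr hzt hM] at h1
  have hsub : S.T C ⊆ (S.T C).image (fun t => z * t) := by
    intro j hj
    by_contra hcon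
    have h2 := (h j (S.ne_zero_of_mem C hj)).2 (by
      rintro ⟨t, ht, htj⟩
      exact hcon (Finset.mem_image.2 ⟨t, ht, htj⟩))
    rw [S.cc_of_mem C htr hj hM, h1] at h2
    exact one_ne_zero h2
  have heq := Finset.eq_of_subset_of_card_le hsub Finset.card_image_le
  rw [heq]
  exact Finset.mem_image_of_mem _ ht

theorem Special.union_prop {z : ZMod p} (hz : z ≠ 0) {j j' : ZMod p} (hj0 : j ≠ 0)
    (hj : j ∉ S.T C) (hj0' : j' ≠ 0) (hj' : j' ∉ S.T C)
    (hrel : Rel G (C.e (0, 0)) (C.e (0, j)) (C.e (0, 0)) (C.e (0, j')))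
    (hm : ∃ t ∈ S.T C, z * t = j) : ∃ t ∈ S.T C, z * t = j' := by
  obtain ⟨M, hM, l, hl, h⟩ := S.exists_prime C htr hz
  have : Fact l.Prime := ⟨hl⟩
  by_contra hcon
  have h1 := (h j hj0).1 hm
  have h2 := (h j' hj0').2 hcon
  rw [S.cc_of_not_mem C htr hj0 hj hM] at h1
  rw [S.cc_of_not_mem C htr hj0' hj' hM, hM.rel hrel, h1] at h2
  exact one_ne_zero h2

theorem Special.T_nonempty : (S.T C).Nonempty := by
  rw [← Finset.card_pos]
  have h1 := S.card_T C htr
  have h2 := S.hm
  have : (0 : ℤ) < (S.T C).card := by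
    rw [h1]
    have : (1 : ℤ) ≤ S.m := by exact_mod_cast h2
    positivity
  exact_mod_cast this

/-- the computation for the special set itself -/
theorem Special.count_T [DecidableEq (ZMod p)] {w : ZMod p} (hw : w ∈ S.T C) :
    ∃ k : ℤ, 0 ≤ k ∧ conv (fun j => if j ∈ S.T C then 1 else 0)
      (fun j => if j ∈ S.T C then 1 else 0) w = 3 * S.m + (2 * S.m + 1) * k := by
  have hw0 := S.ne_zero_of_mem C hw
  obtain ⟨A, hA⟩ : ∃ A, A = orb G S.a S.b := ⟨_, rfl⟩
  have hAi : Inv G A := hA ▸ orb_inv _ _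
  have hBi : Inv G (A + (S.m : ℤ) • (1 : Matrix α α ℤ)) := hAi.add (Inv.one.smul _)
  have hphiB := S.phi_b C htr
  rw [← hA] at hphiB
  have h1 := congrFun (C.phi_mul htr hBi hBi) w
  rw [hphiB] at h1
  rw [← h1]
  have hexp : (A + (S.m : ℤ) • (1 : Matrix α α ℤ)) * (A + (S.m : ℤ) • (1 : Matrix α α ℤ)) =
      A * A + ((2 * S.m : ℤ) • A + ((S.m : ℤ) * S.m) • (1 : Matrix α α ℤ)) := by
    rw [add_mul, mul_add, mul_add, smul_mul_assoc, smul_mul_assoc, mul_smul_comm, mul_smul_comm,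
      one_mul, mul_one, one_mul, smul_smul]
    module
  have hphiA : C.phi A w = 1 := by
    rw [C.phi_ne _ hw0, hA]
    exact (S.mem_T C).1 hw
  have hphi1 : C.phi (1 : Matrix α α ℤ) w = 0 := by
    rw [C.phi_one]
    exact if_neg hw0
  rw [hexp, C.phi_add, C.phi_add, C.phi_smul, C.phi_smul]
  simp only [hphiA, hphi1]
  rw [C.phi_ne _ hw0, S.cc_of_mem C htr hw (hAi.mul hAi)]
  have hth := S.th_eq C htr (hAi.mul hAi)
  rw [C.th_mul hAi hAi] at hth
  have hthA : C.th A = S.m := by rw [hA]; exact S.th_b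
  have hdiag : (A * A) S.a S.a = S.m * (2 * S.m + 1) := by
    rw [← S.ka_b C htr, C.ka_eq (orb_inv S.a S.b) S.a, mul_apply, hA]
    refine Finset.sum_congr rfl fun c _ => ?_
    have h2 : orb G S.a S.b c S.a = orb G S.a S.b S.a c := by
      have := congrFun (congrFun (S.orb_transpose C htr) S.a) c
      exact this
    rw [h2, orb_mul_self]
  rw [hthA, hdiag] at hth
  have hnn : 0 ≤ (A * A) S.a S.b := by
    rw [mul_apply]
    refine Finset.sum_nonneg fun c _ => ?_
    rw [hA]
    rcases orb_zero_or_one (G := G) S.a S.b S.a c with h | h <;>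
    rcases orb_zero_or_one (G := G) S.a S.b c S.b with h' | h' <;>
    rw [h, h'] <;> norm_num
  obtain ⟨x, hx⟩ : ∃ x, x = (A * A) S.a S.b := ⟨_, rfl⟩
  obtain ⟨y, hy⟩ : ∃ y, y = (A * A) S.a S.b' := ⟨_, rfl⟩
  rw [← hx] at hth hnn ⊢
  rw [← hy] at hth ⊢
  have hm := S.hm
  have hm' : (1 : ℤ) ≤ S.m := by exact_mod_cast hm
  -- (m+1) (n - 3 m) = (2 m + 1) x
  have hkey : ((S.m : ℤ) + 1) * (x + y - S.m) = (2 * S.m + 1) * x := by
    linear_combination hth
  have hcop : IsCoprime ((S.m : ℤ) + 1) (2 * S.m + 1) := ⟨2, -1, by ring⟩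
  have hdvd : ((S.m : ℤ) + 1) ∣ x := by
    apply hcop.dvd_of_dvd_mul_left
    exact ⟨_, hkey.symm⟩
  obtain ⟨k, hk⟩ := hdvd
  refine ⟨k, ?_, ?_⟩
  · rw [hk] at hnn
    by_contra hcon
    push Not at hcon
    nlinarith
  · rw [hk] at hkey
    have h3 : ((S.m : ℤ) + 1) * (x + y - S.m - (2 * S.m + 1) * k) = 0 := by
      rw [hk]
      linear_combination hkey
    have h4 := (mul_eq_zero.1 h3).resolve_left (by omega)
    linear_combination h4

/-- the computation for the other classes -/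
theorem Special.count_other [DecidableEq (ZMod p)] {w : ZMod p} (hw : w ∈ S.T C) {z : ZMod p}
    (hz : z ≠ 0) (hzT : ∀ t ∈ S.T C, z * t ∉ S.T C) :
    ∃ k : ℤ, 0 ≤ k ∧ conv (fun j => if ∃ t ∈ S.T C, z * t = j then 1 else 0)
      (fun j => if ∃ t ∈ S.T C, z * t = j then 1 else 0) w = S.m + (2 * S.m + 1) * k := by
  classical
  have hw0 := S.ne_zero_of_mem C hw
  have hpos := S.F_b_pos C htr
  have hneg := S.F_b'_eq C htr
  obtain ⟨i, hi⟩ : ∃ i : ZMod p → ℤ, i = fun j => if ∃ t ∈ S.T C, z * t = j then 1 else 0 :=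
    ⟨_, rfl⟩
  have hi' : (fun j => if ∃ t ∈ S.T C, z * t = j then (1 : ℤ) else 0) = i := hi.symm
  have hi1 : ∀ j, i j = 1 ↔ ∃ t ∈ S.T C, z * t = j := by
    intro j
    rw [hi]
    simp only
    split_ifs with h
    · simp [h]
    · simp only [zero_ne_one, false_iff]; exact h
  have hi01 : ∀ j, i j = 0 ∨ i j = 1 := by
    intro j
    rw [hi]
    simp only
    split_ifs
    · exact Or.inr rfl
    · exact Or.inl rfl
  have hine : ∀ j, i j = 1 → j ≠ 0 ∧ j ∉ S.T C := by
    intro j hj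
    obtain ⟨t, ht, rfl⟩ := (hi1 j).1 hj
    exact ⟨mul_ne_zero hz (S.ne_zero_of_mem C ht), hzT t ht⟩
  -- the matrix
  obtain ⟨B, hB⟩ : ∃ B : Matrix α α ℤ, B = Matrix.of fun x y =>
      if ∃ j, i j = 1 ∧ Rel G (C.e (0, 0)) (C.e (0, j)) x y then 1 else 0 := ⟨_, rfl⟩
  have hB1 : ∀ x y, B x y = 1 ↔ ∃ j, i j = 1 ∧ Rel G (C.e (0, 0)) (C.e (0, j)) x y := by
    intro x y
    rw [hB, Matrix.of_apply]
    split_ifs with h
    · simp only [true_iff]; exact h
    · simp only [zero_ne_one, false_iff]; exact h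
  have hB01 : ∀ x y, B x y = 0 ∨ B x y = 1 := by
    intro x y
    rw [hB, Matrix.of_apply]
    split_ifs
    · exact Or.inr rfl
    · exact Or.inl rfl
  have hBi : Inv G B := by
    intro g hg x y
    have h1 : B (g x) (g y) = 1 ↔ B x y = 1 := by
      rw [hB1, hB1]
      constructor
      · rintro ⟨j, hj, h⟩
        exact ⟨j, hj, h.trans (Rel.symm ⟨g, hg, rfl, rfl⟩)⟩
      · rintro ⟨j, hj, h⟩
        exact ⟨j, hj, h.trans ⟨g, hg, rfl, rfl⟩⟩
    rcases hB01 (g x) (g y) with h | h <;> rcases hB01 x y with h' | h'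
    · rw [h, h']
    · exact absurd (h1.2 h') (by rw [h]; norm_num)
    · exact absurd (h1.1 h) (by rw [h']; norm_num)
    · rw [h, h']
  have hBd : ∀ x, B x x = 0 := by
    intro x
    rcases hB01 x x with h | h
    · exact h
    · exfalso
      obtain ⟨j, hj, g, -, h1, h2⟩ := (hB1 x x).1 h
      exact C.e_ne 0 (hine j hj).1 (g.injective (h1.trans h2.symm))
  have hBsq : ∀ x y, B x y * B x y = B x y := by
    intro x y
    rcases hB01 x y with h | h <;> rw [h] <;> norm_num
  have hBF : ∀ x y, B x y = 1 → C.F x y = 0 := by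
    intro x y h
    obtain ⟨j, hj, h1⟩ := (hB1 x y).1 h
    rw [C.F_inv.rel h1]
    exact (S.rel_of_not_mem C htr (hine j hj).1 (hine j hj).2).2
  have hBab : B S.a S.b = 0 := by
    rcases hB01 S.a S.b with h | h
    · exact h
    · have := hBF _ _ h
      omega
  have hBab' : B S.a S.b' = 0 := by
    rcases hB01 S.a S.b' with h | h
    · exact h
    · have := hBF _ _ h
      omega
  have hBth : C.th B = 0 := by
    rw [S.th_eq C htr hBi, hBd, hBab, hBab']
    ring
  have hBcc : ∀ j, C.cc B j = 2 * i j := by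
    intro j
    by_cases hj0 : j = 0
    · subst hj0
      have h1 : i 0 = 0 := by
        rcases hi01 0 with h | h
        · exact h
        · exact absurd rfl (hine 0 h).1
      rw [h1]
      unfold Coords.cc
      rw [hBd, hBd]
      norm_num
    · by_cases hjT : j ∈ S.T C
      · have h1 : i j = 0 := by
          rcases hi01 j with h | h
          · exact h
          · exact absurd hjT (hine j h).2
        rw [S.cc_of_mem C htr hjT hBi, hBab, hBab', h1]
        norm_num
      · rw [S.cc_of_not_mem C htr hj0 hjT hBi]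
        congr 1
        rcases hi01 j with h | h
        · rw [h]
          rcases hB01 (C.e (0, 0)) (C.e (0, j)) with h' | h'
          · exact h'
          · exfalso
            obtain ⟨j', hj', hr⟩ := (hB1 _ _).1 h'
            have h2 := S.union_prop C htr hz (hine j' hj').1 (hine j' hj').2 hj0 hjT hr
              ((hi1 j').1 hj')
            rw [← hi1] at h2
            omega
        · rw [h, hB1]
          exact ⟨j, h, Rel.refl _ _⟩
  have hphiB : C.phi B = fun j => 2 * i j := by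
    funext j
    unfold Coords.phi
    rw [hBcc, hBth]
    simp
  have hineg : ∀ j, i (-j) = i j := by
    have h1 : ∀ j, i j = 1 → i (-j) = 1 := by
      intro j hj
      obtain ⟨t, ht, rfl⟩ := (hi1 j).1 hj
      rw [hi1]
      exact ⟨-t, S.neg_mem C htr ht, by ring⟩
    intro j
    rcases hi01 j with h | h
    · rcases hi01 (-j) with h' | h'
      · rw [h, h']
      · have := h1 _ h'
        rw [neg_neg] at this
        omega
    · rw [h, h1 j h]
  have hphiBt : C.phi Bᵀ = fun j => 2 * i j := by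
    funext j
    unfold Coords.phi
    have h1 := C.cc_transpose hBi (-j)
    rw [neg_neg] at h1
    rw [h1, hBcc, hineg, C.th_transpose hBi, hBth]
    simp
  have h1 := congrFun (C.phi_mul htr hBi hBi.transpose) w
  rw [hphiB, hphiBt] at h1
  have h2 : conv (fun j => 2 * i j) (fun j => 2 * i j) w = 4 * conv i i w := by
    unfold conv
    rw [Finset.mul_sum]
    exact Finset.sum_congr rfl fun s _ => by ring
  rw [h2, C.phi_ne _ hw0, S.cc_of_mem C htr hw (hBi.mul hBi.transpose)] at h1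
  have hth := S.th_eq C htr (hBi.mul hBi.transpose)
  rw [C.th_mul hBi hBi.transpose, hBth, zero_mul] at hth
  have hdiag : (B * Bᵀ) S.a S.a = 4 * S.m * (S.m + 1) := by
    have h3 : (B * Bᵀ) S.a S.a = C.ka B := by
      rw [C.ka_eq hBi S.a, mul_apply]
      exact Finset.sum_congr rfl fun c _ => hBsq _ _
    have h4 : C.ka B = 2 * ∑ j, i j := by
      rw [← C.sum_phi hBi, hphiB, Finset.mul_sum]
    have h5 : ∑ j, i j = (S.T C).card := by
      have h6 : (S.T C).card = ((S.T C).image fun t => z * t).card := by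
        rw [Finset.card_image_of_injective]
        exact fun a b h => mul_left_cancel₀ hz h
      rw [h6, Finset.card_eq_sum_ones]
      push_cast
      rw [← Finset.sum_filter_add_sum_filter_not Finset.univ
        (fun j => j ∈ (S.T C).image fun t => z * t)]
      rw [Finset.filter_mem_eq_inter, Finset.univ_inter]
      rw [Finset.sum_congr rfl (g := fun _ => (1 : ℤ)) (fun t ht => (hi1 t).2
        (Finset.mem_image.1 ht))]
      rw [Finset.sum_eq_zero (s := Finset.univ.filter fun j => j ∉ (S.T C).image fun t => z * t),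
        add_zero]
      intro t ht
      rcases hi01 t with h | h
      · exact h
      · exact absurd (Finset.mem_image.2 ((hi1 t).1 h)) (Finset.mem_filter.1 ht).2
    rw [h3, h4, h5, S.card_T C htr]
    ring
  have hnn : 0 ≤ (B * Bᵀ) S.a S.b := by
    rw [mul_apply]
    refine Finset.sum_nonneg fun c _ => ?_
    rw [transpose_apply]
    rcases hB01 S.a c with h | h <;>
    rcases hB01 S.b c with h' | h' <;>
    rw [h, h'] <;> norm_num
  rw [hdiag] at hth
  obtain ⟨x, hx⟩ : ∃ x, x = (B * Bᵀ) S.a S.b := ⟨_, rfl⟩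
  obtain ⟨y, hy⟩ : ∃ y, y = (B * Bᵀ) S.a S.b' := ⟨_, rfl⟩
  rw [← hx] at hth hnn h1
  rw [← hy] at hth h1
  have hi2 : conv (fun j => if ∃ t ∈ S.T C, z * t = j then 1 else 0)
      (fun j => if ∃ t ∈ S.T C, z * t = j then 1 else 0) w = conv i i w := by
    rw [hi]
  rw [hi2]
  obtain ⟨n, hn⟩ : ∃ n, n = conv i i w := ⟨_, rfl⟩
  rw [← hn] at h1 ⊢
  have hm := S.hm
  have hm' : (1 : ℤ) ≤ S.m := by exact_mod_cast hm
  have hkey : (4 * ((S.m : ℤ) + 1)) * (n - S.m) = (2 * S.m + 1) * x := by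
    linear_combination hth - ((S.m : ℤ) + 1) * h1
  have hcop : IsCoprime (4 * ((S.m : ℤ) + 1)) (2 * S.m + 1) :=
    ⟨-(S.m : ℤ), 2 * S.m + 1, by ring⟩
  have hdvd : (4 * ((S.m : ℤ) + 1)) ∣ x := by
    apply hcop.dvd_of_dvd_mul_left
    exact ⟨_, hkey.symm⟩
  obtain ⟨k, hk⟩ := hdvd
  refine ⟨k, ?_, ?_⟩
  · rw [hk] at hnn
    by_contra hcon
    push Not at hcon
    nlinarith
  · rw [hk] at hkey
    have h3 : (4 * ((S.m : ℤ) + 1)) * (n - S.m - (2 * S.m + 1) * k) = 0 := by
      linear_combination hkey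
    have h4 := (mul_eq_zero.1 h3).resolve_left (by omega)
    linear_combination h4

end

end Cfsg.Agent.H12.TwoP
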