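import Cfsg.Agent.H12.TwoPH

set_option autoImplicit false
set_option linter.unusedSectionVars false

/-! Wielandt's theorem on primitive groups of degree `2p` (S0720), part I: the special set is
everything. -/

namespace Cfsg.Agent.H12.TwoP

open Matrix MulAction

section

variable {p : ℕ} [hp : Fact p.Prime]

theorem card_eq_of_counts [DecidableEq (ZMod p)] (T : Finset (ZMod p)) (hT0 : (0 : ZMod p) ∉ T)
    (hmul : ∀ z : ZMod p, z ≠ 0 → ∀ t₀ ∈ T, z * t₀ ∈ T → ∀ t ∈ T, z * t ∈ T)
    (hneg : ∀ t ∈ T, -t ∈ T) {m : ℕ} (hm : 1 ≤ m) (hcard : (T.card : ℤ) = 2 * m * (m + 1))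
    {w : ZMod p} (hw : w ∈ T)
    (h1 : ∃ k : ℤ, 0 ≤ k ∧ conv (fun j => if j ∈ T then 1 else 0)
      (fun j => if j ∈ T then 1 else 0) w = 3 * m + (2 * m + 1) * k)
    (h2 : ∀ z : ZMod p, z ≠ 0 → (∀ t ∈ T, z * t ∉ T) → ∃ k : ℤ, 0 ≤ k ∧
      conv (fun j => if ∃ t ∈ T, z * t = j then 1 else 0)
      (fun j => if ∃ t ∈ T, z * t = j then 1 else 0) w = m + (2 * m + 1) * k) :
    T.card = p - 1 := by
  classical
  have hw0 : w ≠ 0 := fun h => hT0 (h ▸ hw)
  have hT0' : ∀ t ∈ T, t ≠ 0 := fun t ht h => hT0 (h ▸ ht)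
  -- the indicator functions
  obtain ⟨i, hi⟩ : ∃ i : (ZMod p)ˣ → ZMod p → ℤ,
      i = fun (z : (ZMod p)ˣ) (j : ZMod p) =>
        if ∃ t ∈ T, (z : ZMod p) * t = j then (1 : ℤ) else 0 :=
    ⟨fun (z : (ZMod p)ˣ) (j : ZMod p) => if ∃ t ∈ T, (z : ZMod p) * t = j then (1 : ℤ) else 0,
      rfl⟩
  have hi' : ∀ z j, i z j = if ((z⁻¹ : (ZMod p)ˣ) : ZMod p) * j ∈ T then 1 else 0 := by
    intro z j
    rw [hi]
    simp only
    congr 1
    rw [eq_iff_iff]
    constructor
    · rintro ⟨t, ht, rfl⟩
      rw [← mul_assoc, Units.inv_mul, one_mul]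
      exact ht
    · intro h
      exact ⟨_, h, by rw [← mul_assoc, Units.mul_inv, one_mul]⟩
  have hmulu : ∀ z : (ZMod p)ˣ, ∀ t₀ ∈ T, (z : ZMod p) * t₀ ∈ T → ∀ t ∈ T, (z : ZMod p) * t ∈ T :=
    fun z => hmul z z.ne_zero
  -- the stabilizer as a subgroup
  have hfin : ∀ z : (ZMod p)ˣ, (∀ t ∈ T, (z : ZMod p) * t ∈ T) →
      ∀ t ∈ T, ((z⁻¹ : (ZMod p)ˣ) : ZMod p) * t ∈ T := by
    intro z hz t ht
    have hinj : Function.Injective fun t : ZMod p => (z : ZMod p) * t :=
      fun a b h => mul_left_cancel₀ z.ne_zero h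
    have himg : T.image (fun t => (z : ZMod p) * t) = T := by
      apply Finset.eq_of_subset_of_card_le
      · intro x hx
        obtain ⟨t, ht, rfl⟩ := Finset.mem_image.1 hx
        exact hz t ht
      · rw [Finset.card_image_of_injective _ hinj]
    rw [← himg] at ht
    obtain ⟨s, hs, rfl⟩ := Finset.mem_image.1 ht
    rw [← mul_assoc, Units.inv_mul, one_mul]
    exact hs
  obtain ⟨H, hH⟩ : ∃ H : Subgroup (ZMod p)ˣ, ∀ z, z ∈ H ↔ ∀ t ∈ T, (z : ZMod p) * t ∈ T := by
    refine ⟨{ carrier := {z | ∀ t ∈ T, (z : ZMod p) * t ∈ T}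
              mul_mem' := ?_
              one_mem' := ?_
              inv_mem' := ?_ }, fun z => Iff.rfl⟩
    · intro a b ha hb t ht
      rw [Units.val_mul, mul_assoc]
      exact ha _ (hb _ ht)
    · intro t ht
      rw [Units.val_one, one_mul]
      exact ht
    · intro a ha
      exact hfin a ha
  have hH' : ∀ z, z ∈ H ↔ (z : ZMod p) * w ∈ T := by
    intro z
    rw [hH]
    exact ⟨fun h => h w hw, fun h => hmulu z w hw h⟩
  -- count of `z` with `z * s ∈ T`
  have hcnt : ∀ s : ZMod p, s ≠ 0 →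
      (Finset.univ.filter fun z : (ZMod p)ˣ => (z : ZMod p) * s ∈ T).card = T.card := by
    intro s hs
    refine Finset.card_bij (fun z _ => (z : ZMod p) * s) ?_ ?_ ?_
    · intro z hz
      exact (Finset.mem_filter.1 hz).2
    · intro a _ b _ h
      exact Units.ext (mul_right_cancel₀ hs h)
    · intro t ht
      refine ⟨Units.mk0 (t * s⁻¹) (mul_ne_zero (hT0' t ht) (inv_ne_zero hs)), ?_, ?_⟩
      · rw [Finset.mem_filter]
        refine ⟨Finset.mem_univ _, ?_⟩
        rw [Units.val_mk0, mul_assoc, inv_mul_cancel₀ hs, mul_one]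
        exact ht
      · show t * s⁻¹ * s = t
        rw [mul_assoc, inv_mul_cancel₀ hs, mul_one]
  have hcnt' : ∀ s : ZMod p, s ≠ 0 →
      (Finset.univ.filter fun z : (ZMod p)ˣ => ((z⁻¹ : (ZMod p)ˣ) : ZMod p) * s ∈ T).card =
        T.card := by
    intro s hs
    rw [← hcnt s hs]
    refine Finset.card_bij (fun z _ => z⁻¹) ?_ ?_ ?_
    · intro z hz
      rw [Finset.mem_filter] at hz ⊢
      exact ⟨Finset.mem_univ _, hz.2⟩
    · intro a _ b _ h
      exact inv_injective h
    · intro b hb
      refine ⟨b⁻¹, ?_, inv_inv b⟩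
      rw [Finset.mem_filter] at hb ⊢
      rw [inv_inv]
      exact ⟨Finset.mem_univ _, hb.2⟩
  have hcardH : Nat.card H = T.card := by
    rw [← hcnt w hw0, ← Nat.card_eq_finsetCard]
    refine Nat.card_congr (Equiv.subtypeEquivRight fun z => ?_)
    rw [Finset.mem_filter, hH']
    simp
  have hdvd : T.card ∣ p - 1 := by
    have h3 := H.card_subgroup_dvd_card
    rwa [hcardH, Nat.card_eq_fintype_card, ZMod.card_units_eq_totient, Nat.totient_prime hp.out]
      at h3
  -- the total sum
  have htot : ∑ z : (ZMod p)ˣ, conv (i z) (i z) w = T.card * (T.card - 1) := by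
    unfold conv
    rw [Finset.sum_comm]
    have haux : ∀ v s : ZMod p, s ≠ 0 → v * (w - s) = (w - s) * s⁻¹ * (v * s) := by
      intro v s hs
      field_simp
    have h3 : ∀ s : ZMod p, ∑ z : (ZMod p)ˣ, i z s * i z (w - s) =
        if s ≠ 0 ∧ (w - s) * s⁻¹ * w ∈ T then (T.card : ℤ) else 0 := by
      intro s
      by_cases hs0 : s = 0
      · rw [if_neg (by simp [hs0])]
        refine Finset.sum_eq_zero fun z _ => ?_
        rw [hi', hs0, mul_zero, if_neg hT0, zero_mul]
      · split_ifs with h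
        · rw [← hcnt' s hs0, Finset.card_eq_sum_ones, Finset.sum_filter, Nat.cast_sum]
          refine Finset.sum_congr rfl fun z _ => ?_
          rw [hi', hi']
          by_cases hz : ((z⁻¹ : (ZMod p)ˣ) : ZMod p) * s ∈ T
          · have h4 : ((z⁻¹ : (ZMod p)ˣ) : ZMod p) * (w - s) ∈ T := by
              have h5 : (w - s) * s⁻¹ ≠ 0 := by
                intro h5
                rw [h5, zero_mul] at h
                exact hT0 h.2
              have h6 := hmul ((w - s) * s⁻¹) h5 w hw h.2 _ hz
              rwa [← haux _ s hs0] at h6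
            rw [if_pos hz, if_pos h4, if_pos hz]
            norm_num
          · rw [if_neg hz, if_neg hz, zero_mul, Nat.cast_zero]
        · refine Finset.sum_eq_zero fun z _ => ?_
          rw [hi', hi']
          by_cases hz : ((z⁻¹ : (ZMod p)ˣ) : ZMod p) * s ∈ T
          · have h4 : ((z⁻¹ : (ZMod p)ˣ) : ZMod p) * (w - s) ∉ T := by
              intro h5
              apply h
              refine ⟨hs0, ?_⟩
              have h6 : (w - s) * s⁻¹ ≠ 0 := by
                intro h6
                have h7 : w - s = 0 := by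
                  rcases mul_eq_zero.1 h6 with h | h
                  · exact h
                  · exact absurd h (inv_ne_zero hs0)
                rw [h7, mul_zero] at h5
                exact hT0 h5
              apply hmul _ h6 _ hz _ w hw
              rwa [← haux _ s hs0]
            rw [if_neg h4, mul_zero]
          · rw [if_neg hz, zero_mul]
    rw [Finset.sum_congr rfl fun s _ => h3 s, ← Finset.sum_filter, Finset.sum_const]
    have h4 : (Finset.univ.filter fun s : ZMod p => s ≠ 0 ∧ (w - s) * s⁻¹ * w ∈ T).card =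
        (T.erase (-w)).card := by
      refine Finset.card_bij (fun s _ => (w - s) * s⁻¹ * w) ?_ ?_ ?_
      · intro s hs
        rw [Finset.mem_filter] at hs
        rw [Finset.mem_erase]
        refine ⟨?_, hs.2.2⟩
        intro h
        have hs0 := hs.2.1
        have h5 : w * w = 0 := by
          have h6 : (w - s) * s⁻¹ * w * s = - w * s := by rw [h]
          have h7 : (w - s) * s⁻¹ * w * s = w * w - w * s := by
            field_simp
          rw [h7] at h6
          linear_combination h6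
        exact hw0 (mul_self_eq_zero.1 h5)
      · intro a ha b hb h
        have ha0 := (Finset.mem_filter.1 ha).2.1
        have hb0 := (Finset.mem_filter.1 hb).2.1
        have h5 : (w - a) * a⁻¹ = (w - b) * b⁻¹ := mul_right_cancel₀ hw0 h
        have h6 : (w - a) * b = (w - b) * a := by
          field_simp at h5
          linear_combination h5
        have h7 : w * (b - a) = 0 := by linear_combination h6
        rcases mul_eq_zero.1 h7 with h8 | h8
        · exact absurd h8 hw0
        · exact (sub_eq_zero.1 h8).symm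
      · intro t ht
        rw [Finset.mem_erase] at ht
        have h5 : t + w ≠ 0 := by
          intro h5
          exact ht.1 (eq_neg_of_add_eq_zero_left h5)
        have h6 : w * w * (t + w)⁻¹ ≠ 0 := mul_ne_zero (mul_ne_zero hw0 hw0) (inv_ne_zero h5)
        have h7 : (w - w * w * (t + w)⁻¹) * (w * w * (t + w)⁻¹)⁻¹ * w = t := by
          field_simp
          ring
        refine ⟨w * w * (t + w)⁻¹, ?_, h7⟩
        rw [Finset.mem_filter]
        refine ⟨Finset.mem_univ _, h6, ?_⟩
        rw [h7]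
        exact ht.2
    rw [h4, Finset.card_erase_of_mem (hneg w hw), nsmul_eq_mul]
    have h5 : 1 ≤ T.card := Finset.card_pos.2 ⟨w, hw⟩
    push_cast [Nat.cast_sub h5]
    ring
  -- lower bounds
  have hex : ∀ z : (ZMod p)ˣ, ∃ k : ℤ, 0 ≤ k ∧ conv (i z) (i z) w =
      (if (z : ZMod p) * w ∈ T then 3 * (m : ℤ) else m) + (2 * m + 1) * k := by
    intro z
    by_cases hz : (z : ZMod p) * w ∈ T
    · obtain ⟨k, hk, h3⟩ := h1
      refine ⟨k, hk, ?_⟩
      rw [if_pos hz, ← h3]
      have h4 : i z = fun j => if j ∈ T then 1 else 0 := by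
        funext j
        rw [hi']
        congr 1
        rw [eq_iff_iff]
        constructor
        · intro h5
          have h6 := hmulu z w hw hz _ h5
          rwa [← mul_assoc, Units.mul_inv, one_mul] at h6
        · intro h5
          exact hfin z (hmulu z w hw hz) j h5
      rw [h4]
    · obtain ⟨k, hk, h3⟩ := h2 z z.ne_zero (by
        intro t ht h4
        exact hz (hmulu z t ht h4 w hw))
      refine ⟨k, hk, ?_⟩
      rw [if_neg hz, ← h3, hi]
  choose k hk hkz using hex
  rw [Finset.sum_congr rfl fun z _ => hkz z, Finset.sum_add_distrib, ← Finset.mul_sum] at htot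
  have hK : 0 ≤ ∑ z, k z := Finset.sum_nonneg fun z _ => hk z
  obtain ⟨K, hKd⟩ : ∃ K, K = ∑ z, k z := ⟨_, rfl⟩
  rw [← hKd] at hK htot
  have hsum : ∑ z : (ZMod p)ˣ, (if (z : ZMod p) * w ∈ T then 3 * (m : ℤ) else m) =
      (p - 1 : ℕ) * m + T.card * (2 * m) := by
    have h3 : ∀ z : (ZMod p)ˣ, (if (z : ZMod p) * w ∈ T then 3 * (m : ℤ) else m) =
        m + if (z : ZMod p) * w ∈ T then 2 * (m : ℤ) else 0 := by
      intro z
      split_ifs
      · ring
      · ring
    rw [Finset.sum_congr rfl fun z _ => h3 z, Finset.sum_add_distrib, ← Finset.sum_filter,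
      Finset.sum_const, Finset.sum_const, hcnt w hw0, Finset.card_univ,
      ZMod.card_units_eq_totient, Nat.totient_prime hp.out, nsmul_eq_mul, nsmul_eq_mul]
  rw [hsum] at htot
  -- arithmetic
  obtain ⟨e, he⟩ := hdvd
  have hp1 : 0 < p - 1 := Nat.sub_pos_of_lt hp.out.one_lt
  have he1 : 1 ≤ e := by
    rcases Nat.eq_zero_or_pos e with h | h
    · rw [h, mul_zero] at he
      omega
    · exact h
  have hm' : (1 : ℤ) ≤ m := by exact_mod_cast hm
  obtain ⟨f, hf⟩ : ∃ f : ℤ, f = T.card := ⟨_, rfl⟩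
  have he' : ((p - 1 : ℕ) : ℤ) = f * e := by rw [he, hf]; push_cast; ring
  rw [he', ← hf] at htot
  rw [← hf] at hcard
  have he1' : (1 : ℤ) ≤ e := by exact_mod_cast he1
  have hfpos : 0 < f := by rw [hcard]; positivity
  -- f (m-1)(2m+1) = (e-1) f m + (2m+1) K
  have hkey : f * (m - 1) * (2 * m + 1) = (e - 1) * f * m + (2 * m + 1) * K := by
    have : f * (f - 1 - 3 * m) = f * ((m - 1) * (2 * m + 1)) := by
      rw [hcard]; ring
    linear_combination -this - htot
  have hcop : IsCoprime ((2 : ℤ) * m + 1) (f * m) := by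
    rw [hcard]
    have h3 : IsCoprime ((2 : ℤ) * m + 1) m := ⟨1, -2, by ring⟩
    have h4 : IsCoprime ((2 : ℤ) * m + 1) (m + 1) := ⟨-1, 2, by ring⟩
    have h5 : IsCoprime ((2 : ℤ) * m + 1) 2 := ⟨1, -m, by ring⟩
    exact ((h5.mul_right h3).mul_right h4).mul_right h3
  have hdvd2 : ((2 : ℤ) * m + 1) ∣ (e - 1) := by
    apply hcop.dvd_of_dvd_mul_right
    refine ⟨f * (m - 1) - K, ?_⟩
    linear_combination -hkey
  obtain ⟨r, hr⟩ := hdvd2
  have hr0 : 0 ≤ r := by
    by_contra hcon
    push Not at hcon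
    nlinarith
  have hr1 : r = 0 := by
    by_contra hcon
    have hr2 : 1 ≤ r := by omega
    have h3 : (2 * (m : ℤ) + 1) * (f * (m - 1) - f * m * r - K) = 0 := by
      rw [hr] at hkey
      linear_combination hkey
    have h4 := (mul_eq_zero.1 h3).resolve_left (by omega)
    have h5 : f * (m - 1) < f * m * r := by
      have h6 : f * m * 1 ≤ f * m * r := by
        apply mul_le_mul_of_nonneg_left hr2
        positivity
      nlinarith
    omega
  rw [hr1, mul_zero] at hr
  have h7 : e = 1 := by omega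
  rw [he, h7, mul_one]

end

section

variable {α : Type*} [Fintype α] [DecidableEq α] {p : ℕ} [hp : Fact p.Prime]
variable {G : Subgroup (Equiv.Perm α)}
variable (C : Coords G p) [Fintype G] [IsPreprimitive G α]
variable (htr : (C.hat (MChar.prim p) C.F).trace = C.th C.F)
variable (S : Special C)

include htr

theorem Special.card_T_eq : (S.T C).card = p - 1 := by
  classical
  obtain ⟨w, hw⟩ := S.T_nonempty C htr
  refine card_eq_of_counts (S.T C) (fun h => S.ne_zero_of_mem C h rfl) ?_ ?_ S.hm
    (S.card_T C htr) hw (S.count_T C htr hw) ?_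
  · intro z hz t₀ ht₀ hzt t ht
    exact S.mul_mem_all C htr hz ht₀ hzt ht
  · intro t ht
    exact S.neg_mem C htr ht
  · intro z hz hzT
    exact S.count_other C htr hw hz hzT

theorem Special.mem_T_of_ne_zero {j : ZMod p} (hj : j ≠ 0) : j ∈ S.T C := by
  classical
  have h1 : S.T C ⊆ Finset.univ.erase 0 := by
    intro t ht
    rw [Finset.mem_erase]
    exact ⟨S.ne_zero_of_mem C ht, Finset.mem_univ _⟩
  have h2 : S.T C = Finset.univ.erase 0 := by
    apply Finset.eq_of_subset_of_card_le h1
    rw [Finset.card_erase_of_mem (Finset.mem_univ _), Finset.card_univ, ZMod.card,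
      S.card_T_eq C htr]
  rw [h2, Finset.mem_erase]
  exact ⟨hj, Finset.mem_univ _⟩

theorem Special.p_eq : p = 2 * S.m ^ 2 + 2 * S.m + 1 := by
  have h1 := S.card_T C htr
  rw [S.card_T_eq C htr] at h1
  have h2 := hp.out.one_lt
  have h3 : ((p - 1 : ℕ) : ℤ) = p - 1 := by
    rw [Nat.cast_sub h2.le]; norm_num
  rw [h3] at h1
  have h4 : (p : ℤ) = ((2 * S.m ^ 2 + 2 * S.m + 1 : ℕ) : ℤ) := by
    push_cast
    linear_combination h1
  exact_mod_cast h4

theorem Special.rel_cases {c d : α} (hcd : c ≠ d) :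
    Rel G S.a S.b c d ∨ Rel G S.a S.b' c d := by
  rcases S.F_cases C htr c d with h | h | h | h
  · exact absurd h hcd
  · exact Or.inl h
  · exact Or.inr h
  · exfalso
    have h0 : C.th (orb G c d) = 0 := by
      by_contra hcon
      exact ((C.F_ne_zero_iff htr (a := c) (b := d)).2 hcon) h
    have hsum := C.sum_cc (orb_inv (G := G) c d)
    rw [h0, add_zero] at hsum
    have hpos := C.ka_pos (G := G) c d
    rw [← hsum] at hpos
    obtain ⟨j, -, hj⟩ := Finset.exists_ne_zero_of_sum_ne_zero hpos.ne'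
    have hj0 : j ≠ 0 := by
      rintro rfl
      exact hj (C.cc_orb_zero hcd)
    have hjT := S.mem_T_of_ne_zero C htr hj0
    rw [S.cc_of_mem C htr hjT (orb_inv _ _)] at hj
    have h1 : orb G c d S.a S.b = 0 := by
      rw [orb_eq_zero_iff]
      intro hr
      have h2 := (C.F_inv (G := G)).rel hr
      rw [h] at h2
      have h3 := S.F_b_pos C htr
      omega
    have h2 : orb G c d S.a S.b' = 0 := by
      rw [orb_eq_zero_iff]
      intro hr
      have h2 := (C.F_inv (G := G)).rel hr
      rw [h] at h2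
      have h3 := S.F_b_pos C htr
      have h4 := S.F_b'_eq C htr
      omega
    rw [h1, h2] at hj
    exact hj (by norm_num)

end

end Cfsg.Agent.H12.TwoP
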