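import Cfsg.Agent.H12.TwoPI
import Cfsg.Agent.H12.JordanCycle

set_option autoImplicit false
set_option linter.unusedSectionVars false

/-! Wielandt's theorem on primitive groups of degree `2p` (S0720), part J: coordinates and the
final assembly. -/

namespace Cfsg.Agent.H12.TwoP

open MulAction

section

variable {α : Type*} [Fintype α] [DecidableEq α] {p : ℕ} [hp : Fact p.Prime]
variable {G : Subgroup (Equiv.Perm α)}

theorem inv_app (f : Equiv.Perm α) (a : α) : f⁻¹ (f a) = a := f.symm_apply_apply a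

/-- a fixed point free element of order `p` gives coordinates -/
theorem exists_coords (hα : Fintype.card α = 2 * p) {x : Equiv.Perm α} (hx : x ∈ G)
    (hxp : orderOf x = p) (hfix : ∀ a, x a ≠ a) : Nonempty (Coords G p) := by
  classical
  have hp0 : 0 < p := hp.out.pos
  have hxp' : x ^ p = 1 := by rw [← hxp]; exact pow_orderOf_eq_one x
  -- powers
  have hfix' : ∀ (n : ℤ) (a : α), (x ^ n) a = a → (p : ℤ) ∣ n := by
    intro n a h
    by_contra hcon
    have hcop : IsCoprime (p : ℤ) n := by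
      rcases (Nat.Prime.coprime_iff_not_dvd hp.out (n := n.natAbs)).2 (by
        intro h1
        exact hcon (Int.natCast_dvd.2 h1)) with h1
      rw [Int.isCoprime_iff_gcd_eq_one]
      exact h1
    obtain ⟨u, v, huv⟩ := hcop
    apply hfix a
    have h1 : x = (x ^ n) ^ v := by
      rw [← zpow_mul]
      have h2 : (x ^ (p : ℤ)) ^ u = 1 := by rw [zpow_natCast, hxp', one_zpow]
      rw [← zpow_mul] at h2
      calc x = x ^ (1 : ℤ) := (zpow_one x).symm
        _ = x ^ ((p : ℤ) * u + n * v) := by rw [← huv]; congr 1; ring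
        _ = x ^ (n * v) := by rw [zpow_add, h2, one_mul]
    have h3 : x ^ n ∈ stabilizer (Equiv.Perm α) a := h
    have h4 : x ∈ stabilizer (Equiv.Perm α) a := by
      rw [h1]
      exact Subgroup.zpow_mem _ h3 v
    exact h4
  have hα0 : 0 < Fintype.card α := by rw [hα]; omega
  obtain ⟨a₀⟩ := Fintype.card_pos_iff.1 hα0
  obtain ⟨a₁, ha₁⟩ : ∃ a₁, ∀ n : ℤ, (x ^ n) a₀ ≠ a₁ := by
    by_contra hcon
    push Not at hcon
    have hsurj : Function.Surjective fun j : ZMod p => (x ^ j.val) a₀ := by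
      intro a
      obtain ⟨n, hn⟩ := hcon a
      refine ⟨(n : ZMod p), ?_⟩
      show (x ^ ((n : ZMod p)).val) a₀ = a
      rw [← hn, ← zpow_natCast, ZMod.val_intCast, ← zpow_mod_orderOf x n, hxp]
    have h1 := Fintype.card_le_of_surjective _ hsurj
    rw [ZMod.card, hα] at h1
    omega
  -- the base points
  obtain ⟨b, hb0, hb1⟩ : ∃ b : Fin 2 → α, b 0 = a₀ ∧ b 1 = a₁ := ⟨![a₀, a₁], rfl, rfl⟩
  have hb : ∀ (i i' : Fin 2) (n : ℤ), (x ^ n) (b i) = b i' → i = i' := by
    intro i i' n h
    fin_cases i <;> fin_cases i'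
    · rfl
    · exfalso
      change (x ^ n) (b 0) = b 1 at h
      rw [hb0, hb1] at h
      exact ha₁ n h
    · exfalso
      change (x ^ n) (b 1) = b 0 at h
      rw [hb0, hb1] at h
      apply ha₁ (-n)
      rw [← h, zpow_neg, inv_app]
    · rfl
  have hinj : Function.Injective fun ij : Fin 2 × ZMod p => (x ^ ij.2.val) (b ij.1) := by
    rintro ⟨i, j⟩ ⟨i', j'⟩ h
    simp only at h
    have h1 : (x ^ ((j.val : ℤ) - j'.val)) (b i) = b i' := by
      rw [sub_eq_neg_add, zpow_add, Equiv.Perm.mul_apply, zpow_natCast, h, zpow_neg, zpow_natCast,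
        inv_app]
    obtain rfl := hb _ _ _ h1
    have h2 := hfix' _ _ h1
    have h3 : j = j' := by
      have h4 := (ZMod.intCast_zmod_eq_zero_iff_dvd ((j.val : ℤ) - j'.val) p).2 h2
      push_cast at h4
      rw [ZMod.natCast_val, ZMod.natCast_val, ZMod.cast_id, ZMod.cast_id] at h4
      exact sub_eq_zero.1 h4
    rw [h3]
  have hbij : Function.Bijective fun ij : Fin 2 × ZMod p => (x ^ ij.2.val) (b ij.1) := by
    rw [Fintype.bijective_iff_injective_and_card]
    refine ⟨hinj, ?_⟩
    rw [Fintype.card_prod, Fintype.card_fin, ZMod.card, hα]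
  refine ⟨⟨Equiv.ofBijective _ hbij, x, hx, ?_⟩⟩
  intro i j
  simp only [Equiv.ofBijective_apply]
  rw [← Equiv.Perm.mul_apply, ← pow_succ']
  have h1 : x ^ (j.val + 1) = x ^ (j + 1).val := by
    rw [ZMod.val_add, ← pow_mod_orderOf x (j.val + 1), hxp]
    congr 1
    rw [ZMod.val_one_eq_one_mod, Nat.add_mod_mod]
  rw [h1]

/-- the case where the element of order `p` has a fixed point -/
theorem two_transitive_of_fixed (hα : Fintype.card α = 2 * p) (hG : IsPreprimitive G α)
    {x : Equiv.Perm α} (hx : x ∈ G) (hxp : orderOf x = p) {a : α} (ha : x a = a) :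
    IsMultiplyPretransitive G α 2 := by
  have hcyc : x.IsCycle := by
    apply Equiv.Perm.isCycle_of_prime_order (by rw [hxp]; exact hp.out)
    rw [hxp, ← hα]
    apply Finset.card_lt_univ_of_notMem (x := a)
    rw [Equiv.Perm.mem_support]
    exact fun h => h ha
  have hcard : x.support.card = p := by rw [← hcyc.orderOf, hxp]
  have h2 := hp.out.two_le
  by_cases hp2 : p = 2
  · have hsw : x.IsSwap := by
      rw [← Equiv.Perm.card_support_eq_two, hcard, hp2]
    have htop := Equiv.Perm.subgroup_eq_top_of_isPreprimitive_of_isSwap_mem hG x hsw hx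
    subst htop
    have h3 := Equiv.Perm.isMultiplyPretransitive α 2
    refine ⟨fun f g => ?_⟩
    obtain ⟨y, hy⟩ := h3.exists_smul_eq f g
    exact ⟨⟨y, trivial⟩, hy⟩
  · have h3 : 3 ≤ p := by omega
    have halt := jordan_prime_cycle G hG hp.out (by omega) hcyc hcard hx
    have h4 := alternatingGroup.isMultiplyPretransitive α
    have h5 : IsMultiplyPretransitive (alternatingGroup α) α 2 :=
      isMultiplyPretransitive_of_le (n := Nat.card α - 2) (by
        rw [Nat.card_eq_fintype_card, hα]; omega) (Nat.sub_le _ _)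
    refine ⟨fun f g => ?_⟩
    obtain ⟨y, hy⟩ := h5.exists_smul_eq f g
    exact ⟨⟨y.1, halt y.2⟩, hy⟩

theorem rel_iff_mem_orbit {a c d : α} :
    Rel G a c a d ↔ d ∈ orbit (stabilizer G a) c := by
  constructor
  · rintro ⟨g, hg, h1, h2⟩
    exact ⟨⟨⟨g, hg⟩, h1⟩, h2⟩
  · rintro ⟨⟨⟨g, hg⟩, h1⟩, h2⟩
    exact ⟨g, hg, h1, h2⟩

/-- the rank three case -/
theorem Special.conclusion (C : Coords G p) [Fintype G] [IsPreprimitive G α]
    (htr : (C.hat (MChar.prim p) C.F).trace = C.th C.F) (S : Special C) (a₀ : α) :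
    Nat.card (orbitRel.Quotient (stabilizer G a₀) α) = 3 ∧
    ∃ a : ℕ, 0 < a ∧ p = 2 * a ^ 2 + 2 * a + 1 ∧ ∀ b : α, b ≠ a₀ →
      Nat.card (orbit (stabilizer G a₀) b) = a * (2 * a + 1) ∨
      Nat.card (orbit (stabilizer G a₀) b) = (a + 1) * (2 * a + 1) := by
  constructor
  · obtain ⟨⟨g, hg⟩, hga⟩ := exists_smul_eq G S.a a₀
    have hr1 : Rel G S.a S.b a₀ (g S.b) := ⟨g, hg, hga, rfl⟩
    have hr2 : Rel G S.a S.b' a₀ (g S.b') := ⟨g, hg, hga, rfl⟩
    have hb1 : a₀ ≠ g S.b := by
      intro h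
      apply S.hab
      apply g.injective
      rw [← h]
      exact hga
    have hb2 : a₀ ≠ g S.b' := by
      intro h
      apply S.hab'
      apply g.injective
      rw [← h]
      exact hga
    obtain ⟨b₁, hb₁⟩ : ∃ b₁, b₁ = g S.b := ⟨_, rfl⟩
    obtain ⟨b₂, hb₂⟩ : ∃ b₂, b₂ = g S.b' := ⟨_, rfl⟩
    rw [← hb₁] at hr1 hb1
    rw [← hb₂] at hr2 hb2
    have hfix : ∀ c, Rel G a₀ c a₀ a₀ → c = a₀ := by
      rintro c ⟨k, -, h1, h2⟩
      exact k.injective (h2.trans h1.symm)
    have h12 : ¬ Rel G a₀ b₁ a₀ b₂ := by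
      intro h
      exact S.not_rel C htr (hr1.trans (h.trans hr2.symm))
    obtain ⟨φ, hφ0, hφ1, hφ2⟩ : ∃ φ : Fin 3 → orbitRel.Quotient (stabilizer G a₀) α,
        φ 0 = Quotient.mk'' a₀ ∧ φ 1 = Quotient.mk'' b₁ ∧ φ 2 = Quotient.mk'' b₂ :=
      ⟨![Quotient.mk'' a₀, Quotient.mk'' b₁, Quotient.mk'' b₂], rfl, rfl, rfl⟩
    have hmk : ∀ c d : α, (Quotient.mk'' c : orbitRel.Quotient (stabilizer G a₀) α) =
        Quotient.mk'' d ↔ Rel G a₀ c a₀ d := by
      intro c d
      rw [Quotient.eq'', orbitRel_apply, ← rel_iff_mem_orbit]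
      exact ⟨fun h => h.symm, fun h => h.symm⟩
    have hbij : Function.Bijective φ := by
      constructor
      · intro i j h
        by_contra hij
        have h01 : φ 0 ≠ φ 1 := by
          rw [hφ0, hφ1, Ne, hmk]
          intro h
          exact hb1 (hfix _ h.symm).symm
        have h02 : φ 0 ≠ φ 2 := by
          rw [hφ0, hφ2, Ne, hmk]
          intro h
          exact hb2 (hfix _ h.symm).symm
        have h12' : φ 1 ≠ φ 2 := by
          rw [hφ1, hφ2, Ne, hmk]
          exact h12
        fin_cases i <;> fin_cases j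
        · exact hij rfl
        · exact h01 h
        · exact h02 h
        · exact h01 h.symm
        · exact hij rfl
        · exact h12' h
        · exact h02 h.symm
        · exact h12' h.symm
        · exact hij rfl
      · intro q
        induction q using Quotient.inductionOn' with
        | h c =>
          by_cases hc : c = a₀
          · exact ⟨0, by rw [hφ0, hc]⟩
          · rcases S.rel_cases C htr (c := a₀) (d := c) (fun h => hc h.symm) with h | h
            · refine ⟨1, ?_⟩
              rw [hφ1, hmk]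
              exact hr1.symm.trans h
            · refine ⟨2, ?_⟩
              rw [hφ2, hmk]
              exact hr2.symm.trans h
    rw [← Nat.card_congr (Equiv.ofBijective φ hbij), Nat.card_eq_fintype_card, Fintype.card_fin]
  · refine ⟨S.m, S.hm, S.p_eq C htr, ?_⟩
    intro b hb
    have h0 := C.ka_eq_card (G := G) a₀ b
    rcases S.rel_cases C htr (c := a₀) (d := b) (fun h => hb h.symm) with h | h
    · left
      rw [← orb_congr h, S.ka_b C htr] at h0
      exact_mod_cast h0.symm
    · right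
      rw [← orb_congr h, S.ka_b' C htr] at h0
      exact_mod_cast h0.symm

end

theorem nat_card_dvd {α : Type*} [Fintype α] (G : Subgroup (Equiv.Perm α)) (a : α)
    [IsPretransitive G α] : Nat.card α ∣ Nat.card G := by
  have h1 := (stabilizer G a).index_dvd_card
  rwa [index_stabilizer_of_transitive] at h1

theorem wielandt_two_p {α : Type*} [Fintype α] [DecidableEq α] {p : ℕ} (hp : p.Prime)
    (hα : Fintype.card α = 2 * p) (G : Subgroup (Equiv.Perm α)) (hG : IsPreprimitive G α)
    (a₀ : α) : IsMultiplyPretransitive G α 2 ∨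
      (Nat.card (orbitRel.Quotient (stabilizer G a₀) α) = 3 ∧
      ∃ a : ℕ, 0 < a ∧ p = 2 * a ^ 2 + 2 * a + 1 ∧ ∀ b : α, b ≠ a₀ →
        Nat.card (orbit (stabilizer G a₀) b) = a * (2 * a + 1) ∨
        Nat.card (orbit (stabilizer G a₀) b) = (a + 1) * (2 * a + 1)) := by
  classical
  have : Fact p.Prime := ⟨hp⟩
  have hfin : Fintype G := Fintype.ofFinite G
  have hdvd : p ∣ Nat.card G := by
    have h1 : Nat.card α ∣ Nat.card G := by
      have h2 := nat_card_dvd G a₀
      exact h2
    rw [Nat.card_eq_fintype_card, hα] at h1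
    exact (Dvd.intro_left 2 rfl).trans h1
  obtain ⟨x, hx⟩ := exists_prime_orderOf_dvd_card' p hdvd
  have hxp : orderOf (x : Equiv.Perm α) = p := by rw [Subgroup.orderOf_coe, hx]
  by_cases hfix : ∀ a, (x : Equiv.Perm α) a ≠ a
  · obtain ⟨C⟩ := exists_coords hα x.2 hxp hfix
    rcases C.trichotomy with h | h | h
    · exact absurd h C.not_case_zero
    · exact Or.inl (C.two_transitive_of_case_one h)
    · right
      obtain ⟨S⟩ := C.exists_special h
      exact S.conclusion C h a₀
  · push Not at hfix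
    obtain ⟨a, ha⟩ := hfix
    exact Or.inl (two_transitive_of_fixed hα hG x.2 hxp ha)

end Cfsg.Agent.H12.TwoP
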